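import Cfsg.Agent.Lib.InvChar.M12C.Table
import Mathlib.GroupTheory.SpecificGroups.Dihedral

/-!
# The centraliser in the table of the involution `a`
-/

set_option autoImplicit false
set_option maxRecDepth 100000
set_option Elab.async false

namespace CfsgLib.InvChar.M12C

/-- Numbers of the rotations. -/
def rotList : List ℕ := [0, 16, 1, 19]

/-- Numbers of the reflections: `b`, `X`, `b * z`, `X * z`. -/
def refList : List ℕ := [3, 4, 8, 9]

/-- The number of an element of the dihedral complement of `a`. -/
def dIdx : DihedralGroup 4 → ℕ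
  | .r i => rotList.getD i.val 0
  | .sr i => refList.getD i.val 0

/-- The numbers `1, z` and those of class size 6. -/
def cenaList : List ℕ := [0, 1, 4, 9, 80, 93, 110, 119]

/-- Power of a number. -/
noncomputable def pw (i : ℕ) : ℕ → ℕ
  | 0 => 0
  | k + 1 => mul (pw i k) i

/-- The central involution is a power. -/
noncomputable def hitsT (i : ℕ) : Bool := (List.range 24).any fun k => Nat.beq (pw i k) zi

/-- Pairs counted in the order formula. -/
noncomputable def countPairs (P Q : ℕ → Bool) : ℕ :=
  ((List.range 192).map fun p =>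
    bif P p then ((List.range 192).filter fun q => Q q && hitsT (mul p q)).length else 0).sum

theorem dIdx_lt : ∀ d : DihedralGroup 4, dIdx d < 192 := by decide +kernel

theorem dIdx_mul : ∀ d d' : DihedralGroup 4, mul (dIdx d) (dIdx d') = dIdx (d * d') := by
  decide +kernel

theorem dIdx_inj : ∀ d d' : DihedralGroup 4, dIdx d = dIdx d' → d = d' := by decide +kernel

theorem dIdx_vals : dIdx 1 = 0 ∧ dIdx (.r 2) = zi ∧ dIdx (.sr 0) = bi ∧ dIdx (.sr 1) = Xi ∧
    dIdx (.sr 2) = bzi ∧ dIdx (.sr 3) = 9 := by decide +kernel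

theorem dIdx_ne_a : ∀ d : DihedralGroup 4, dIdx d ≠ ai ∧ comm (dIdx d) ai = true := by
  decide +kernel

theorem cent_a_chk : all192 (fun c => !comm c ai || (List.range 4).any fun i =>
    Nat.beq c (rotList.getD i 0) || Nat.beq c (refList.getD i 0) ||
      Nat.beq (mul c ai) (rotList.getD i 0) || Nat.beq (mul c ai) (refList.getD i 0)) = true := by
  decide +kernel

theorem range_mem (i : ℕ) (hi : i < 4) :
    (∃ d, dIdx d = rotList.getD i 0) ∧ ∃ d, dIdx d = refList.getD i 0 := by
  refine ⟨⟨.r (i : ZMod 4), ?_⟩, ⟨.sr (i : ZMod 4), ?_⟩⟩ <;>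
    · simp only [dIdx]
      congr 1
      exact Nat.mod_eq_of_lt hi

theorem lab_prods : lab (mul zi ai) = 12 ∧ lab bi = 12 ∧ lab (mul bi ai) = 12 ∧ lab bzi = 12 ∧
    lab (mul bzi ai) = 12 ∧ lab Xi = 6 ∧ lab (mul Xi ai) = 12 ∧ lab 9 = 6 ∧ lab (mul 9 ai) = 12 := by
  decide +kernel

theorem cent_two_chk : all192 (fun i =>
    !(Nat.beq (lab i) 6 || Nat.beq (lab i) 12 || Nat.beq (lab i) 24) ||
      all192 fun c => !comm c i || Nat.beq (pw c 8) 0) = true := by decide +kernel

theorem pow_chk : all192 (fun i => Nat.beq (pw i 24) 0) = true := by decide +kernel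

theorem conj_w_chk : all192 (fun k => !Nat.beq (conj k wi) ai) = true := by decide +kernel

theorem z_class_in_cent : all192 (fun c => !comm c ai ||
    (!Nat.beq (lab c) 24 && (!Nat.beq (lab c) 6 || Nat.beq c Xi || Nat.beq c 9))) = true := by
  decide +kernel

theorem wList_chk : all192 (fun i => cenaList.contains i ==
    (Nat.beq (lab i) 1 || Nat.beq (lab i) 6 || Nat.beq i 0)) = true ∧
    cenaList.all (fun i => cenaList.all fun j => cenaList.contains (mul i j)) = true ∧
    cenaList.all (fun i => cenaList.contains (inv i)) = true ∧ cenaList.Nodup := by decide +kernel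

theorem count_joined : countPairs (fun p => Nat.beq (lab p) 1 || Nat.beq (lab p) 6 || Nat.beq (lab p) 24)
    (fun q => Nat.beq (lab q) 12) = 240 := by decide +kernel

theorem count_split : countPairs (fun p => Nat.beq (lab p) 1 || Nat.beq (lab p) 6)
    (fun q => Nat.beq (lab q) 12 || Nat.beq (lab q) 24) = 48 := by decide +kernel

theorem four_chk : ([51, 60, 98, 101] : List ℕ).all (fun k => Nat.blt k 192 &&
    (Nat.beq (lab k) 6 || Nat.beq (lab k) 24) && Nat.beq (mul (mul wi k) (mul wi k)) zi) = true := by
  decide +kernel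

end CfsgLib.InvChar.M12C
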