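import Mathlib.GroupTheory.Perm.Basic
import Mathlib.GroupTheory.Perm.Sign
import Mathlib.Data.Fintype.Perm
import Mathlib.Tactic

/-!
# Involutions of the symmetric groups of degree four and five
-/

set_option autoImplicit false
set_option maxRecDepth 100000

namespace CfsgLib.InvChar.M12C

variable {n : ℕ}

/-- The number of moved points. -/
def moved (s : Equiv.Perm (Fin n)) : ℕ := (Finset.univ.filter fun i => s i ≠ i).card

/-- The number of elements commuting with `s`. -/
def centCard (s : Equiv.Perm (Fin n)) : ℕ :=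
  (Finset.univ.filter fun g : Equiv.Perm (Fin n) => g * s = s * g).card

/-- Every further involution commuting with `s` moves four points. -/
def ThirdOK (s b : Equiv.Perm (Fin n)) : Prop :=
  ∀ x : Equiv.Perm (Fin n), (x * x = 1 ∧ x * s = s * x) →
    x = 1 ∨ x = s ∨ x = b ∨ x = b * s ∨ moved x = 4

instance (s b : Equiv.Perm (Fin n)) : Decidable (ThirdOK s b) := by
  unfold ThirdOK; infer_instance

/-- The facts needed about the degree `n`. -/
structure InvolFacts (n : ℕ) : Prop where
  eight : ∀ s : Equiv.Perm (Fin n), s * s = 1 → centCard s = 8 → moved s = 4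
  third : ∀ s : Equiv.Perm (Fin n), (s * s = 1 ∧ moved s = 4) → ∀ b : Equiv.Perm (Fin n),
    (b * b = 1 ∧ b * s = s * b ∧ ¬ moved b = 4 ∧ ¬ moved (b * s) = 4) → b = 1 ∨ ThirdOK s b
  conj : ∀ s : Equiv.Perm (Fin n), s * s = 1 → ∀ x : Equiv.Perm (Fin n), x * x = 1 →
    moved s = moved x → ∃ g, g * s * g⁻¹ = x

theorem involFacts_four : InvolFacts 4 :=
  ⟨by decide +kernel, by decide +kernel, by decide +kernel⟩

theorem involFacts_five : InvolFacts 5 :=
  ⟨by decide +kernel, by decide +kernel, by decide +kernel⟩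

/-- An element exchanging `b` and `c` can be standardised with them. -/
def RelabelOK (b c : Equiv.Perm (Fin 5)) : Prop :=
  ∀ x : Equiv.Perm (Fin 5), (x * x = 1 ∧ x * b * x = c ∧ moved x = 4) →
    ∃ g : Equiv.Perm (Fin 5), g * Equiv.swap 0 1 * g⁻¹ = b ∧ g * Equiv.swap 2 3 * g⁻¹ = c ∧
      g * (Equiv.swap 0 2 * Equiv.swap 1 3) * g⁻¹ = x

instance (b c : Equiv.Perm (Fin 5)) : Decidable (RelabelOK b c) := by
  unfold RelabelOK; infer_instance

/-- Relabelling of two commuting transpositions and an element exchanging them. -/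
theorem relabel_five : ∀ b : Equiv.Perm (Fin 5), (b * b = 1 ∧ b ≠ 1 ∧ ¬ moved b = 4) →
    ∀ c : Equiv.Perm (Fin 5), (c * c = 1 ∧ c ≠ 1 ∧ ¬ moved c = 4 ∧ b * c = c * b ∧ b ≠ c) →
      RelabelOK b c := by
  decide +kernel

theorem sign_facts : (∀ s : Equiv.Perm (Fin 5), (s * s = 1 ∧ s ≠ 1 ∧ ¬ moved s = 4) →
      Equiv.Perm.sign s = -1) ∧
    (∀ s : Equiv.Perm (Fin 5), (s * s = 1 ∧ moved s = 4) → Equiv.Perm.sign s = 1) := by
  decide +kernel

end CfsgLib.InvChar.M12C
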