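import Cfsg.Agent.Lib.InvChar.M12C.Fusion
import Cfsg.Agent.Lib.InvChar.M12C.CentAData
import Cfsg.Agent.Lib.InvChar.M12C.PermFacts
import Cfsg.Agent.S1875

/-!
# The centraliser of the non-2-central involution

It is `Z₂ × S₅`; the other possibilities are ruled out by the order formula.
-/

set_option autoImplicit false
set_option maxRecDepth 100000
set_option Elab.async false

namespace CfsgLib.InvChar.M12C

open CfsgLib.Invol Subgroup

universe u

theorem eq_of_moved {n : ℕ} (F : InvolFacts n) {Q : Type*} [Group Q] [Finite Q]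
    (e : Q ≃* Equiv.Perm (Fin n)) {z b x : Q} (hz : z * z = 1) (hb : b * b = 1) (hx : x * x = 1)
    (hbz : b * z = z * b) (hxz : x * z = z * x)
    (hcard : Nat.card (centralizer ({z} : Set Q)) = 8)
    (hb1 : b ≠ 1) (hbc : ¬ IsConj b z) (hbzc : ¬ IsConj (b * z) z)
    (hx1 : x ≠ 1) (hxn : x ≠ z ∧ x ≠ b ∧ x ≠ b * z) :
    moved (e z) = 4 ∧ moved (e b) ≠ 4 ∧ moved (e x) = 4 ∧ IsConj z x := by
  classical
  have hs : e z * e z = 1 := by rw [← map_mul, hz, map_one]
  have hbb : e b * e b = 1 := by rw [← map_mul, hb, map_one]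
  have hxx : e x * e x = 1 := by rw [← map_mul, hx, map_one]
  have hcc : centCard (e z) = 8 := by
    rw [centCard, ← hcard, ← Fintype.card_subtype, ← Nat.card_eq_fintype_card]
    refine Nat.card_congr (e.toEquiv.subtypeEquiv fun q => ?_).symm
    show q ∈ centralizer ({z} : Set Q) ↔ e q * e z = e z * e q
    rw [mem_centralizer_singleton_iff, ← map_mul, ← map_mul, e.injective.eq_iff]
  have hm := F.eight _ hs hcc
  have hconj : ∀ y : Q, y * y = 1 → moved (e y) = 4 → IsConj y z := fun y hy hy4 => by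
    obtain ⟨g, hg⟩ := F.conj (e y) (by rw [← map_mul, hy, map_one]) _ hs (hy4.trans hm.symm)
    refine isConj_iff.2 ⟨e.symm g, e.injective ?_⟩
    rw [map_mul, map_mul, map_inv, MulEquiv.apply_symm_apply, hg]
  have hbn : moved (e b) ≠ 4 := fun h => hbc (hconj b hb h)
  have hbzn : moved (e b * e z) ≠ 4 := by
    rw [← map_mul]
    exact fun h => hbzc (hconj _ (by
      rw [show b * z * (b * z) = b * (z * b) * z by group, ← hbz, ← mul_assoc b b z, hb, one_mul, hz]) h)
  rcases F.third _ ⟨hs, hm⟩ (e b) ⟨hbb, by rw [← map_mul, hbz, map_mul], hbn, hbzn⟩ with h | h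
  · exact absurd ((EmbeddingLike.map_eq_one_iff (f := e)).1 h) hb1
  rcases h (e x) ⟨hxx, by rw [← map_mul, hxz, map_mul]⟩ with h | h | h | h | h
  · exact absurd ((EmbeddingLike.map_eq_one_iff (f := e)).1 h) hx1
  · exact absurd (e.injective h) hxn.1
  · exact absurd (e.injective h) hxn.2.1
  · exact absurd (e.injective (h.trans (map_mul e b z).symm)) hxn.2.2
  · exact ⟨hm, hbn, h, (hconj x hx h).symm⟩

namespace Data

variable {G : Type u} [Group G] {t : G} (D : Data t)
include D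

/-- The centraliser of `a`. -/
abbrev CA : Subgroup G := centralizer ({D.el ai} : Set G)

theorem dIdx_mem (d : DihedralGroup 4) : D.el (dIdx d) ∈ D.CA :=
  mem_centralizer_singleton_iff.2
    (D.el_commute_of (dIdx_lt d) lt_facts.2.1 (dIdx_ne_a d).2)

/-- The dihedral complement of `a`. -/
def psiA : DihedralGroup 4 →* ↥D.CA :=
  MonoidHom.mk' (fun d => ⟨D.el (dIdx d), D.dIdx_mem d⟩) fun d d' => Subtype.ext (by
    show D.el (dIdx (d * d')) = D.el (dIdx d) * D.el (dIdx d')
    rw [D.el_mul (dIdx_lt d) (dIdx_lt d'), dIdx_mul])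

theorem psiA_val (d : DihedralGroup 4) : ((D.psiA d : ↥D.CA) : G) = D.el (dIdx d) := rfl

/-- `a` in its centraliser. -/
def aX : ↥D.CA := ⟨D.el ai, mem_centralizer_singleton_iff.2 rfl⟩

theorem mul_a {i : ℕ} (hi : i < 192) : D.el i * D.el ai = D.el (mul i ai) :=
  D.el_mul hi lt_facts.2.1

theorem not_isConj_twelve {i : ℕ} (hi : i < 192) (hl : lab i = 12) : ¬ IsConj t (D.el i) :=
  fun h => D.not_isConj_a (h.trans (D.isConj_twelve hi hl).symm)

/-- Membership in `⟨a⟩ × D₈`. -/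
theorem cent_a {g : G} (hga : g * D.el ai = D.el ai * g) (hgt : g * t = t * g) :
    ∃ d, D.el (dIdx d) = g ∨ D.el (dIdx d) = g * D.el ai := by
  obtain ⟨c, hc, rfl⟩ := D.mem.1 hgt
  have h := all192_get cent_a_chk hc
  rw [(D.el_commute hc lt_facts.2.1).1 hga] at h
  simp only [Bool.not_true, Bool.false_or, List.any_eq_true, List.mem_range, Bool.or_eq_true] at h
  obtain ⟨i, hi, ((h | h) | h) | h⟩ := h
  all_goals have h := Nat.eq_of_beq_eq_true h
  · obtain ⟨d, hd⟩ := (range_mem i hi).1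
    exact ⟨d, Or.inl (by rw [hd, h])⟩
  · obtain ⟨d, hd⟩ := (range_mem i hi).2
    exact ⟨d, Or.inl (by rw [hd, h])⟩
  · obtain ⟨d, hd⟩ := (range_mem i hi).1
    exact ⟨d, Or.inr (by rw [hd, ← h, D.mul_a hc])⟩
  · obtain ⟨d, hd⟩ := (range_mem i hi).2
    exact ⟨d, Or.inr (by rw [hd, ← h, D.mul_a hc])⟩

theorem centTwo : CentTwo D.aX (D.psiA (.r 2)) D.psiA where
  cen g := Subtype.ext (mem_centralizer_singleton_iff.1 g.2)
  ha := by
    rw [← orderOf_coe]
    exact D.invol_of_lab lt_facts.2.1 (by rw [lab_zi.2.1]; decide)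
  inj d d' e := dIdx_inj d d' (D.el_inj (dIdx_lt d) (dIdx_lt d') (congrArg Subtype.val e))
  hz := rfl
  nA := by
    rintro ⟨d, hd⟩
    exact (dIdx_ne_a d).1 (D.el_inj (dIdx_lt d) lt_facts.2.1 (congrArg Subtype.val hd))
  cent g hg := by
    have hg' : (g : G) * t = t * g := by
      have := congrArg Subtype.val hg
      simp only [Subgroup.coe_mul, psiA_val, dIdx_vals.2.1, D.el_zi] at this
      exact this
    obtain ⟨d, hd | hd⟩ := D.cent_a (mem_centralizer_singleton_iff.1 g.2) hg'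
    · exact Or.inl ⟨d, Subtype.ext hd⟩
    · exact Or.inr ⟨d, Subtype.ext hd⟩
  nza g e := by
    have e' := congrArg Subtype.val e
    simp only [Subgroup.coe_mul, InvMemClass.coe_inv, psiA_val, dIdx_vals.2.1] at e'
    rw [show ((D.aX : ↥D.CA) : G) = D.el ai from rfl, D.mul_a lt_facts.1, D.el_zi] at e'
    exact D.not_isConj_twelve (mul_lt lt_facts.1 lt_facts.2.1) lab_prods.1
      (isConj_iff.2 ⟨g, e'⟩)

/-- Elements of `C(a)` are not conjugate to `t` if their class has size 12. -/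
theorem psi_not_conj (g : ↥D.CA) {i : ℕ} (hi : i < 192) (hl : lab i = 12) {v : ↥D.CA}
    (hv : (v : G) = D.el i) : g * D.psiA (.r 2) * g⁻¹ ≠ v := fun e => by
  have e' := congrArg Subtype.val e
  simp only [Subgroup.coe_mul, InvMemClass.coe_inv, psiA_val, dIdx_vals.2.1, D.el_zi, hv] at e'
  exact D.not_isConj_twelve hi hl (isConj_iff.2 ⟨g, e'⟩)

theorem psi_mul_a (d : DihedralGroup 4) :
    ((D.psiA d * D.aX : ↥D.CA) : G) = D.el (mul (dIdx d) ai) := D.mul_a (dIdx_lt d)

variable [Finite G] [IsSimpleGroup G] (hG : ¬ IsMulCommutative G)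
include hG

theorem isConj_six_t {i : ℕ} (hi : i < 192) (hl : lab i = 6) {g : G}
    (h : D.el i = g) : IsConj g t := h ▸ (D.isConj_t_of_six hG hi hl).symm

/-- `C(a)` has order 16, or is `Z₂ × S₄` or `Z₂ × S₅` modulo `a`. -/
theorem quot_cases_a [(zpowers D.aX).Normal] :
    (Nat.card ↥D.CA = 16 ∧ ∀ g : ↥D.CA, g * D.psiA (.r 2) = D.psiA (.r 2) * g) ∨
      Nonempty (↥D.CA ⧸ zpowers D.aX ≃* Equiv.Perm (Fin 4)) ∨
      Nonempty (↥D.CA ⧸ zpowers D.aX ≃* Equiv.Perm (Fin 5)) := by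
  obtain ⟨-, -, hb, hX, hbz, hXz⟩ := dIdx_vals
  obtain ⟨-, l2, l3, -, -, l6, l7, l8, l9⟩ := lab_prods
  refine D.centTwo.quot_cases ⟨.sr 0, by decide, by decide, by decide, fun g => ⟨?_, ?_⟩⟩
    ⟨.sr 1, by decide, by decide, by decide, ?_⟩
  · exact D.psi_not_conj g (dIdx_lt _) (by rw [hb]; exact l2) rfl
  · exact D.psi_not_conj g (mul_lt (dIdx_lt _) lt_facts.2.1) (by rw [hb]; exact l3) (D.psi_mul_a _)
  intro d' hd'
  obtain ⟨hl, hla⟩ : lab (dIdx d') = 6 ∧ lab (mul (dIdx d') ai) = 12 := by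
    rcases hd' with rfl | hd'
    · rw [hX]; exact ⟨l6, l7⟩
    · rw [Set.mem_singleton_iff.1 hd', show (DihedralGroup.sr 1 * DihedralGroup.r 2 : DihedralGroup 4) =
        .sr 3 by decide, hXz]
      exact ⟨l8, l9⟩
  have hconj := D.isConj_six_t hG (dIdx_lt d') hl rfl
  refine ⟨fun g e => ?_, fun g hg q hq hgq => ?_⟩
  · have e' := congrArg Subtype.val e
    simp only [Subgroup.coe_mul, InvMemClass.coe_inv, psiA_val] at e'
    rw [show ((D.aX : ↥D.CA) : G) = D.el ai from rfl, D.mul_a (dIdx_lt d')] at e'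
    exact D.not_isConj_twelve (mul_lt (dIdx_lt d') lt_facts.2.1) hla
      (hconj.symm.trans (isConj_iff.2 ⟨g, e'⟩))
  · obtain ⟨h, hh⟩ := isConj_iff.1 hconj
    have hg' : (g : G) * D.el (dIdx d') = D.el (dIdx d') * g := congrArg Subtype.val hg
    have ha' := conj_comm h (mem_centralizer_singleton_iff.1 g.2)
    have hd : h * D.el ai * h⁻¹ * t = t * (h * D.el ai * h⁻¹) := by
      have e := conj_comm h (D.el_commute_of (dIdx_lt d') lt_facts.2.1 (dIdx_ne_a d').2)
      rw [hh] at e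
      exact e.symm
    have hgt : h * g * h⁻¹ * t = t * (h * g * h⁻¹) := by
      have e := conj_comm h hg'
      rwa [hh] at e
    obtain ⟨c, hc, hce⟩ := D.mem.1 hgt
    have hao : orderOf (h * D.el ai * h⁻¹) = 2 :=
      (orderOf_conj_eq _ _).trans (D.invol_of_lab lt_facts.2.1 (by rw [lab_zi.2.1]; decide))
    obtain ⟨j, hj, hje, hl', -⟩ := D.exists_wit hao hd
    have hjl : (Nat.beq (lab j) 6 || Nat.beq (lab j) 12 || Nat.beq (lab j) 24) = true := by
      rcases hl' with e | e | e | e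
      · refine absurd ?_ D.not_isConj_a
        rw [D.eq_t_of_lab_one hj e] at hje
        exact (isConj_iff.2 ⟨h, hje.symm⟩ : IsConj (D.el ai) t).symm
      all_goals simp [e]
    have h8 := all192_get cent_two_chk hj
    rw [hjl] at h8
    have h8' := all192_get (by simpa using h8 : _ = true) hc
    rw [← hce, ← hje] at ha'
    rw [(D.el_commute hc hj).1 ha'] at h8'
    have h8'' : D.el (pw c 8) = 1 := by
      rw [Nat.eq_of_beq_eq_true (by simpa using h8' : Nat.beq (pw c 8) 0 = true), D.el_zero]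
    have hpw : ∀ k, D.el (pw c k) = D.el c ^ k ∧ pw c k < 192 := by
      intro k
      induction k with
      | zero => exact ⟨by rw [pow_zero]; exact D.el_zero, show 0 < 192 by norm_num⟩
      | succ k ih => exact ⟨by rw [pow_succ, ← ih.1, D.el_mul ih.2 hc]; rfl, mul_lt ih.2 hc⟩
    rw [(hpw 8).1, hce, conj_pow, conj_eq_one_iff] at h8''
    have hd8 : q ∣ 2 ^ 3 := by
      rw [← hgq, ← orderOf_coe]
      exact orderOf_dvd_of_pow_eq_one h8''
    exact (Nat.prime_dvd_prime_iff_eq hq Nat.prime_two).1 (hq.dvd_of_dvd_pow hd8)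

end Data

end CfsgLib.InvChar.M12C
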