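import Cfsg.Agent.Lib.InvChar.M12C.CentAStruct
import Cfsg.Agent.S1875

/-!
# The order formula and the exclusion of the small centralisers
-/

set_option autoImplicit false
set_option maxRecDepth 100000
set_option Elab.async false

namespace CfsgLib.InvChar.M12C

open CfsgLib.Invol Subgroup

universe u

namespace Data

variable {G : Type u} [Group G] {t : G} (D : Data t)
include D

theorem el_pw {i : ℕ} (hi : i < 192) : ∀ k, D.el (pw i k) = D.el i ^ k ∧ pw i k < 192
  | 0 => ⟨by rw [pow_zero]; exact D.el_zero, show 0 < 192 by norm_num⟩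
  | k + 1 => by
    obtain ⟨h1, h2⟩ := el_pw hi k
    exact ⟨by rw [pow_succ, ← h1, D.el_mul h2 hi]; rfl, mul_lt h2 hi⟩

theorem hitsT_iff {i : ℕ} (hi : i < 192) : hitsT i = true ↔ t ∈ zpowers (D.el i) := by
  have h24 : D.el i ^ (24 : ℤ) = 1 := by
    rw [show ((24 : ℤ)) = ((24 : ℕ) : ℤ) from rfl, zpow_natCast, ← (D.el_pw hi 24).1,
      Nat.eq_of_beq_eq_true (all192_get pow_chk hi), D.el_zero]
  constructor
  · intro h
    obtain ⟨k, -, hk⟩ := List.any_eq_true.1 h
    refine mem_zpowers_iff.2 ⟨k, ?_⟩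
    rw [zpow_natCast, ← (D.el_pw hi k).1, Nat.eq_of_beq_eq_true hk, D.el_zi]
  · intro h
    obtain ⟨k, hk⟩ := mem_zpowers_iff.1 h
    refine List.any_eq_true.2 ⟨(k % 24).toNat, List.mem_range.2 (by omega), ?_⟩
    have e : D.el (pw i (k % 24).toNat) = t := by
      rw [(D.el_pw hi _).1, ← zpow_natCast, Int.toNat_of_nonneg (Int.emod_nonneg _ (by norm_num))]
      calc D.el i ^ (k % 24) = (D.el i ^ (24 : ℤ)) ^ (k / 24) * D.el i ^ (k % 24) := by
            rw [h24, one_zpow, one_mul]
        _ = t := by rw [← zpow_mul, ← zpow_add, Int.mul_ediv_add_emod, hk]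
    rw [D.el_inj (D.el_pw hi _).2 lt_facts.1 (e.trans D.el_zi.symm)]
    exact Nat.beq_refl _

theorem countPairs_eq (P Q : ℕ → Bool) : countPairs P Q =
    ((Finset.range 192 ×ˢ Finset.range 192).filter fun p : ℕ × ℕ =>
      (P p.1 && (Q p.2 && hitsT (mul p.1 p.2))) = true).card := by
  classical
  rw [Finset.card_filter, Finset.sum_product]
  show ((List.range 192).map _).sum = _
  rw [← List.sum_toFinset _ List.nodup_range, List.toFinset_range]
  refine Finset.sum_congr rfl fun p _ => ?_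
  rw [← Finset.card_filter]
  rw [← List.toFinset_range, ← List.toFinset_card_of_nodup (List.nodup_range.filter _),
    List.toFinset_filter]
  rcases hP : P p with _ | _ <;> simp [hP]

/-- The contribution of `t` to the order formula. -/
theorem count_t (P Q : ℕ → Bool) (hP : ∀ i < 192, (P i = true ↔ IsConj t (D.el i)))
    (hQ : ∀ i < 192, (Q i = true ↔ IsConj (D.el ai) (D.el i))) :
    Nat.card {q : G × G // IsConj t q.1 ∧ IsConj (D.el ai) q.2 ∧ t ∈ zpowers (q.1 * q.2)} =
      countPairs P Q := by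
  classical
  rw [countPairs_eq D P Q, ← Nat.card_eq_finsetCard]
  have hmem : ∀ p : ((Finset.range 192 ×ˢ Finset.range 192).filter fun p : ℕ × ℕ =>
      (P p.1 && (Q p.2 && hitsT (mul p.1 p.2))) = true), p.1.1 < 192 ∧ p.1.2 < 192 ∧
        IsConj t (D.el p.1.1) ∧ IsConj (D.el ai) (D.el p.1.2) ∧
        t ∈ zpowers (D.el p.1.1 * D.el p.1.2) := by
    rintro ⟨⟨p, q⟩, hpq⟩
    simp only [Finset.mem_filter, Finset.mem_product, Finset.mem_range, Bool.and_eq_true] at hpq
    obtain ⟨⟨hp, hq⟩, hP', hQ', hh⟩ := hpq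
    exact ⟨hp, hq, (hP p hp).1 hP', (hQ q hq).1 hQ', by
      rw [D.el_mul hp hq]; exact (D.hitsT_iff (mul_lt hp hq)).1 hh⟩
  refine (Nat.card_eq_of_bijective (fun p => ⟨(D.el p.1.1, D.el p.1.2), (hmem p).2.2⟩) ⟨?_, ?_⟩).symm
  · intro p q e
    have e' := congrArg Subtype.val e
    simp only [Prod.mk.injEq] at e'
    exact Subtype.ext (Prod.ext (D.el_inj (hmem p).1 (hmem q).1 e'.1)
      (D.el_inj (hmem p).2.1 (hmem q).2.1 e'.2))
  · rintro ⟨⟨p, q⟩, hp, hq, ht⟩
    have hpo := (orderOf_eq_of_isConj hp).trans D.orderOf_t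
    have hqo := (orderOf_eq_of_isConj hq).trans
      (D.invol_of_lab lt_facts.2.1 (by rw [lab_zi.2.1]; decide))
    obtain ⟨k, hk⟩ := mem_zpowers_iff.1 ht
    have hkinv : ((p * q) ^ k)⁻¹ = (p * q) ^ k := by rw [hk]; exact invol_inv D.orderOf_t
    have hpt : p * t = t * p := by
      rw [← hk, ← mul_inv_eq_iff_eq_mul, conj_zpow_inv (by
        rw [_root_.mul_inv_rev, invol_inv hpo, invol_inv hqo,
          ← mul_assoc p p q, invol_mul_self hpo, one_mul]), hkinv]
    have hqt : q * t = t * q := by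
      rw [← hk, ← mul_inv_eq_iff_eq_mul, conj_zpow_inv (by
        rw [_root_.mul_inv_rev, invol_inv hpo, invol_inv hqo, mul_assoc, mul_assoc p q q,
          invol_mul_self hqo, mul_one]), hkinv]
    obtain ⟨i, hi, rfl⟩ := D.mem.1 hpt
    obtain ⟨j, hj, rfl⟩ := D.mem.1 hqt
    refine ⟨⟨(i, j), ?_⟩, rfl⟩
    simp only [Finset.mem_filter, Finset.mem_product, Finset.mem_range, Bool.and_eq_true]
    exact ⟨⟨hi, hj⟩, (hP i hi).2 hp, (hQ j hj).2 hq, (D.hitsT_iff (mul_lt hi hj)).2 (by
      rw [← D.el_mul hi hj]; exact ht)⟩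

theorem ne_a : t ≠ D.el ai := fun e => D.not_isConj_a (e ▸ IsConj.refl t)

variable [Finite G] [IsSimpleGroup G] (hG : ¬ IsMulCommutative G)
include hG

/-- Labels of the class of `t` if the class of size 24 joins it. -/
theorem classes_joined (hw : IsConj t (D.el wi)) : ∀ i < 192,
    ((Nat.beq (lab i) 1 || Nat.beq (lab i) 6 || Nat.beq (lab i) 24) = true ↔ IsConj t (D.el i)) ∧
    (Nat.beq (lab i) 12 = true ↔ IsConj (D.el ai) (D.el i)) := by
  intro i hi
  have hinv : ∀ v : G, orderOf v = 2 → IsConj v (D.el i) →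
      lab i = 1 ∨ lab i = 6 ∨ lab i = 12 ∨ lab i = 24 := fun v hv h => by
    obtain ⟨j, hj, hji, hl, -⟩ :=
      D.exists_wit ((orderOf_eq_of_isConj h).trans hv) (D.el_comm_t hi)
    rwa [D.el_inj hj hi hji] at hl
  refine ⟨⟨fun h => ?_, fun h => ?_⟩, ⟨fun h => D.isConj_twelve hi (Nat.eq_of_beq_eq_true h),
    fun h => ?_⟩⟩
  · simp only [Bool.or_eq_true] at h
    rcases h with (h | h) | h <;> have h := Nat.eq_of_beq_eq_true h
    · rw [D.eq_t_of_lab_one hi h]
    · exact D.isConj_t_of_six hG hi h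
    · exact hw.trans (D.isConj_w hi h)
  · rcases hinv t D.orderOf_t h with e | e | e | e
    all_goals first
      | exact absurd h (D.not_isConj_twelve hi e)
      | simp [e]
  · rcases hinv _ (D.invol_of_lab lt_facts.2.1 (by rw [lab_zi.2.1]; decide)) h with e | e | e | e
    · rw [D.eq_t_of_lab_one hi e] at h
      exact absurd h.symm D.not_isConj_a
    · exact absurd ((D.isConj_t_of_six hG hi e).trans h.symm) D.not_isConj_a
    · simp [e]
    · exact absurd ((hw.trans (D.isConj_w hi e)).trans h.symm) D.not_isConj_a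

/-- Labels if the class of size 24 does not join the class of `t`. -/
theorem classes_split (hw : ¬ IsConj t (D.el wi)) : ∀ i < 192,
    ((Nat.beq (lab i) 1 || Nat.beq (lab i) 6) = true ↔ IsConj t (D.el i)) ∧
    ((Nat.beq (lab i) 12 || Nat.beq (lab i) 24) = true ↔ IsConj (D.el ai) (D.el i)) := by
  intro i hi
  have haw := (D.isConj_w_cases hG).resolve_left hw
  have hinv : ∀ v : G, orderOf v = 2 → IsConj v (D.el i) →
      lab i = 1 ∨ lab i = 6 ∨ lab i = 12 ∨ lab i = 24 := fun v hv h => by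
    obtain ⟨j, hj, hji, hl, -⟩ :=
      D.exists_wit ((orderOf_eq_of_isConj h).trans hv) (D.el_comm_t hi)
    rwa [D.el_inj hj hi hji] at hl
  refine ⟨⟨fun h => ?_, fun h => ?_⟩, ⟨fun h => ?_, fun h => ?_⟩⟩
  · simp only [Bool.or_eq_true] at h
    rcases h with h | h <;> have h := Nat.eq_of_beq_eq_true h
    · rw [D.eq_t_of_lab_one hi h]
    · exact D.isConj_t_of_six hG hi h
  · rcases hinv t D.orderOf_t h with e | e | e | e
    all_goals first
      | exact absurd h (D.not_isConj_twelve hi e)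
      | exact absurd (h.trans (D.isConj_w hi e).symm) hw
      | simp [e]
  · simp only [Bool.or_eq_true] at h
    rcases h with h | h <;> have h := Nat.eq_of_beq_eq_true h
    · exact D.isConj_twelve hi h
    · exact haw.trans (D.isConj_w hi h)
  · rcases hinv _ (D.invol_of_lab lt_facts.2.1 (by rw [lab_zi.2.1]; decide)) h with e | e | e | e
    · rw [D.eq_t_of_lab_one hi e] at h
      exact absurd h.symm D.not_isConj_a
    · exact absurd ((D.isConj_t_of_six hG hi e).trans h.symm) D.not_isConj_a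
    all_goals simp [e]

/-- The elements of `C(a)` conjugate to `t` are `t, X, X * t`: the contribution of `a` is three. -/
theorem count_a (hU : ∀ p : ↥D.CA, IsConj t (p : G) →
      (p : G) = t ∨ (p : G) = D.el Xi ∨ (p : G) = D.el 9) :
    Nat.card {q : G × G // IsConj t q.1 ∧ IsConj (D.el ai) q.2 ∧
      D.el ai ∈ zpowers (q.1 * q.2)} = 3 := by
  classical
  obtain ⟨l1, -, -, -, -, l6, l7, l8, l9⟩ := lab_prods
  have hao := D.invol_of_lab lt_facts.2.1 (by rw [lab_zi.2.1]; decide)
  have hU' : ∀ u : G, (u = t ∨ u = D.el Xi ∨ u = D.el 9) →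
      ∃ i, i < 192 ∧ (i = zi ∨ i = Xi ∨ i = 9) ∧ D.el i = u := by
    rintro u (rfl | rfl | rfl)
    · exact ⟨zi, lt_facts.1, Or.inl rfl, D.el_zi⟩
    · exact ⟨Xi, lt_facts.2.2.2.2.1, Or.inr (Or.inl rfl), rfl⟩
    · exact ⟨9, by norm_num, Or.inr (Or.inr rfl), rfl⟩
  have hprod : ∀ i j, (i = zi ∨ i = Xi ∨ i = 9) → (j = zi ∨ j = Xi ∨ j = 9) →
      mul i j = 0 ∨ mul i j = zi ∨ mul i j = Xi ∨ mul i j = 9 := by
    rintro i j (rfl | rfl | rfl) (rfl | rfl | rfl) <;> decide +kernel
  have hUa : ∀ i, (i = zi ∨ i = Xi ∨ i = 9) → i < 192 ∧ mul i i = 0 ∧ lab (mul i ai) = 12 ∧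
      IsConj t (D.el i) ∧ i ≠ ai ∧ i ≠ 0 := by
    rintro i (rfl | rfl | rfl)
    · exact ⟨lt_facts.1, by decide +kernel, l1, by rw [D.el_zi], by decide, by decide⟩
    · exact ⟨lt_facts.2.2.2.2.1, by decide +kernel, l7, D.isConj_X hG, by decide, by decide⟩
    · exact ⟨by norm_num, by decide +kernel, l9, D.isConj_t_of_six hG (by norm_num) l8, by decide,
        by decide⟩
  have key : ∀ q : G × G, (IsConj t q.1 ∧ IsConj (D.el ai) q.2 ∧ D.el ai ∈ zpowers (q.1 * q.2)) ↔
      q ∈ ({(t, t * D.el ai), (D.el Xi, D.el Xi * D.el ai), (D.el 9, D.el 9 * D.el ai)} : Finset (G × G)) := by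
    rintro ⟨p, q⟩
    simp only [Finset.mem_insert, Finset.mem_singleton, Prod.mk.injEq]
    constructor
    · rintro ⟨hp, hq, ha⟩
      have hpo := (orderOf_eq_of_isConj hp).trans D.orderOf_t
      have hqo := (orderOf_eq_of_isConj hq).trans hao
      obtain ⟨k, hk⟩ := mem_zpowers_iff.1 ha
      have hkinv : ((p * q) ^ k)⁻¹ = (p * q) ^ k := by rw [hk]; exact invol_inv hao
      have hpa : p * D.el ai = D.el ai * p := by
        rw [← hk, ← mul_inv_eq_iff_eq_mul, conj_zpow_inv (by
          rw [_root_.mul_inv_rev, invol_inv hpo, invol_inv hqo,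
            ← mul_assoc p p q, invol_mul_self hpo, one_mul]), hkinv]
      have hqa : q * D.el ai = D.el ai * q := by
        rw [← hk, ← mul_inv_eq_iff_eq_mul, conj_zpow_inv (by
          rw [_root_.mul_inv_rev, invol_inv hpo, invol_inv hqo, mul_assoc, mul_assoc p q q,
            invol_mul_self hqo, mul_one]), hkinv]
      have hpU := hU ⟨p, mem_centralizer_singleton_iff.2 hpa⟩ hp
      have hqpq : q * p * q⁻¹ ∈ D.CA := by
        exact mul_mem (mul_mem (mem_centralizer_singleton_iff.2 hqa)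
          (mem_centralizer_singleton_iff.2 hpa)) (inv_mem (mem_centralizer_singleton_iff.2 hqa))
      have hqU := hU ⟨_, hqpq⟩ (hp.trans (isConj_iff.2 ⟨q, rfl⟩))
      obtain ⟨i, hi, hi', rfl⟩ := hU' p hpU
      obtain ⟨j, hj, hj', hje⟩ := hU' _ hqU
      -- the square of the product lies in the four-group
      have hsq : (D.el i * q) * (D.el i * q) = D.el (mul i j) := by
        have hje' : D.el j = q * D.el i * q := by
          have e : D.el j = q * D.el i * q⁻¹ := hje
          rwa [invol_inv hqo] at e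
        rw [← D.el_mul hi hj, hje']
        group
      have hw2 : ((D.el i * q) * (D.el i * q)) * ((D.el i * q) * (D.el i * q)) = 1 := by
        have hlt := mul_lt hi hj
        rw [hsq, D.el_mul hlt hlt]
        rcases hprod i j hi' hj' with e | e | e | e
        · rw [e, show mul 0 0 = 0 by decide +kernel, D.el_zero]
        all_goals
          rw [(hUa _ (by simp [e])).2.1, D.el_zero]
      set y := D.el i * q with hy
      have hy4 : y ^ (4 : ℤ) = 1 := by
        rw [show (4 : ℤ) = 2 + 2 from rfl, zpow_add, zpow_two]; exact hw2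
      have hk' : y ^ (k % 4) = D.el ai := by
        rw [← hk]
        conv_rhs => rw [← Int.mul_ediv_add_emod k 4, zpow_add, zpow_mul, hy4, one_zpow, one_mul]
      have hne0 : D.el ai ≠ 1 := invol_ne_one hao
      have hyq : y = D.el ai := by
        have h0 := Int.emod_nonneg k (show (4 : ℤ) ≠ 0 by norm_num)
        have h4 := Int.emod_lt_of_pos k (show (0 : ℤ) < 4 by norm_num)
        interval_cases hkk : k % 4
        · exact absurd (by rw [← hk', zpow_zero]) hne0
        · rwa [zpow_one] at hk'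
        · exfalso
          rw [zpow_two, hsq] at hk'
          have e2 := D.el_inj (mul_lt hi hj) lt_facts.2.1 hk'
          rcases hprod i j hi' hj' with e | e | e | e <;> rw [e] at e2 <;> exact absurd e2 (by decide)
        · have : y⁻¹ = D.el ai := by
            rw [← hk', ← zpow_neg_one, show (3 : ℤ) = -1 + 4 from rfl, zpow_add, hy4, mul_one]
          rw [← inv_inv y, this, invol_inv hao]
      have hqe : q = D.el i * D.el ai := by
        rw [← hyq, hy, ← mul_assoc, invol_mul_self hpo, one_mul]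
      rcases hi' with rfl | rfl | rfl
      · exact Or.inl ⟨D.el_zi, by rw [hqe, D.el_zi]⟩
      · exact Or.inr (Or.inl ⟨rfl, hqe⟩)
      · exact Or.inr (Or.inr ⟨rfl, hqe⟩)
    · intro h
      obtain ⟨i, hi', rfl, rfl⟩ : ∃ i, (i = zi ∨ i = Xi ∨ i = 9) ∧ D.el i = p ∧
          D.el i * D.el ai = q := by
        rcases h with ⟨rfl, rfl⟩ | ⟨rfl, rfl⟩ | ⟨rfl, rfl⟩
        · exact ⟨zi, Or.inl rfl, D.el_zi, by rw [D.el_zi]⟩
        · exact ⟨Xi, Or.inr (Or.inl rfl), rfl, rfl⟩
        · exact ⟨9, Or.inr (Or.inr rfl), rfl, rfl⟩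
      obtain ⟨hi, hii, hia, hti, -, -⟩ := hUa i hi'
      refine ⟨hti, ?_, ?_⟩
      · rw [D.mul_a hi]
        exact D.isConj_twelve (mul_lt hi lt_facts.2.1) hia
      · rw [← mul_assoc, D.el_mul hi hi, hii, D.el_zero, one_mul]
        exact mem_zpowers _
  rw [Nat.card_congr (Equiv.subtypeEquivRight key), Nat.card_eq_finsetCard]
  have hne : ∀ i j, i < 192 → j < 192 → i ≠ j → ∀ x y : G, (D.el i, x) ≠ (D.el j, y) :=
    fun i j hi hj h x y e => h (D.el_inj hi hj (congrArg Prod.fst e))
  rw [show (t, t * D.el ai) = (D.el zi, D.el zi * D.el ai) by rw [D.el_zi]]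
  rw [Finset.card_insert_of_notMem, Finset.card_pair]
  · exact hne _ _ lt_facts.2.2.2.2.1 (by norm_num) (by decide) _ _
  · simp only [Finset.mem_insert, Finset.mem_singleton, not_or]
    exact ⟨hne _ _ lt_facts.1 lt_facts.2.2.2.2.1 (by decide) _ _,
      hne _ _ lt_facts.1 (by norm_num) (by decide) _ _⟩

/-- The order formula. -/
theorem order_formula {r : ℕ}
    (hr : Nat.card {q : G × G // IsConj t q.1 ∧ IsConj (D.el ai) q.2 ∧ t ∈ zpowers (q.1 * q.2)} = r)
    (hU : ∀ p : ↥D.CA, IsConj t (p : G) → (p : G) = t ∨ (p : G) = D.el Xi ∨ (p : G) = D.el 9) :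
    Nat.card G = Nat.card ↥D.CA * r + 576 := by
  classical
  have hne := D.ne_a
  have hao := D.invol_of_lab lt_facts.2.1 (by rw [lab_zi.2.1]; decide)
  have hcases : ∀ v : G, orderOf v = 2 → IsConj t v ∨ IsConj (D.el ai) v := by
    intro v hv
    obtain ⟨i, hi, hiv, hl⟩ := D.exists_conj_el hv
    rcases hl with e | e | e | e
    · exact Or.inl (D.eq_t_of_lab_one hi e ▸ hiv)
    · exact Or.inl ((D.isConj_t_of_six hG hi e).trans hiv)
    · exact Or.inr ((D.isConj_twelve hi e).trans hiv)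
    · rcases D.isConj_w_cases hG with h | h
      · exact Or.inl ((h.trans (D.isConj_w hi e)).trans hiv)
      · exact Or.inr ((h.trans (D.isConj_w hi e)).trans hiv)
  have hform := Cfsg.Agent.S1875.result t (D.el ai) D.orderOf_t hao D.not_isConj_a
    ({t, D.el ai} : Finset G)
    (by intro w hw; simp only [Finset.mem_insert, Finset.mem_singleton] at hw
        rcases hw with rfl | rfl
        exacts [D.orderOf_t, hao])
    (by intro v hv
        rcases hcases v hv with h | h
        · refine ⟨t, by simp, h.symm, fun w hw hw' => ?_⟩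
          simp only [Finset.mem_insert, Finset.mem_singleton] at hw
          rcases hw with e | e
          · exact e
          · exact absurd (h.trans (e ▸ hw')) D.not_isConj_a
        · refine ⟨D.el ai, by simp, h.symm, fun w hw hw' => ?_⟩
          simp only [Finset.mem_insert, Finset.mem_singleton] at hw
          rcases hw with e | e
          · exact absurd (((e ▸ hw' : IsConj v t).symm).trans h.symm) D.not_isConj_a
          · exact e)
  rw [Finset.sum_pair hne, hr, D.count_a hG hU, D.card_centralizer] at hform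
  have hX : (Nat.card ↥D.CA : ℚ) ≠ 0 := Nat.cast_ne_zero.2 Nat.card_pos.ne'
  have : (Nat.card G : ℚ) = ((Nat.card ↥D.CA * r + 576 : ℕ) : ℚ) := by
    rw [hform]
    push_cast
    field_simp
    ring
  exact_mod_cast this

theorem card_class {n : ℕ} (h : Nat.card G = 192 * n) : Nat.card {g : G // IsConj t g} = n := by
  have hc := card_class_mul_card_centralizer t
  rw [D.card_centralizer, h] at hc
  omega

/-- `C(a)` does not have order 16. -/
theorem not_small (hz : ∀ g : ↥D.CA, g * D.psiA (.r 2) = D.psiA (.r 2) * g)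
    (hc : Nat.card ↥D.CA = 16) : False := by
  classical
  have hw := D.not_isConj_w_of_small hG hz
  have hcl := D.classes_split hG hw
  have hU : ∀ p : ↥D.CA, IsConj t (p : G) →
      (p : G) = t ∨ (p : G) = D.el Xi ∨ (p : G) = D.el 9 := by
    intro p hp
    have hpt : (p : G) * t = t * p := by
      have := congrArg Subtype.val (hz p)
      rw [Subgroup.coe_mul, Subgroup.coe_mul, D.psi_z_val] at this
      exact this
    obtain ⟨c, hc, hce⟩ := D.mem.1 hpt
    have h := all192_get z_class_in_cent hc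
    rw [(D.el_commute hc lt_facts.2.1).1 (by rw [hce]; exact mem_centralizer_singleton_iff.1 p.2)] at h
    have hl := (hcl c hc).1.2 (hce ▸ hp)
    simp only [Bool.or_eq_true] at hl
    rcases hl with hl | hl <;> have hl := Nat.eq_of_beq_eq_true hl
    · exact Or.inl (hce ▸ D.eq_t_of_lab_one hc hl)
    · simp only [hl, Bool.not_true, Bool.false_or, Bool.and_eq_true, Bool.or_eq_true] at h
      rcases h.2 with (h | h) | h
      · exact absurd h (by decide)
      · exact Or.inr (Or.inl (by rw [← hce, Nat.eq_of_beq_eq_true h]))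
      · exact Or.inr (Or.inr (by rw [← hce, Nat.eq_of_beq_eq_true h]))
  have hG' := D.order_formula hG (r := 48) (by
    rw [D.count_t _ _ (fun i hi => (hcl i hi).1) (fun i hi => (hcl i hi).2), count_split]) hU
  rw [hc] at hG'
  have h7 := D.card_class hG (n := 7) hG'
  obtain ⟨hwl, hwm, hwi, hwn⟩ := wList_chk
  have hlt : ∀ i ∈ cenaList, i < 192 := by decide
  set W := D.listSubgroup cenaList hlt
    (fun i hi j hj => by simpa using List.all_eq_true.1 (List.all_eq_true.1 hwm i hi) j hj)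
    (by decide) (fun i hi => by simpa using List.all_eq_true.1 hwi i hi) with hW
  have hW8 : Nat.card ↥W = 8 := by rw [hW, D.card_listSubgroup _ _ _ _ _ hwn]; rfl
  have hne : ∀ i ∈ cenaList, i ≠ 0 → IsConj t (D.el i) := by
    intro i hi hi0
    refine (hcl i (hlt i hi)).1.1 ?_
    have h := all192_get hwl (hlt i hi)
    rw [List.elem_eq_contains.symm, (List.elem_iff).2 hi] at h
    simpa [hi0] using h
  -- the seven are all the conjugates
  let f : {i : ℕ // i ∈ cenaList ∧ i ≠ 0} → {g : G // IsConj t g} := fun i =>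
    ⟨D.el i, hne i i.2.1 i.2.2⟩
  have hfi : Function.Injective f := fun i j e =>
    Subtype.ext (D.el_inj (hlt _ i.2.1) (hlt _ j.2.1) (congrArg Subtype.val e))
  have hS : Nat.card {i : ℕ // i ∈ cenaList ∧ i ≠ 0} = 7 := by
    rw [Nat.card_congr (Equiv.subtypeEquivRight (fun i => (by
      simp only [Finset.mem_erase, List.mem_toFinset]; tauto :
        i ∈ cenaList ∧ i ≠ 0 ↔ i ∈ (cenaList.toFinset.erase 0)))), Nat.card_eq_finsetCard]
    decide
  have hfs : Function.Surjective f := by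
    refine ((Nat.bijective_iff_injective_and_card f).2 ⟨hfi, by rw [hS, h7]⟩).2
  have hWn : W.Normal := by
    refine ⟨?_⟩
    rintro _ ⟨i, hi, rfl⟩ g
    by_cases hi0 : i = 0
    · rw [hi0, D.el_zero, mul_one, mul_inv_cancel]; exact one_mem _
    · obtain ⟨⟨j, hj, hj0⟩, hje⟩ := hfs ⟨g * D.el i * g⁻¹, (hne i hi hi0).trans (isConj_iff.2 ⟨g, rfl⟩)⟩
      exact ⟨j, hj, congrArg Subtype.val hje⟩
  rcases hWn.eq_bot_or_eq_top with e | e
  · rw [e, card_bot] at hW8; omega
  · rw [e, card_top] at hW8; omega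

/-- The quotient of `C(a)` is not `S₄`. -/
theorem not_four [(zpowers D.aX).Normal]
    (e : ↥D.CA ⧸ zpowers D.aX ≃* Equiv.Perm (Fin 4)) : False := by
  classical
  have hc : Nat.card ↥D.CA = 48 := by
    rw [(zpowers D.aX).card_eq_card_quotient_mul_card_subgroup, Nat.card_congr e.toEquiv,
      Nat.card_zpowers, D.centTwo.ha, Nat.card_perm, Nat.card_fin]
    rfl
  have h32 : ¬ 32 ∣ Nat.card ↥D.CA := by rw [hc]; decide
  have hw := D.isConj_w_of_quot hG involFacts_four e h32
  have hcl := D.classes_joined hG hw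
  -- the class of `z` in `C(a)`
  have hC := D.card_cent_z
  have hcls := card_class_mul_card_centralizer (D.psiA (.r 2))
  rw [hC, hc] at hcls
  have h3 : Nat.card {p : ↥D.CA // IsConj (D.psiA (.r 2)) p} = 3 := by omega
  have hm := fun d hd => ((D.quot_moved hG involFacts_four e).2.2 d hd).2
  have hU : ∀ p : ↥D.CA, IsConj t (p : G) →
      (p : G) = t ∨ (p : G) = D.el Xi ∨ (p : G) = D.el 9 := by
    intro p hp
    obtain ⟨g, hg⟩ := D.isConj_in_CA hG involFacts_four e h32 p hp
    have hpc : IsConj (D.psiA (.r 2)) p := isConj_iff.2 ⟨g, hg⟩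
    by_contra hno
    push Not at hno
    let f : Fin 4 → {p : ↥D.CA // IsConj (D.psiA (.r 2)) p} := fun i =>
      ![⟨D.psiA (.r 2), IsConj.refl _⟩, ⟨D.psiA (.sr 1), isConj_iff.2 (hm _ (Or.inl rfl))⟩,
        ⟨D.psiA (.sr 3), isConj_iff.2 (hm _ (Or.inr rfl))⟩, ⟨p, hpc⟩] i
    have hv : ∀ i : Fin 4, ((f i).1 : G) = ![t, D.el Xi, D.el 9, (p : G)] i := by
      intro i
      fin_cases i
      · exact D.psi_z_val
      · exact (D.psiA_val _).trans (by rw [dIdx_vals.2.2.2.1]; rfl)
      · exact (D.psiA_val _).trans (by rw [dIdx_vals.2.2.2.2.2]; rfl)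
      · rfl
    have hd : ∀ i j : ℕ, i < 192 → j < 192 → i ≠ j → D.el i ≠ D.el j :=
      fun i j hi hj h e => h (D.el_inj hi hj e)
    have h1 : t ≠ D.el Xi := fun e =>
      hd zi Xi lt_facts.1 lt_facts.2.2.2.2.1 (by decide) (D.el_zi.trans e)
    have h2 : t ≠ D.el 9 := fun e => hd zi 9 lt_facts.1 (by norm_num) (by decide) (D.el_zi.trans e)
    have h3' : D.el Xi ≠ D.el 9 := hd _ _ lt_facts.2.2.2.2.1 (by norm_num) (by decide)
    have hfi : Function.Injective f := by
      intro i j e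
      have e' : ![t, D.el Xi, D.el 9, (p : G)] i = ![t, D.el Xi, D.el 9, (p : G)] j := by
        rw [← hv i, ← hv j, e]
      fin_cases i <;> fin_cases j <;>
        simp [h1, h1.symm, h2, h2.symm, h3', h3'.symm, hno.1, hno.1.symm, hno.2.1, hno.2.1.symm,
          hno.2.2, hno.2.2.symm] at e' ⊢
    have := Nat.card_le_card_of_injective f hfi
    rw [h3, Nat.card_fin] at this
    omega
  have hG' := D.order_formula hG (r := 240) (by
    rw [D.count_t _ _ (fun i hi => (hcl i hi).1) (fun i hi => (hcl i hi).2), count_joined]) hU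
  rw [hc] at hG'
  have h63 := D.card_class hG (n := 63) hG'
  -- but there are at least 96 conjugates of `t`
  obtain ⟨g, hg⟩ := isConj_iff.1 hw.symm
  have hwt := D.el_comm_t lt_facts.2.2.2.2.2
  have hgt : g * t * g⁻¹ * t = t * (g * t * g⁻¹) := by
    have e := conj_comm g hwt
    rw [hg] at e
    exact e.symm
  obtain ⟨m, hm', hme, hl, hwit⟩ := D.exists_wit ((orderOf_conj_eq g t).trans D.orderOf_t) hgt
  have htm : IsConj t (D.el m) := isConj_iff.2 ⟨g, hme.symm⟩
  have h24 : lab m = 24 := by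
    rcases hl with e | e | e | e
    · have : D.el wi = t := by
        rw [D.eq_t_of_lab_one hm' e] at hme
        calc D.el wi = g⁻¹ * (g * D.el wi * g⁻¹) * g := by group
          _ = g⁻¹ * (g * t * g⁻¹) * g := by rw [hg, ← hme]
          _ = t := by group
      exact absurd (D.el_inj lt_facts.2.2.2.2.2 lt_facts.1 (this.trans D.el_zi.symm)) (by decide)
    · exfalso
      have h := all192_get sq_chk_x hm'
      simp only [e, Bool.not_true, Bool.or_eq_true, List.any_eq_true, List.mem_range,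
        Bool.and_eq_true] at h
      rcases h with h | ⟨c, hc, hcm, hc2⟩
      · exact absurd h (by decide)
      have hmg : g⁻¹ * D.el m * g = t := by rw [hme]; group
      have e1 : g⁻¹ * D.el c * g * t = t * (g⁻¹ * D.el c * g) := by
        have e := conj_comm g⁻¹ (D.el_commute_of hc hm' hcm)
        rw [inv_inv, hmg] at e
        exact e
      obtain ⟨k, hk, hk'⟩ := D.mem.1 e1
      have hgw : g⁻¹ * t * g = D.el wi := by
        calc g⁻¹ * t * g = g⁻¹ * (g * D.el wi * g⁻¹) * g := by rw [hg]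
          _ = D.el wi := by group
      have e2 : D.el k * D.el wi = D.el wi * D.el k := by
        have e := conj_comm g⁻¹ (D.el_comm_t hc)
        rw [inv_inv, hgw, ← hk'] at e
        exact e
      have hsq : D.el k * D.el k = D.el wi := by
        rw [hk', ← hgw, show g⁻¹ * D.el c * g * (g⁻¹ * D.el c * g) = g⁻¹ * (D.el c * D.el c) * g by group,
          D.el_sq hc (Nat.eq_of_beq_eq_true hc2), D.el_zi]
      rw [D.el_mul hk hk] at hsq
      have h := all192_get sq_chk_w lt_facts.2.2.2.2.2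
      rw [lab_zi.2.2.2] at h
      have h' := all192_get (by simpa using h : _ = true) hk
      rw [(D.el_commute hk lt_facts.2.2.2.2.2).1 e2,
        D.el_inj (mul_lt hk hk) lt_facts.2.2.2.2.2 hsq, Nat.beq_refl] at h'
      exact absurd h' (by decide)
    · exact absurd htm (D.not_isConj_twelve hm' e)
    · exact e
  rw [h24] at hwit
  set γ := (D.el (wit m))⁻¹ * g with hγ
  have hγt : γ * t * γ⁻¹ = D.el wi := by
    rw [hγ, show (D.el (wit m))⁻¹ * g * t * ((D.el (wit m))⁻¹ * g)⁻¹ =
      (D.el (wit m))⁻¹ * (g * t * g⁻¹) * D.el (wit m) by group, ← hwit]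
    show (D.el (wit m))⁻¹ * (D.el (wit m) * D.el wi * (D.el (wit m))⁻¹) * D.el (wit m) = D.el wi
    group
  have hγw : γ * D.el wi * γ⁻¹ = t := by
    rw [hγ, show (D.el (wit m))⁻¹ * g * D.el wi * ((D.el (wit m))⁻¹ * g)⁻¹ =
      (D.el (wit m))⁻¹ * (g * D.el wi * g⁻¹) * D.el (wit m) by group, hg, mul_assoc,
      ← D.el_comm_t (inv_facts hm').2.2.2.2.2, inv_mul_cancel_left]
  have hk4 : ∀ k ∈ ([51, 60, 98, 101] : List ℕ), k < 192 ∧ (lab k = 6 ∨ lab k = 24) ∧
      mul (mul wi k) (mul wi k) = zi := by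
    intro k hk
    have h := List.all_eq_true.1 four_chk k hk
    simp only [Bool.and_eq_true, Bool.or_eq_true] at h
    exact ⟨by simpa [Nat.blt] using h.1.1,
      h.1.2.imp Nat.eq_of_beq_eq_true Nat.eq_of_beq_eq_true, Nat.eq_of_beq_eq_true h.2⟩
  set J := (Finset.range 192).filter fun j => lab j = 24 with hJdef
  set K4 := ([51, 60, 98, 101] : List ℕ).toFinset with hK4
  have hJ : ∀ j ∈ J, j < 192 ∧ lab j = 24 := by simp [hJdef]
  let conjEl : ℕ × ℕ → G := fun p =>
    D.el (wit p.1) * (γ * D.el p.2 * γ⁻¹) * (D.el (wit p.1))⁻¹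
  have hval : ∀ p ∈ J ×ˢ K4, IsConj t (conjEl p) ∧
      (t * conjEl p) * (t * conjEl p) = D.el p.1 := by
    rintro ⟨j, k⟩ hp
    obtain ⟨hj, hk⟩ := Finset.mem_product.1 hp
    obtain ⟨hj', hjl⟩ := hJ j hj
    obtain ⟨hk', hkl, hkk⟩ := hk4 k (List.mem_toFinset.1 hk)
    set c := D.el (wit j) with hc
    have hct : c * t = t * c := D.el_comm_t (inv_facts hj').2.2.2.2.2
    refine ⟨?_, ?_⟩
    · have hk0 : IsConj t (D.el k) := by
        rcases hkl with e | e
        · exact D.isConj_t_of_six hG hk' e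
        · exact hw.trans (D.isConj_w hk' e)
      exact hk0.trans ((isConj_iff.2 ⟨γ, rfl⟩ : IsConj _ (γ * D.el k * γ⁻¹)).trans
        (isConj_iff.2 ⟨c, rfl⟩))
    · have h1 : c * t * c⁻¹ = t := by rw [hct, mul_inv_cancel_right]
      have h2 : t * (c * (γ * D.el k * γ⁻¹) * c⁻¹) = c * (γ * (D.el wi * D.el k) * γ⁻¹) * c⁻¹ := by
        calc t * (c * (γ * D.el k * γ⁻¹) * c⁻¹) = (c * t * c⁻¹) * (c * (γ * D.el k * γ⁻¹) * c⁻¹) := by
              rw [h1]
          _ = c * (t * (γ * D.el k * γ⁻¹)) * c⁻¹ := by group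
          _ = c * ((γ * D.el wi * γ⁻¹) * (γ * D.el k * γ⁻¹)) * c⁻¹ := by rw [hγw]
          _ = _ := by group
      show (t * (c * (γ * D.el k * γ⁻¹) * c⁻¹)) * (t * (c * (γ * D.el k * γ⁻¹) * c⁻¹)) = D.el j
      rw [h2, show c * (γ * (D.el wi * D.el k) * γ⁻¹) * c⁻¹ * (c * (γ * (D.el wi * D.el k) * γ⁻¹) * c⁻¹) =
        c * (γ * ((D.el wi * D.el k) * (D.el wi * D.el k)) * γ⁻¹) * c⁻¹ by group,
        D.el_mul lt_facts.2.2.2.2.2 hk', D.el_mul (mul_lt lt_facts.2.2.2.2.2 hk')
          (mul_lt lt_facts.2.2.2.2.2 hk'), hkk, D.el_zi, hγt]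
      have := all192_get lab_chk hj'
      simp only [Bool.and_eq_true, Bool.or_eq_true, hjl] at this
      rcases this with ⟨-, hwj⟩ | ⟨h0, -⟩
      · have hrep : rep 24 = wi := rfl
        rw [hrep] at hwj
        rw [hc, D.el_conj (inv_facts hj').2.2.2.2.2 lt_facts.2.2.2.2.2, Nat.eq_of_beq_eq_true hwj]
      · exact absurd h0 (by decide)
  let F : ↥(J ×ˢ K4) → {g : G // IsConj t g} := fun p => ⟨conjEl p.1, (hval p.1 p.2).1⟩
  have hFi : Function.Injective F := by
    rintro ⟨⟨j, k⟩, hp⟩ ⟨⟨j', k'⟩, hp'⟩ e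
    have ev : conjEl (j, k) = conjEl (j', k') := congrArg Subtype.val e
    have hjj : j = j' := D.el_inj (hJ _ (Finset.mem_product.1 hp).1).1
      (hJ _ (Finset.mem_product.1 hp').1).1 (by
      rw [← (hval _ hp).2, ← (hval _ hp').2, ev])
    subst hjj
    simp only [conjEl, mul_left_inj, mul_right_inj] at ev
    have hkk := D.el_inj (hk4 _ (List.mem_toFinset.1 (Finset.mem_product.1 hp).2)).1
      (hk4 _ (List.mem_toFinset.1 (Finset.mem_product.1 hp').2)).1 ev
    subst hkk
    rfl
  have hle := Nat.card_le_card_of_injective F hFi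
  rw [h63, Nat.card_eq_finsetCard, Finset.card_product] at hle
  have hJc : J.card = 24 := by rw [hJdef]; decide +kernel
  have hKc : K4.card = 4 := by rw [hK4]; decide
  rw [hJc, hKc] at hle
  omega

/-- **`C(a)` modulo `a` is `S₅`.** -/
theorem exists_quot_five [(zpowers D.aX).Normal] :
    Nonempty (↥D.CA ⧸ zpowers D.aX ≃* Equiv.Perm (Fin 5)) := by
  rcases D.quot_cases_a hG with ⟨hc, hz⟩ | ⟨⟨e⟩⟩ | h
  · exact (D.not_small hG hz hc).elim
  · exact (D.not_four hG e).elim
  · exact h

end Data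

end CfsgLib.InvChar.M12C
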