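import Cfsg.Agent.Lib.InvChar.M12C.CentA

/-!
# The centraliser of `a` modulo `⟨a⟩` and the class of size 24
-/

set_option autoImplicit false
set_option maxRecDepth 100000
set_option Elab.async false

namespace CfsgLib.InvChar.M12C

open CfsgLib.Invol Subgroup

universe u

namespace Data

variable {G : Type u} [Group G] {t : G} (D : Data t)
include D

theorem psi_z_val : ((D.psiA (.r 2) : ↥D.CA) : G) = t := by
  rw [psiA_val, dIdx_vals.2.1, D.el_zi]

theorem aX_val : ((D.aX : ↥D.CA) : G) = D.el ai := rfl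

/-- The involutions `X` and `X * z`. -/
theorem sr_odd_facts {d : DihedralGroup 4} (hd : d = .sr 1 ∨ d = .sr 3) :
    lab (dIdx d) = 6 ∧ lab (mul (dIdx d) ai) = 12 ∧ d * d = 1 ∧ d ≠ 1 ∧ d ≠ .r 2 ∧ d ≠ .sr 0 ∧
      d ≠ .sr 2 := by
  obtain ⟨-, -, -, hX, -, hXz⟩ := dIdx_vals
  obtain ⟨-, -, -, -, -, l6, l7, l8, l9⟩ := lab_prods
  rcases hd with rfl | rfl
  · rw [hX]; exact ⟨l6, l7, by decide, by decide, by decide, by decide, by decide⟩
  · rw [hXz]; exact ⟨l8, l9, by decide, by decide, by decide, by decide, by decide⟩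

variable [Finite G] [IsSimpleGroup G] (hG : ¬ IsMulCommutative G)
include hG

theorem isConj_psi {d : DihedralGroup 4} (hd : d = .sr 1 ∨ d = .sr 3) :
    IsConj t ((D.psiA d : ↥D.CA) : G) :=
  D.isConj_t_of_six hG (dIdx_lt d) (sr_odd_facts D hd).1

/-- In the quotient `S₄` or `S₅`: `z` and `X` go to double transpositions, `b` to a transposition,
and `z`, `X` are conjugate in `C(a)`. -/
theorem quot_moved [(zpowers D.aX).Normal] {n : ℕ} (F : InvolFacts n)
    (e : ↥D.CA ⧸ zpowers D.aX ≃* Equiv.Perm (Fin n)) :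
    moved (e (QuotientGroup.mk (D.psiA (.r 2)))) = 4 ∧
      moved (e (QuotientGroup.mk (D.psiA (.sr 0)))) ≠ 4 ∧
      ∀ d : DihedralGroup 4, (d = .sr 1 ∨ d = .sr 3) →
        moved (e (QuotientGroup.mk (D.psiA d))) = 4 ∧
          ∃ g : ↥D.CA, g * D.psiA (.r 2) * g⁻¹ = D.psiA d := by
  set π := QuotientGroup.mk' (zpowers D.aX) with hπ
  set φ := π.comp D.psiA with hφ
  have hφi : Function.Injective φ := D.centTwo.quot_injective
  obtain ⟨-, -, hb, -, hbz, -⟩ := dIdx_vals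
  obtain ⟨-, l2, l3, l4, l5, -, -, -, -⟩ := lab_prods
  have hcard : Nat.card (centralizer ({φ (.r 2)} : Set (↥D.CA ⧸ zpowers D.aX))) = 8 := by
    have h : centralizer ({φ (.r 2)} : Set (↥D.CA ⧸ zpowers D.aX)) = φ.range := D.centTwo.quot_centralizer
    rw [h, ← Nat.card_congr (MonoidHom.ofInjective hφi).toEquiv, DihedralGroup.nat_card]
  have hnot : ∀ d : DihedralGroup 4, lab (dIdx d) = 12 → lab (mul (dIdx d) ai) = 12 →
      ¬ IsConj (φ d) (φ (.r 2)) := by
    intro d h1 h2 hc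
    obtain ⟨q, hq⟩ := isConj_iff.1 hc.symm
    obtain ⟨g, rfl⟩ := QuotientGroup.mk'_surjective _ q
    have e' : π (D.psiA d) = π (g * D.psiA (.r 2) * g⁻¹) := by
      rw [map_mul, map_mul, map_inv]
      exact hq.symm
    rcases D.centTwo.mk_eq e' with h | h
    · exact D.psi_not_conj g (dIdx_lt d) h1 rfl h
    · exact D.psi_not_conj g (mul_lt (dIdx_lt d) lt_facts.2.1) h2 (D.psi_mul_a d) h
  have main : ∀ d : DihedralGroup 4, (d = .sr 1 ∨ d = .sr 3) →
      moved (e (φ (.r 2))) = 4 ∧ moved (e (φ (.sr 0))) ≠ 4 ∧ moved (e (φ d)) = 4 ∧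
        IsConj (φ (.r 2)) (φ d) := by
    intro d hd
    obtain ⟨-, -, hdd, hd1, hdr, hd0, hd2⟩ := sr_odd_facts D hd
    have hm : ∀ p q : DihedralGroup 4, p * q = q * p → φ p * φ q = φ q * φ p := fun p q h => by
      rw [← map_mul, h, map_mul]
    have hcd : d * .r 2 = .r 2 * d := by rcases hd with rfl | rfl <;> decide
    have hne : ∀ p q : DihedralGroup 4, p ≠ q → φ p ≠ φ q := fun p q h e => h (hφi e)
    refine eq_of_moved F e ?_ ?_ ?_ (hm _ _ (by decide)) (hm _ _ hcd) hcard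
      (fun e => by simpa using hne (.sr 0) 1 (by decide) (e.trans (map_one φ).symm)) ?_ ?_
      (fun e => hne d 1 hd1 (e.trans (map_one φ).symm)) ⟨hne _ _ hdr, hne _ _ hd0, ?_⟩
    · rw [← map_mul, show (DihedralGroup.r 2 * DihedralGroup.r 2 : DihedralGroup 4) = 1 by decide, map_one]
    · rw [← map_mul, show (DihedralGroup.sr 0 * DihedralGroup.sr 0 : DihedralGroup 4) = 1 by decide, map_one]
    · rw [← map_mul, hdd, map_one]
    · exact hnot _ (by rw [hb]; exact l2) (by rw [hb]; exact l3)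
    · rw [← map_mul]
      refine hnot _ ?_ ?_ <;>
        rw [show (DihedralGroup.sr 0 * DihedralGroup.r 2 : DihedralGroup 4) = .sr 2 by decide, hbz]
      exacts [l4, l5]
    · rw [← map_mul, show (DihedralGroup.sr 0 * DihedralGroup.r 2 : DihedralGroup 4) = .sr 2 by decide]
      exact hne _ _ hd2
  refine ⟨(main _ (Or.inl rfl)).1, (main _ (Or.inl rfl)).2.1, fun d hd => ?_⟩
  obtain ⟨-, -, h3, h4⟩ := main d hd
  refine ⟨h3, ?_⟩
  obtain ⟨q, hq⟩ := isConj_iff.1 h4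
  obtain ⟨g, rfl⟩ := QuotientGroup.mk'_surjective _ q
  have e' : π (D.psiA d) = π (g * D.psiA (.r 2) * g⁻¹) := by
    rw [map_mul, map_mul, map_inv]
    exact hq.symm
  rcases D.centTwo.mk_eq e' with h | h
  · exact ⟨g, h⟩
  · exact absurd h (D.psi_not_conj g (mul_lt (dIdx_lt d) lt_facts.2.1) (sr_odd_facts D hd).2.1
      (D.psi_mul_a d))

omit hG in
/-- The centraliser of `z` in `C(a)` has order 16. -/
theorem card_cent_z :
    Nat.card (centralizer ({D.psiA (.r 2)} : Set ↥D.CA)) = 16 := by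
  have h := D.centTwo
  let f : DihedralGroup 4 × ↥(zpowers D.aX) → ↥(centralizer ({D.psiA (.r 2)} : Set ↥D.CA)) := fun p =>
    ⟨D.psiA p.1 * p.2, by
      rw [mem_centralizer_singleton_iff]
      have hc : (p.2 : ↥D.CA) * D.psiA (.r 2) = D.psiA (.r 2) * p.2 := by
        rcases h.mem_A p.2.2 with e | e <;> rw [e]
        · rw [one_mul, mul_one]
        · exact (h.cen _).symm
      rw [mul_assoc, hc, ← mul_assoc, h.psi_z, mul_assoc]⟩
  have hf : Function.Bijective f := by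
    refine ⟨fun p q hpq => ?_, ?_⟩
    · have e : D.psiA p.1 * p.2 = D.psiA q.1 * q.2 := congrArg Subtype.val hpq
      have hmem : (D.psiA q.1)⁻¹ * D.psiA p.1 ∈ D.psiA.range ⊓ zpowers D.aX := by
        refine mem_inf.2 ⟨⟨q.1⁻¹ * p.1, by rw [map_mul, map_inv]⟩, ?_⟩
        rw [show (D.psiA q.1)⁻¹ * D.psiA p.1 = (q.2 : ↥D.CA) * (p.2 : ↥D.CA)⁻¹ by
          rw [eq_mul_inv_iff_mul_eq, mul_assoc, e, inv_mul_cancel_left]]
        exact mul_mem q.2.2 (inv_mem p.2.2)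
      rw [h.inf_eq_bot, mem_bot, inv_mul_eq_one] at hmem
      rw [← hmem, mul_left_cancel_iff] at e
      exact Prod.ext (h.inj hmem.symm) (Subtype.ext e)
    · rintro ⟨g, hg⟩
      have ha2 := invol_mul_self h.ha
      rcases h.cent g (mem_centralizer_singleton_iff.1 hg) with ⟨d, hd⟩ | ⟨d, hd⟩
      · exact ⟨(d, ⟨1, one_mem _⟩), Subtype.ext (by simp [f, hd])⟩
      · exact ⟨(d, ⟨D.aX, mem_zpowers _⟩), Subtype.ext (by simp [f, hd, mul_assoc, ha2])⟩
  rw [← Nat.card_eq_of_bijective f hf, Nat.card_prod, DihedralGroup.nat_card, Nat.card_zpowers, h.ha]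

/-- In the cases `S₄`, `S₅` the conjugates of `t` in `C(a)` are conjugate there. -/
theorem isConj_in_CA [(zpowers D.aX).Normal] {n : ℕ} (F : InvolFacts n)
    (e : ↥D.CA ⧸ zpowers D.aX ≃* Equiv.Perm (Fin n)) (h16 : ¬ 32 ∣ Nat.card ↥D.CA)
    (p : ↥D.CA) (hp : IsConj t (p : G)) : ∃ g : ↥D.CA, g * D.psiA (.r 2) * g⁻¹ = p := by
  haveI : Fact (Nat.Prime 2) := ⟨Nat.prime_two⟩
  have hC := D.card_cent_z
  obtain ⟨P, hP⟩ := (IsPGroup.of_card (p := 2) (n := 4) (by rw [hC]; norm_num) :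
    IsPGroup 2 ↥(centralizer ({D.psiA (.r 2)} : Set ↥D.CA))).exists_le_sylow
  have hPC : (P : Subgroup ↥D.CA) = centralizer ({D.psiA (.r 2)} : Set ↥D.CA) := by
    obtain ⟨k, hk⟩ := P.2.exists_card_eq
    have h1 : 2 ^ k ∣ Nat.card ↥D.CA := hk ▸ card_subgroup_dvd_card _
    have h2 : k ≤ 4 := by
      by_contra hk4
      exact h16 ((pow_dvd_pow 2 (show 5 ≤ k by omega)).trans h1)
    refine (eq_of_le_of_card_ge hP ?_).symm
    rw [hC, hk]
    exact le_trans (pow_le_pow_right₀ (by norm_num) h2) (by norm_num)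
  have hp2 : orderOf p = 2 := by
    rw [← orderOf_coe]
    exact (orderOf_eq_of_isConj hp).trans D.orderOf_t
  obtain ⟨g, hg⟩ := exists_conj_invol_mem_sylow P hp2
  have hg' : g * p * g⁻¹ ∈ (P : Subgroup ↥D.CA) := hg
  rw [hPC, mem_centralizer_singleton_iff] at hg'
  have hgt : ((g * p * g⁻¹ : ↥D.CA) : G) * t = t * (g * p * g⁻¹ : ↥D.CA) := by
    have e := congrArg Subtype.val hg'
    calc ((g * p * g⁻¹ : ↥D.CA) : G) * t = ((g * p * g⁻¹ * D.psiA (.r 2) : ↥D.CA) : G) := by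
          rw [Subgroup.coe_mul (D.CA) (g * p * g⁻¹), D.psi_z_val]
      _ = ((D.psiA (.r 2) * (g * p * g⁻¹) : ↥D.CA) : G) := e
      _ = t * (g * p * g⁻¹ : ↥D.CA) := by rw [Subgroup.coe_mul (D.CA) (D.psiA _), D.psi_z_val]
  obtain ⟨c, hc, hce⟩ := D.mem.1 hgt
  have htc : IsConj t (D.el c) := hp.trans (isConj_iff.2 ⟨g, hce.symm⟩)
  obtain ⟨c', hc', hcc, hl, -⟩ :=
    D.exists_wit ((orderOf_eq_of_isConj htc).trans D.orderOf_t) (D.el_comm_t hc)
  rw [D.el_inj hc' hc hcc] at hl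
  have h := all192_get z_class_in_cent hc
  rw [(D.el_commute hc lt_facts.2.1).1 (by
    rw [hce]; exact mem_centralizer_singleton_iff.1 (g * p * g⁻¹ : ↥D.CA).2)] at h
  suffices hh : ∃ m : ↥D.CA, m * D.psiA (.r 2) * m⁻¹ = g * p * g⁻¹ by
    obtain ⟨m, hm⟩ := hh
    exact ⟨g⁻¹ * m, by
      rw [show g⁻¹ * m * D.psiA (.r 2) * (g⁻¹ * m)⁻¹ = g⁻¹ * (m * D.psiA (.r 2) * m⁻¹) * g by group, hm]
      group⟩
  have hval : ∀ d : DihedralGroup 4, dIdx d = c → D.psiA d = g * p * g⁻¹ := fun d hd =>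
    Subtype.ext (by rw [psiA_val, hd, hce])
  rcases hl with e1 | e6 | e12 | e24
  · refine ⟨1, Subtype.ext ?_⟩
    rw [one_mul, inv_one, mul_one, D.psi_z_val, ← hce, D.eq_t_of_lab_one hc e1]
  · simp only [e6, Bool.not_true, Bool.false_or, Bool.and_eq_true, Bool.or_eq_true] at h
    rcases h.2 with (h | h) | h
    · exact absurd h (by decide)
    · obtain ⟨-, m, hm⟩ := (D.quot_moved hG F e).2.2 (.sr 1) (Or.inl rfl)
      exact ⟨m, hm.trans (hval _ (by rw [dIdx_vals.2.2.2.1, Nat.eq_of_beq_eq_true h]))⟩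
    · obtain ⟨-, m, hm⟩ := (D.quot_moved hG F e).2.2 (.sr 3) (Or.inr rfl)
      exact ⟨m, hm.trans (hval _ (by rw [dIdx_vals.2.2.2.2.2, Nat.eq_of_beq_eq_true h]))⟩
  · exact absurd htc (D.not_isConj_twelve hc e12)
  · simp [e24] at h

/-- In the cases `S₄`, `S₅` the class of size 24 fuses with `t`. -/
theorem isConj_w_of_quot [(zpowers D.aX).Normal] {n : ℕ} (F : InvolFacts n)
    (e : ↥D.CA ⧸ zpowers D.aX ≃* Equiv.Perm (Fin n)) (h16 : ¬ 32 ∣ Nat.card ↥D.CA) :
    IsConj t (D.el wi) := by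
  refine (D.isConj_w_cases hG).resolve_right fun haw => ?_
  obtain ⟨g, hg⟩ := isConj_iff.1 haw
  obtain ⟨k, hk⟩ : ∃ k : G, k * D.el wi * k⁻¹ = D.el ai := ⟨g⁻¹, by rw [← hg]; group⟩
  have hkt : k * t * k⁻¹ ∈ D.CA := by
    rw [mem_centralizer_singleton_iff, ← hk]
    exact conj_comm k (D.el_comm_t lt_facts.2.2.2.2.2).symm
  obtain ⟨m, hm⟩ := D.isConj_in_CA hG F e h16 ⟨_, hkt⟩ (isConj_iff.2 ⟨k, rfl⟩)
  have hm' : (m : G) * t * (m : G)⁻¹ = k * t * k⁻¹ := by
    have := congrArg Subtype.val hm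
    rw [Subgroup.coe_mul, Subgroup.coe_mul, InvMemClass.coe_inv, D.psi_z_val] at this
    exact this
  set h := (m : G)⁻¹ * k with hh
  have hht : h * t = t * h := by
    rw [← mul_inv_eq_iff_eq_mul, hh, show (m : G)⁻¹ * k * t * ((m : G)⁻¹ * k)⁻¹ =
      (m : G)⁻¹ * (k * t * k⁻¹) * m by group, ← hm']
    group
  have hhw : h * D.el wi * h⁻¹ = D.el ai := by
    rw [hh, show (m : G)⁻¹ * k * D.el wi * ((m : G)⁻¹ * k)⁻¹ =
      (m : G)⁻¹ * (k * D.el wi * k⁻¹) * m by group, hk, mul_assoc,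
      ← mem_centralizer_singleton_iff.1 m.2, inv_mul_cancel_left]
  obtain ⟨c, hc, hce⟩ := D.mem.1 hht
  rw [← hce, D.el_conj hc lt_facts.2.2.2.2.2] at hhw
  have h' := all192_get conj_w_chk hc
  rw [D.el_inj (conj_lt hc lt_facts.2.2.2.2.2) lt_facts.2.1 hhw] at h'
  simp at h'

/-- If `C(a)` has order 16, the class of size 24 does not fuse with `t`. -/
theorem not_isConj_w_of_small (hz : ∀ g : ↥D.CA, g * D.psiA (.r 2) = D.psiA (.r 2) * g) :
    ¬ IsConj t (D.el wi) := by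
  intro hw
  obtain ⟨h, hh⟩ := isConj_iff.1 (D.isConj_X hG).symm
  have hXa := D.el_commute_of lt_facts.2.2.2.2.1 lt_facts.2.1 (by decide +kernel)
  have hd : h * D.el ai * h⁻¹ * t = t * (h * D.el ai * h⁻¹) := by
    have e := conj_comm h hXa
    rw [hh] at e
    exact e.symm
  obtain ⟨j, hj, hje, hl, hwit⟩ := D.exists_wit
    ((orderOf_conj_eq _ _).trans (D.invol_of_lab lt_facts.2.1 (by rw [lab_zi.2.1]; decide))) hd
  have haj : IsConj (D.el ai) (D.el j) := isConj_iff.2 ⟨h, hje.symm⟩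
  have h12 : lab j = 12 := by
    rcases hl with e | e | e | e
    · rw [D.eq_t_of_lab_one hj e] at haj
      exact absurd haj.symm D.not_isConj_a
    · exact absurd ((D.isConj_t_of_six hG hj e).trans haj.symm) D.not_isConj_a
    · exact e
    · exact absurd ((hw.trans (D.isConj_w hj e)).trans haj.symm) D.not_isConj_a
  rw [h12] at hwit
  set k := D.el (wit j) with hk
  have hkt : k * t = t * k := D.el_comm_t (inv_facts hj).2.2.2.2.2
  have h'a : k⁻¹ * h ∈ D.CA := by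
    rw [mem_centralizer_singleton_iff, ← mul_inv_eq_iff_eq_mul,
      show k⁻¹ * h * D.el ai * (k⁻¹ * h)⁻¹ = k⁻¹ * (h * D.el ai * h⁻¹) * k by group, ← hwit]
    show k⁻¹ * (k * D.el ai * k⁻¹) * k = D.el ai
    group
  have hc : k⁻¹ * h * t = t * (k⁻¹ * h) := by
    have := congrArg Subtype.val (hz ⟨_, h'a⟩)
    rw [Subgroup.coe_mul, Subgroup.coe_mul, D.psi_z_val] at this
    exact this
  have hht : h * t = t * h := by
    calc h * t = k * (k⁻¹ * h * t) := by group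
      _ = k * (t * (k⁻¹ * h)) := by rw [hc]
      _ = (k * t) * (k⁻¹ * h) := by group
      _ = (t * k) * (k⁻¹ * h) := by rw [hkt]
      _ = t * h := by group
  have : D.el Xi = t := by
    calc D.el Xi = h⁻¹ * (h * D.el Xi * h⁻¹) * h := by group
      _ = h⁻¹ * t * h := by rw [hh]
      _ = h⁻¹ * (h * t) := by rw [mul_assoc, hht]
      _ = t := by group
  exact absurd (D.el_inj lt_facts.2.2.2.2.1 lt_facts.1 (this.trans D.el_zi.symm)) (by decide)

end Data

end CfsgLib.InvChar.M12C
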