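import Cfsg.Agent.S3035
import Cfsg.Agent.Lib.Transfer.Thompson
import Cfsg.Agent.Lib.Solvable.Gaschutz
import Cfsg.Agent.Lib.Invol.Basic
import Cfsg.Agent.Lib.Invol.ZStar
import Cfsg.Agent.Lib.Classical.SLGen
import Mathlib.GroupTheory.FixedPointFree
import Mathlib.GroupTheory.SpecificGroups.Dihedral

/-!
# Centralisers of non-central involutions in groups of `M₁₂` type

A group `X` with a central involution `a` and an involution `z` whose centraliser is
`⟨a⟩ × D₈` is `Z₂ × D₈`, `Z₂ × S₄` or `Z₂ × S₅` under two fusion conditions.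
-/

set_option autoImplicit false

namespace CfsgLib.InvChar.M12C

open CfsgLib.Invol Subgroup

universe u

theorem eq_one_or_of_mem_zpowers {G : Type*} [Group G] {a : G} (ha : a * a = 1) {c : G}
    (hc : c ∈ zpowers a) : c = 1 ∨ c = a := by
  obtain ⟨i, rfl⟩ := mem_zpowers_iff.1 hc
  rcases Int.even_or_odd i with ⟨l, rfl⟩ | ⟨l, rfl⟩
  · left; rw [← two_mul, zpow_mul, zpow_two, ha, one_zpow]
  · right; rw [zpow_add_one, zpow_mul, zpow_two, ha, one_zpow, one_mul]

/-- A `2`-group containing `S` lies in `S` if `z ∈ S` has centraliser in it inside `S` and the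
elements commuting with `z` and `S` are `1, z`. -/
theorem le_of_center {G : Type*} [Group G] [Finite G] {P S : Subgroup G} (hP : IsPGroup 2 ↥P)
    (hSP : S ≤ P) {z : G} (hzS : z ∈ S) (hz1 : z ≠ 1) (hH : ∀ c ∈ P, c * z = z * c → c ∈ S)
    (hZ : ∀ c, c * z = z * c → (∀ s ∈ S, c * s = s * c) → c = 1 ∨ c = z) : P ≤ S := by
  haveI : Fact (Nat.Prime 2) := ⟨Nat.prime_two⟩
  haveI : Nontrivial ↥P := ⟨⟨⟨z, hSP hzS⟩, 1, fun e => hz1 (congrArg Subtype.val e)⟩⟩
  haveI := hP.center_nontrivial
  obtain ⟨c, hc⟩ := exists_ne (1 : ↥(center ↥P))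
  have hcomm : ∀ d ∈ P, ((c : ↥P) : G) * d = d * (c : ↥P) := fun d hd =>
    (congrArg Subtype.val (mem_center_iff.1 c.2 ⟨d, hd⟩)).symm
  rcases hZ _ (hcomm z (hSP hzS)) (fun s hs => hcomm s (hSP hs)) with e | e
  · exact absurd (Subtype.ext (Subtype.ext e)) hc
  · intro d hd
    refine hH d hd ?_
    have := hcomm d hd
    rw [e] at this
    exact this.symm

/-- Three commuting involutions `u, v, uv` fixed-point-free on a normal subgroup of odd order
force it to be trivial. -/
theorem eq_bot_of_three_fpf {G : Type*} [Group G] [Finite G] {O : Subgroup G} [O.Normal]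
    {u v : G} (hu : u * u = 1) (hv : v * v = 1) (huv : u * v = v * u)
    (hfu : ∀ o ∈ O, u * o = o * u → o = 1) (hfv : ∀ o ∈ O, v * o = o * v → o = 1)
    (hfw : ∀ o ∈ O, (u * v) * o = o * (u * v) → o = 1) : O = ⊥ := by
  have key : ∀ w : G, w * w = 1 → (∀ o ∈ O, w * o = o * w → o = 1) →
      ∀ o ∈ O, w * o * w⁻¹ = o⁻¹ := by
    intro w hw hf o ho
    have hh := MonoidHom.FixedPointFree.coe_eq_inv_of_involutive
      (φ := (MulAut.conjNormal w : MulAut ↥O)) (fun v hv => ?_) (fun v => ?_)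
    · exact congrArg Subtype.val (congrFun hh ⟨o, ho⟩)
    · have he : w * (v : G) * w⁻¹ = v := congrArg Subtype.val hv
      exact Subtype.ext (hf _ v.2 (mul_inv_eq_iff_eq_mul.1 he))
    · apply Subtype.ext
      show w * (w * (v : G) * w⁻¹) * w⁻¹ = v
      rw [show w * (w * (v : G) * w⁻¹) * w⁻¹ = (w * w) * v * (w * w)⁻¹ by group, hw]
      group
  rw [eq_bot_iff]
  intro o ho
  rw [mem_bot]
  refine hfw o ho ?_
  rw [← mul_inv_eq_iff_eq_mul,
    show u * v * o * (u * v)⁻¹ = u * (v * o * v⁻¹) * u⁻¹ by group, key v hv hfv o ho,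
    key u hu hfu _ (inv_mem ho), inv_inv]

theorem commutator_top_congr {A B : Type*} [Group A] [Group B] (e : A ≃* B)
    (h : commutator A = ⊤) : commutator B = ⊤ := by
  have := Subgroup.map_commutator (⊤ : Subgroup A) ⊤ e.toMonoidHom
  rw [← commutator_def, h, map_top_of_surjective _ e.surjective] at this
  rw [commutator_def]
  exact this.symm

variable {X : Type u} [Group X]

/-- The hypothesis. -/
structure CentTwo (a z : X) (ψ : DihedralGroup 4 →* X) : Prop where
  cen : ∀ g : X, g * a = a * g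
  ha : orderOf a = 2
  inj : Function.Injective ψ
  hz : ψ (DihedralGroup.r 2) = z
  nA : a ∉ ψ.range
  cent : ∀ g : X, g * z = z * g → g ∈ ψ.range ∨ g * a ∈ ψ.range
  nza : ∀ g : X, g * z * g⁻¹ ≠ z * a

variable {a z : X} {ψ : DihedralGroup 4 →* X}

namespace CentTwo

variable (h : CentTwo a z ψ)
include h

theorem normal : (zpowers a).Normal := by
  refine ⟨fun c hc g => ?_⟩
  have : g * c = c * g := by
    obtain ⟨i, rfl⟩ := mem_zpowers_iff.1 hc
    exact (Commute.zpow_right (h.cen g) i).eq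
  rw [this, mul_inv_cancel_right]
  exact hc

theorem mem_A {c : X} (hc : c ∈ zpowers a) : c = 1 ∨ c = a :=
  eq_one_or_of_mem_zpowers (invol_mul_self h.ha) hc

theorem inf_eq_bot : ψ.range ⊓ zpowers a = ⊥ := by
  rw [eq_bot_iff]
  rintro c ⟨hc, hc'⟩
  rcases h.mem_A hc' with rfl | rfl
  · exact one_mem _
  · exact absurd hc h.nA

theorem zz : z * z = 1 := by
  rw [← h.hz, ← map_mul, show (DihedralGroup.r 2 * DihedralGroup.r 2 : DihedralGroup 4) = 1 by decide,
    map_one]

theorem z_ne : z ≠ 1 := fun e => by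
  have := h.inj ((h.hz.trans e).trans (map_one ψ).symm)
  exact absurd this (by decide)

theorem psi_z (d : DihedralGroup 4) : ψ d * z = z * ψ d := by
  rw [← h.hz, ← map_mul, ← map_mul]
  congr 1
  revert d
  decide

theorem mk_eq [(zpowers a).Normal] {g g' : X}
    (e : QuotientGroup.mk' (zpowers a) g = QuotientGroup.mk' (zpowers a) g') :
    g' = g ∨ g' = g * a := by
  rcases h.mem_A (QuotientGroup.eq.1 e) with e' | e'
  · left; rw [inv_mul_eq_one] at e'; exact e'.symm
  · right; rw [← e', mul_inv_cancel_left]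

theorem quot_injective [(zpowers a).Normal] :
    Function.Injective ((QuotientGroup.mk' (zpowers a)).comp ψ) := by
  intro d d' e
  rcases h.mk_eq e with e' | e'
  · exact (h.inj e').symm
  · refine absurd ?_ h.nA
    exact ⟨d⁻¹ * d', by rw [map_mul, map_inv, e', inv_mul_cancel_left]⟩

theorem quot_centralizer [(zpowers a).Normal] :
    centralizer ({QuotientGroup.mk' (zpowers a) z} : Set (X ⧸ zpowers a)) =
      ((QuotientGroup.mk' (zpowers a)).comp ψ).range := by
  set π := QuotientGroup.mk' (zpowers a) with hπ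
  refine le_antisymm (fun q hq => ?_) ?_
  · obtain ⟨g, rfl⟩ := QuotientGroup.mk'_surjective _ q
    have hq' : π (g * z * g⁻¹) = π z := by
      rw [map_mul, map_mul, map_inv, mul_inv_eq_iff_eq_mul]
      exact mem_centralizer_singleton_iff.1 hq
    have hgz : g * z = z * g := by
      rcases h.mk_eq hq'.symm with e | e
      · exact mul_inv_eq_iff_eq_mul.1 e
      · exact absurd e (h.nza g)
    rcases h.cent g hgz with ⟨d, hd⟩ | ⟨d, hd⟩
    · exact ⟨d, by rw [MonoidHom.comp_apply, hd]⟩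
    · refine ⟨d, ?_⟩
      rw [MonoidHom.comp_apply, hd, map_mul, show π a = 1 from
        (QuotientGroup.eq_one_iff _).2 (mem_zpowers a), mul_one]
  · rintro _ ⟨d, rfl⟩
    rw [mem_centralizer_singleton_iff, MonoidHom.comp_apply, ← map_mul, ← map_mul, h.psi_z]

variable [Finite X]

/-- The quotient by `⟨a⟩`. -/
theorem quot_cases [(zpowers a).Normal]
    (hy : ∃ d : DihedralGroup 4, d * d = 1 ∧ d ≠ 1 ∧ d ≠ DihedralGroup.r 2 ∧
      ∀ g : X, g * z * g⁻¹ ≠ ψ d ∧ g * z * g⁻¹ ≠ ψ d * a)
    (hx : ∃ d : DihedralGroup 4, d * d = 1 ∧ d ≠ 1 ∧ d ≠ DihedralGroup.r 2 ∧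
      ∀ d' ∈ ({d, d * DihedralGroup.r 2} : Set (DihedralGroup 4)),
        (∀ g : X, g * ψ d' * g⁻¹ ≠ ψ d' * a) ∧
          ∀ g : X, g * ψ d' = ψ d' * g → ∀ q : ℕ, q.Prime → orderOf g = q → q = 2) :
    (Nat.card X = 16 ∧ ∀ g : X, g * z = z * g) ∨
      Nonempty (X ⧸ zpowers a ≃* Equiv.Perm (Fin 4)) ∨
      Nonempty (X ⧸ zpowers a ≃* Equiv.Perm (Fin 5)) := by
  classical
  haveI : Fact (Nat.Prime 2) := ⟨Nat.prime_two⟩
  set π := QuotientGroup.mk' (zpowers a) with hπ
  have hπe : ∀ g g' : X, π g = π g' → g' = g ∨ g' = g * a := fun g g' e => h.mk_eq e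
  set φ : DihedralGroup 4 →* X ⧸ zpowers a := π.comp ψ with hφ
  have hφi : Function.Injective φ := h.quot_injective
  set zb := π z with hzb
  have hzb1 : φ (DihedralGroup.r 2) = zb := by rw [hφ, MonoidHom.comp_apply, h.hz]
  -- the centraliser of the image of `z`
  have hcent : centralizer ({zb} : Set (X ⧸ zpowers a)) = φ.range := h.quot_centralizer
  have hzbo : orderOf zb = 2 := by
    refine invol_of_mul_self (by rw [hzb, ← map_mul, h.zz, map_one]) fun e => ?_
    exact absurd (hφi ((hzb1.trans e).trans (map_one φ).symm)) (by decide)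
  let eC : ↥(centralizer ({zb} : Set (X ⧸ zpowers a))) ≃* DihedralGroup 4 :=
    (MulEquiv.subgroupCongr hcent).trans (MonoidHom.ofInjective hφi).symm
  -- its Sylow subgroup
  obtain ⟨P, hP⟩ : ∃ P : Sylow 2 (X ⧸ zpowers a), (P : Subgroup _) = φ.range := by
    have hp : IsPGroup 2 ↥φ.range := IsPGroup.of_card (n := 3) (by
      rw [← Nat.card_congr (MonoidHom.ofInjective hφi).toEquiv, DihedralGroup.nat_card]; norm_num)
    obtain ⟨P, hP⟩ := hp.exists_le_sylow
    refine ⟨P, le_antisymm (le_of_center P.2 hP (z := zb) ⟨_, hzb1⟩ (fun e => invol_ne_one hzbo e)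
      (fun c _ hc => hcent ▸ mem_centralizer_singleton_iff.2 hc) fun c hc hs => ?_) hP⟩
    obtain ⟨d, rfl⟩ : c ∈ φ.range := hcent ▸ mem_centralizer_singleton_iff.2 hc
    have hd : ∀ d', d * d' = d' * d := fun d' => hφi (by
      rw [map_mul, map_mul]; exact hs _ ⟨d', rfl⟩)
    have : ∀ d : DihedralGroup 4, (∀ d', d * d' = d' * d) → d = 1 ∨ d = DihedralGroup.r 2 := by
      decide
    rcases this d hd with rfl | rfl
    · exact Or.inl (map_one φ)
    · exact Or.inr hzb1
  rcases Cfsg.Agent.S3035.result zb hzbo ⟨eC⟩ with htop | h4 | h5 | hsimp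
  · left
    obtain ⟨d, hdd, hd1, hdr, hf⟩ := hx
    -- the odd core is trivial
    haveI : (Cfsg.oddCore (X ⧸ zpowers a)).Normal :=
      CfsgLib.Solvable.pPrimeCore_normal 2 (X ⧸ zpowers a)
    have hodd := CfsgLib.Invol.odd_card_oddCore (X ⧸ zpowers a)
    have hno : ∀ d' : DihedralGroup 4, (∀ g : X, g * ψ d' * g⁻¹ ≠ ψ d' * a) →
        (∀ g : X, g * ψ d' = ψ d' * g → ∀ q : ℕ, q.Prime → orderOf g = q → q = 2) →
        ∀ o ∈ Cfsg.oddCore (X ⧸ zpowers a), φ d' * o = o * φ d' → o = 1 := by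
      intro d' hna hf' o ho hco
      by_contra ho1
      have hoo : Odd (orderOf o) :=
        hodd.of_dvd_nat ((Cfsg.oddCore (X ⧸ zpowers a)).orderOf_dvd_natCard ho)
      obtain ⟨g, rfl⟩ := QuotientGroup.mk'_surjective _ o
      obtain ⟨q, hq, hqd⟩ := Nat.exists_prime_and_dvd (show orderOf (π g) ≠ 1 from
        fun e => ho1 (orderOf_eq_one_iff.1 e))
      have hg : g * ψ d' * g⁻¹ = ψ d' := by
        have e : π (ψ d') = π (g * ψ d' * g⁻¹) := by
          rw [map_mul, map_mul, map_inv, eq_mul_inv_iff_mul_eq]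
          exact hco
        rcases hπe _ _ e with e' | e'
        · exact e'
        · exact absurd e' (hna g)
      have hgc : Commute g (ψ d') := mul_inv_eq_iff_eq_mul.1 hg
      have hq2 := hf' (g ^ (orderOf g / q)) (hgc.pow_left _).eq q hq
        (orderOf_pow_orderOf_div (orderOf_pos g).ne' (hqd.trans (orderOf_map_dvd π g)))
      exact (Nat.not_even_iff_odd.2 hoo) (even_iff_two_dvd.2 (hq2 ▸ hqd))
    have hzf : ∀ g : X, g * z = z * g → ∀ q : ℕ, q.Prime → orderOf g = q → q = 2 := by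
      intro g hg q hq hgq
      have hd4 : ∀ d : DihedralGroup 4, d * d * (d * d) = 1 := by decide
      have h4 : g * g * (g * g) = 1 := by
        rcases h.cent g hg with ⟨d, hd⟩ | ⟨d, hd⟩
        · rw [← hd, ← map_mul, ← map_mul, hd4, map_one]
        · have : g = ψ d * a := by rw [hd, mul_assoc, invol_mul_self h.ha, mul_one]
          have e : g * g = ψ d * ψ d := by
            rw [this, mul_assoc (ψ d) a, ← mul_assoc a (ψ d) a, ← h.cen (ψ d),
              mul_assoc (ψ d) a a, invol_mul_self h.ha, mul_one]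
          rw [e, ← map_mul, ← map_mul, hd4, map_one]
      have h4' : g ^ (2 + 2) = 1 := by
        rw [pow_add, pow_two]
        exact h4
      have hd : q ∣ 2 ^ 2 := hgq ▸ orderOf_dvd_of_pow_eq_one h4'
      exact (Nat.prime_dvd_prime_iff_eq hq Nat.prime_two).1 (hq.dvd_of_dvd_pow hd)
    have hd2 : φ d * φ d = 1 := by rw [← map_mul, hdd, map_one]
    have hdw : (d * DihedralGroup.r 2) = DihedralGroup.r 2 * d := by
      have hc : ∀ d : DihedralGroup 4, d * DihedralGroup.r 2 = DihedralGroup.r 2 * d := by decide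
      exact hc d
    have hz2 : φ (DihedralGroup.r 2) * φ (DihedralGroup.r 2) = 1 := by
      rw [hzb1, invol_mul_self hzbo]
    have hOb : Cfsg.oddCore (X ⧸ zpowers a) = ⊥ := by
      refine eq_bot_of_three_fpf hd2 hz2 (by rw [← map_mul, ← map_mul, hdw])
        (hno d (hf d (Or.inl rfl)).1 (hf d (Or.inl rfl)).2) ?_ ?_
      · exact hno _ (fun g => by rw [h.hz]; exact h.nza g) (by rw [h.hz]; exact hzf)
      · rw [← map_mul]
        exact hno _ (hf _ (Or.inr rfl)).1 (hf _ (Or.inr rfl)).2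
    rw [hOb, sup_bot_eq, hcent] at htop
    refine ⟨?_, fun g => ?_⟩
    · rw [(zpowers a).card_eq_card_quotient_mul_card_subgroup, Nat.card_zpowers, h.ha,
        ← Subgroup.card_top (G := X ⧸ zpowers a), ← htop,
        ← Nat.card_congr (MonoidHom.ofInjective hφi).toEquiv, DihedralGroup.nat_card]
    · obtain ⟨d', hd'⟩ : π g ∈ φ.range := htop ▸ mem_top _
      rcases hπe _ _ hd' with e | e
      · rw [e]; exact h.psi_z d'
      · rw [e, mul_assoc, ← h.cen z, ← mul_assoc, h.psi_z, mul_assoc]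
  · exact Or.inr (Or.inl h4)
  · exact Or.inr (Or.inr h5)
  · exfalso
    obtain ⟨d, hdd, hd1, hdr, hng⟩ := hy
    have hperf : ∀ M : Subgroup (X ⧸ zpowers a), M.Normal → M.index ≠ 2 := by
      intro M hMn hM
      have hcM : commutator (X ⧸ zpowers a) ≤ M := by
        rw [← Subgroup.Normal.quotient_commutative_iff_commutator_le]
        haveI : IsCyclic ((X ⧸ zpowers a) ⧸ M) := isCyclic_of_prime_card (p := 2) (by rw [← index_eq_card, hM])
        exact ⟨⟨fun x y => (IsCyclic.commGroup.mul_comm x y)⟩⟩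
      have htop : commutator (X ⧸ zpowers a) = ⊤ := by
        rcases hsimp with ⟨⟨e⟩⟩ | ⟨⟨e⟩⟩
        · exact commutator_top_congr e.symm
            (CfsgLib.Classical.commutator_sl_eq_top (by simp))
        · exact commutator_top_congr e.symm (commutator_alternatingGroup_eq_top (by simp))
      rw [htop, top_le_iff] at hcM
      rw [hcM, index_top] at hM
      omega
    have hr1 : orderOf (φ (DihedralGroup.r 1)) = 4 := by
      rw [orderOf_injective φ hφi, DihedralGroup.orderOf_r_one]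
    have hQP : zpowers (φ (DihedralGroup.r 1)) ≤ (P : Subgroup (X ⧸ zpowers a)) := by
      rw [hP]; exact zpowers_le.2 ⟨_, rfl⟩
    have hQi : (zpowers (φ (DihedralGroup.r 1))).relIndex (P : Subgroup (X ⧸ zpowers a)) = 2 := by
      have h1 := card_mul_index ((zpowers (φ (DihedralGroup.r 1))).subgroupOf (P : Subgroup (X ⧸ zpowers a)))
      rw [Nat.card_congr (subgroupOfEquivOfLe hQP).toEquiv, Nat.card_zpowers, hr1, hP,
        ← Nat.card_congr (MonoidHom.ofInjective hφi).toEquiv, DihedralGroup.nat_card] at h1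
      rw [relIndex, hP]
      omega
    rcases CfsgLib.Transfer.thompson_transfer_involution P hQP hQi (u := φ d)
        (by rw [pow_two, ← map_mul, hdd, map_one]) (hP ▸ ⟨d, rfl⟩) with ⟨M, hMn, hM, -⟩ | ⟨g, hg⟩
    · exact hperf M hMn hM
    · obtain ⟨i, hi⟩ := mem_zpowers_iff.1 hg
      rw [← map_zpow, DihedralGroup.r_one_zpow] at hi
      have h2 : (DihedralGroup.r (i : ZMod 4)) * DihedralGroup.r (i : ZMod 4) = 1 := hφi (by
        rw [map_mul, hi, map_one,
          show g * φ d * g⁻¹ * (g * φ d * g⁻¹) = g * (φ d * φ d) * g⁻¹ by group, ← map_mul, hdd,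
          map_one, mul_one, mul_inv_cancel])
      have hcases : ∀ j : ZMod 4, (DihedralGroup.r j : DihedralGroup 4) * DihedralGroup.r j = 1 →
          j = 0 ∨ j = 2 := by decide
      rcases hcases _ h2 with e | e
      · rw [e, DihedralGroup.r_zero, map_one] at hi
        exact hd1 (hφi (by rw [map_one]; exact conj_eq_one_iff.1 hi.symm))
      · rw [e, hzb1] at hi
        obtain ⟨g', rfl⟩ := QuotientGroup.mk'_surjective _ g
        have e2 : π (ψ d) = π (g'⁻¹ * z * g'⁻¹⁻¹) := by
          rw [inv_inv, map_mul, map_mul, map_inv]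
          change φ d = (π g')⁻¹ * zb * π g'
          rw [hi, ← hπ]
          group
        rcases hπe _ _ e2 with e3 | e3
        · exact (hng g'⁻¹).1 e3
        · exact (hng g'⁻¹).2 e3

end CentTwo

end CfsgLib.InvChar.M12C
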