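import Cfsg.Agent.Lib.InvChar.M12C.Table
import Cfsg.Agent.Lib.InvChar.M12C.CentTwo
import Cfsg.Agent.Lib.InvChar.SimpleInvol
import Cfsg.Agent.Lib.Invol.Basic

/-!
# Fusion of involutions in a group with the centraliser of a 2-central involution of `M12`

The classes are `t` (with the classes of size 1, 6) and `a` (size 12); the class of size 24
joins one of them.
-/

set_option autoImplicit false
set_option maxRecDepth 100000
set_option Elab.async false

namespace CfsgLib.InvChar.M12C

open CfsgLib.Invol Subgroup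

universe u

/-- A maximal subgroup of the Sylow subgroup without involutions of class size 24. -/
def subList : List ℕ := [0, 1, 2, 7, 16, 17, 19, 20, 23, 24, 34, 36, 39, 40, 46, 47, 49, 52, 68, 74, 75, 91, 93, 97, 99, 103, 107, 119, 127, 136, 138, 146]

theorem lab_zi : lab zi = 1 ∧ lab ai = 12 ∧ lab Xi = 6 ∧ lab wi = 24 := by decide +kernel

theorem lt_facts : zi < 192 ∧ ai < 192 ∧ bi < 192 ∧ bzi < 192 ∧ Xi < 192 ∧ wi < 192 := by decide

theorem lab_one_chk : all192 (fun i => !Nat.beq (lab i) 1 || Nat.beq i zi) = true := by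
  decide +kernel

theorem sq_chk_a : all192 (fun c => !comm c ai || Nat.beq (mul c c) 0 || Nat.beq (mul c c) zi)
    = true := by decide +kernel

theorem sq_chk_a' : (List.range 192).any (fun c => comm c ai && Nat.beq (mul c c) zi) = true := by
  decide +kernel

theorem sq_chk_x : all192 (fun i => !Nat.beq (lab i) 6 ||
    (List.range 192).any fun c => comm c i && Nat.beq (mul c c) zi) = true := by decide +kernel

theorem sq_chk_w : all192 (fun i => !(Nat.beq (lab i) 12 || Nat.beq (lab i) 24) ||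
    all192 fun c => !comm c i || !Nat.beq (mul c c) i) = true := by decide +kernel

/-- The pair of class size 6 in the centraliser of an involution of class size 24. -/
theorem lab24_pair_chk : all192 (fun j => !Nat.beq (lab j) 24 ||
    (List.range 192).any fun p => comm p j && Nat.beq (lab p) 6 && comm (mul p zi) j &&
      Nat.beq (lab (mul p zi)) 6 && Nat.beq (mul p (mul p zi)) zi && Nat.beq (mul p p) 0) = true := by
  decide +kernel

theorem pair_chk_w : all192 (fun p => !(comm p wi && !Nat.beq p 0 && Nat.beq (mul p p) 0) ||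
    (!Nat.beq (lab p) 12 && all192 fun q => !(comm q wi && Nat.beq (lab p) 6 && Nat.beq (lab q) 6) ||
      !Nat.beq (mul p q) wi)) = true := by decide +kernel

theorem fusSyl_chk : sylList.all (fun i => Nat.blt i 192 && sylList.all fun j =>
    sylList.contains (mul i j)) = true := by decide +kernel

theorem sub_chk : subList.all (fun i => Nat.blt i 192 && sylList.contains i &&
    !Nat.beq (lab i) 24 && subList.all fun j => subList.contains (mul i j)) = true := by
  decide +kernel

theorem fusSyl_center : all192 (fun c => !(sylList.all fun s => comm c s) || Nat.beq c 0 ||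
    Nat.beq c zi) = true := by decide +kernel

theorem syl_len : sylList.length = 64 ∧ sylList.Nodup ∧ subList.length = 32 ∧ subList.Nodup ∧
    zi ∈ sylList ∧ wi ∈ sylList := by decide +kernel

theorem not_comm_false {p : Bool} {q : Prop} (h : p = true) (hq : p = false) : q := by
  rw [h] at hq; cases hq

theorem syl_mem_lt {i : ℕ} (hi : i ∈ sylList) : i < 192 := by
  have h := List.all_eq_true.1 fusSyl_chk i hi
  simp only [Bool.and_eq_true] at h
  simpa [Nat.blt] using h.1

theorem sub_mem {i : ℕ} (hi : i ∈ subList) : i < 192 ∧ i ∈ sylList ∧ lab i ≠ 24 := by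
  have h := List.all_eq_true.1 sub_chk i hi
  simp only [Bool.and_eq_true] at h
  obtain ⟨⟨⟨h1, h2⟩, h3⟩, -⟩ := h
  exact ⟨by simpa [Nat.blt] using h1, by simpa using h2, fun e => by rw [e] at h3; simp at h3⟩

theorem sylList_closed : (∀ i ∈ sylList, ∀ j ∈ sylList, mul i j ∈ sylList) ∧ 0 ∈ sylList ∧
    ∀ i ∈ sylList, inv i ∈ sylList := by
  refine ⟨fun i hi j hj => ?_, by decide, ?_⟩
  · have h := List.all_eq_true.1 fusSyl_chk i hi
    simp only [Bool.and_eq_true] at h
    simpa using List.all_eq_true.1 h.2 j hj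
  · have h : sylList.all (fun i => sylList.contains (inv i)) = true := by decide +kernel
    exact fun i hi => by simpa using List.all_eq_true.1 h i hi

theorem subList_closed : (∀ i ∈ subList, ∀ j ∈ subList, mul i j ∈ subList) ∧ 0 ∈ subList ∧
    ∀ i ∈ subList, inv i ∈ subList := by
  refine ⟨fun i hi j hj => ?_, by decide, ?_⟩
  · have h := List.all_eq_true.1 sub_chk i hi
    simp only [Bool.and_eq_true] at h
    simpa using List.all_eq_true.1 h.2 j hj
  · have h : subList.all (fun i => subList.contains (inv i)) = true := by decide +kernel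
    exact fun i hi => by simpa using List.all_eq_true.1 h i hi

/-- Conjugation preserves commutation. -/
theorem conj_comm {G : Type*} [Group G] (g : G) {x y : G} (h : x * y = y * x) :
    g * x * g⁻¹ * (g * y * g⁻¹) = g * y * g⁻¹ * (g * x * g⁻¹) := by
  rw [show g * x * g⁻¹ * (g * y * g⁻¹) = g * (x * y) * g⁻¹ by group, h]
  group

namespace Data

variable {G : Type u} [Group G] {t : G} (D : Data t)
include D

theorem orderOf_t : orderOf t = 2 := by
  rw [← D.el_zi]
  exact D.orderOf_el lt_facts.1 (by decide) (by decide +kernel)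

/-- Indices of involutions. -/
theorem invol_of_lab {i : ℕ} (hi : i < 192) (hl : lab i ≠ 0) : orderOf (D.el i) = 2 := by
  have h := all192_get lab_chk hi
  simp only [Bool.and_eq_true, Bool.or_eq_true] at h
  rcases h with ⟨⟨⟨-, h2⟩, h0⟩, -⟩ | ⟨h1, -⟩
  · refine D.orderOf_el hi (fun e => ?_) (Nat.eq_of_beq_eq_true h2)
    rw [e] at h0
    simp at h0
  · exact absurd (Nat.eq_of_beq_eq_true h1) hl

/-- An involution of the table is conjugate to the representative of its class. -/
theorem isConj_rep {i : ℕ} (hi : i < 192) (hl : lab i ≠ 0) :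
    IsConj (D.el (rep (lab i))) (D.el i) := by
  obtain ⟨j, hj, hji, -, hw⟩ := D.exists_wit (D.invol_of_lab hi hl) (D.el_comm_t hi)
  rw [D.el_inj hj hi hji] at hw
  exact isConj_iff.2 ⟨_, hw⟩

theorem isConj_six {i : ℕ} (hi : i < 192) (hl : lab i = 6) : IsConj (D.el Xi) (D.el i) := by
  have := D.isConj_rep hi (by rw [hl]; decide)
  rw [hl] at this
  exact this

theorem isConj_twelve {i : ℕ} (hi : i < 192) (hl : lab i = 12) : IsConj (D.el ai) (D.el i) := by
  have := D.isConj_rep hi (by rw [hl]; decide)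
  rw [hl] at this
  exact this

theorem isConj_w {i : ℕ} (hi : i < 192) (hl : lab i = 24) : IsConj (D.el wi) (D.el i) := by
  have := D.isConj_rep hi (by rw [hl]; decide)
  rw [hl] at this
  exact this

theorem eq_t_of_lab_one {i : ℕ} (hi : i < 192) (hl : lab i = 1) : D.el i = t := by
  have h := all192_get lab_one_chk hi
  simp only [Bool.or_eq_true, hl] at h
  rcases h with h | h
  · exact absurd h (by decide)
  · rw [Nat.eq_of_beq_eq_true h, D.el_zi]

theorem el_commute_of {i j : ℕ} (hi : i < 192) (hj : j < 192) (h : comm i j = true) :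
    D.el i * D.el j = D.el j * D.el i := (D.el_commute hi hj).2 h

theorem el_sq {i k : ℕ} (hi : i < 192) (h : mul i i = k) : D.el i * D.el i = D.el k := by
  rw [D.el_mul hi hi, h]

/-- **`a` is not conjugate to `t`.** -/
theorem not_isConj_a : ¬ IsConj t (D.el ai) := by
  intro hconj
  obtain ⟨g, hg⟩ := isConj_iff.1 hconj
  set a := D.el ai with ha
  have hat : a * t = t * a := D.el_comm_t lt_facts.2.1
  -- the preimage of `t`
  have ht' : (g⁻¹ * t * g) * t = t * (g⁻¹ * t * g) := by
    calc (g⁻¹ * t * g) * t = g⁻¹ * (t * (g * t * g⁻¹)) * g := by group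
      _ = g⁻¹ * ((g * t * g⁻¹) * t) * g := by rw [hg, hat]
      _ = t * (g⁻¹ * t * g) := by group
  obtain ⟨i, hi, hit, hl, -⟩ := D.exists_wit
    ((orderOf_conj_inv_eq g t).trans D.orderOf_t) ht'
  have hiG : g * D.el i * g⁻¹ = t := by rw [hit]; group
  rcases hl with h1 | h6 | h12
  · rw [D.eq_t_of_lab_one hi h1, hg] at hiG
    have := D.el_inj lt_facts.2.1 lt_facts.1 (hiG.trans D.el_zi.symm)
    exact absurd this (by decide)
  · have h := all192_get sq_chk_x hi
    simp only [Bool.or_eq_true, List.any_eq_true, List.mem_range, Bool.and_eq_true] at h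
    rcases h with h | ⟨c, hc, hci, hc2⟩
    · rw [h6] at h; exact absurd h (by decide)
    have e1 : g * D.el c * g⁻¹ * t = t * (g * D.el c * g⁻¹) := by
      have e := conj_comm g (D.el_commute_of hc hi hci)
      rwa [hiG] at e
    obtain ⟨k, hk, hk'⟩ := D.mem.1 e1
    have e2 : g * D.el c * g⁻¹ * a = a * (g * D.el c * g⁻¹) := by
      rw [← hg]
      calc g * D.el c * g⁻¹ * (g * t * g⁻¹) = g * (D.el c * t) * g⁻¹ := by group
        _ = g * (t * D.el c) * g⁻¹ := by rw [D.el_comm_t hc]
        _ = g * t * g⁻¹ * (g * D.el c * g⁻¹) := by group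
    have hsq : D.el k * D.el k = a := by
      rw [hk', show g * D.el c * g⁻¹ * (g * D.el c * g⁻¹) = g * (D.el c * D.el c) * g⁻¹ by group,
        D.el_sq hc (Nat.eq_of_beq_eq_true hc2), D.el_zi, hg]
    rw [D.el_mul hk hk] at hsq
    have hkk := D.el_inj (mul_lt hk hk) lt_facts.2.1 hsq
    have h := all192_get sq_chk_a hk
    simp only [Bool.or_eq_true, hkk] at h
    rw [← hk'] at e2
    rw [(D.el_commute hk lt_facts.2.1).1 e2] at h
    rcases h with (h | h) | h <;> exact absurd h (by decide)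
  · obtain ⟨c, hc, hca⟩ := List.any_eq_true.1 sq_chk_a'
    simp only [List.mem_range, Bool.and_eq_true] at hc hca
    obtain ⟨hca, hc2⟩ := hca
    have e1 : g⁻¹ * D.el c * g * t = t * (g⁻¹ * D.el c * g) := by
      calc g⁻¹ * D.el c * g * t = g⁻¹ * (D.el c * (g * t * g⁻¹)) * g := by group
        _ = g⁻¹ * ((g * t * g⁻¹) * D.el c) * g := by rw [hg, ha, D.el_commute_of hc lt_facts.2.1 hca]
        _ = t * (g⁻¹ * D.el c * g) := by group
    obtain ⟨k, hk, hk'⟩ := D.mem.1 e1
    have e2 : D.el k * D.el i = D.el i * D.el k := by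
      rw [hk', hit]
      calc g⁻¹ * D.el c * g * (g⁻¹ * t * g) = g⁻¹ * (D.el c * t) * g := by group
        _ = g⁻¹ * (t * D.el c) * g := by rw [D.el_comm_t hc]
        _ = g⁻¹ * t * g * (g⁻¹ * D.el c * g) := by group
    have hsq : D.el k * D.el k = D.el i := by
      rw [hk', hit, show g⁻¹ * D.el c * g * (g⁻¹ * D.el c * g) = g⁻¹ * (D.el c * D.el c) * g by group,
        D.el_sq hc (Nat.eq_of_beq_eq_true hc2), D.el_zi]
    rw [D.el_mul hk hk] at hsq
    have hkk := D.el_inj (mul_lt hk hk) hi hsq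
    have h := all192_get sq_chk_w hi
    simp only [Bool.or_eq_true] at h
    rcases h with h | h
    · rcases h12 with e | e <;> rw [e] at h <;> exact absurd h (by decide)
    · have h' := all192_get h hk
      rw [(D.el_commute hk hi).1 e2, hkk, Nat.beq_refl] at h'
      exact absurd h' (by decide)

variable [Finite G] [IsSimpleGroup G]

/-- **`t` is conjugate to the involutions of class size 6.** -/
theorem isConj_X (hG : ¬ IsMulCommutative G) : IsConj t (D.el Xi) := by
  have hni := CfsgLib.InvChar.not_isolated_of_simple (z := t) hG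
  obtain ⟨g, hgc, hgne⟩ : ∃ g : G, Commute t (g * t * g⁻¹) ∧ g * t * g⁻¹ ≠ t := by
    by_contra hc
    push Not at hc
    exact hni ⟨D.orderOf_t, hc⟩
  obtain ⟨i, hi, hit, hl, -⟩ := D.exists_wit ((orderOf_conj_eq g t).trans D.orderOf_t) hgc.eq.symm
  have hti : IsConj t (D.el i) := isConj_iff.2 ⟨g, hit.symm⟩
  rcases hl with h1 | h6 | h12 | h24
  · exact absurd (hit ▸ D.eq_t_of_lab_one hi h1) hgne
  · exact hti.trans (D.isConj_six hi h6).symm
  · exact absurd (hti.trans (D.isConj_twelve hi h12).symm) D.not_isConj_a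
  obtain ⟨g, hg⟩ := isConj_iff.1 (hti.trans (D.isConj_w hi h24).symm)
  -- the preimage of `t`
  have hwt : D.el wi * t = t * D.el wi := D.el_comm_t lt_facts.2.2.2.2.2
  have ht' : (g⁻¹ * t * g) * t = t * (g⁻¹ * t * g) := by
    calc (g⁻¹ * t * g) * t = g⁻¹ * (t * (g * t * g⁻¹)) * g := by group
      _ = g⁻¹ * ((g * t * g⁻¹) * t) * g := by rw [hg, hwt]
      _ = t * (g⁻¹ * t * g) := by group
  obtain ⟨j, hj, hjt, hl, -⟩ := D.exists_wit
    ((orderOf_conj_inv_eq g t).trans D.orderOf_t) ht'
  have hjG : g * D.el j * g⁻¹ = t := by rw [hjt]; group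
  have htj : IsConj t (D.el j) := isConj_iff.2 ⟨g⁻¹, by rw [hjt]; group⟩
  rcases hl with h1 | h6 | h12 | h24
  · rw [D.eq_t_of_lab_one hj h1, hg] at hjG
    have := D.el_inj lt_facts.2.2.2.2.2 lt_facts.1 (hjG.trans D.el_zi.symm)
    exact absurd this (by decide)
  · exact htj.trans (D.isConj_six hj h6).symm
  · exact absurd (htj.trans (D.isConj_twelve hj h12).symm) D.not_isConj_a
  have h := all192_get lab24_pair_chk hj
  simp only [Bool.or_eq_true, List.any_eq_true, List.mem_range, Bool.and_eq_true] at h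
  rcases h with h | ⟨p, hp, ⟨⟨⟨⟨hpj, hp6⟩, hqj⟩, hq6⟩, hpq⟩, hpp⟩
  · rw [h24] at h; exact absurd h (by decide)
  set q := mul p zi with hq
  have hq192 : q < 192 := mul_lt hp lt_facts.1
  -- images
  have key : ∀ r, r < 192 → comm r j = true →
      ∃ k < 192, D.el k = g * D.el r * g⁻¹ ∧ comm k wi = true := by
    intro r hr hrj
    have e1 : g * D.el r * g⁻¹ * t = t * (g * D.el r * g⁻¹) := by
      have e := conj_comm g (D.el_commute_of hr hj hrj)
      rwa [hjG] at e
    obtain ⟨k, hk, hk'⟩ := D.mem.1 e1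
    refine ⟨k, hk, hk', (D.el_commute hk lt_facts.2.2.2.2.2).1 ?_⟩
    rw [hk', ← hg]
    calc g * D.el r * g⁻¹ * (g * t * g⁻¹) = g * (D.el r * t) * g⁻¹ := by group
      _ = g * (t * D.el r) * g⁻¹ := by rw [D.el_comm_t hr]
      _ = g * t * g⁻¹ * (g * D.el r * g⁻¹) := by group
  have kind : ∀ r, r < 192 → lab r = 6 → ∀ k, k < 192 → comm k wi = true →
      D.el k = g * D.el r * g⁻¹ → IsConj t (D.el Xi) ∨ lab k = 6 := by
    intro r hr hr6 k hk hkw hkr
    have hrk : IsConj (D.el r) (D.el k) := isConj_iff.2 ⟨g, hkr.symm⟩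
    have ho : orderOf (D.el k) = 2 :=
      (orderOf_eq_of_isConj hrk).trans (D.invol_of_lab hr (by rw [hr6]; decide))
    obtain ⟨k', hk', hkk, hl, -⟩ := D.exists_wit ho (D.el_comm_t hk)
    rw [D.el_inj hk' hk hkk] at hl
    have hXk : IsConj (D.el Xi) (D.el k) := (D.isConj_six hr hr6).trans hrk
    rcases hl with h1 | h6 | h12 | h24
    · rw [D.eq_t_of_lab_one hk h1] at hXk
      exact Or.inl hXk.symm
    · exact Or.inr h6
    · exfalso
      have hk0 : k ≠ 0 := fun e => by rw [e, D.el_zero, orderOf_one] at ho; omega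
      have hk2 : mul k k = 0 := D.el_inj (mul_lt hk hk) (by norm_num)
        (by rw [← D.el_mul hk hk, D.el_zero]; exact invol_mul_self ho)
      have h := all192_get pair_chk_w hk
      simp only [Bool.or_eq_true, Bool.and_eq_true, hkw, hk2, h12] at h
      simp [hk0] at h
    · exact Or.inl ((htj.trans (D.isConj_w hj ‹_›).symm).trans
        ((D.isConj_w hk h24).trans hXk.symm))
  obtain ⟨k₁, hk₁, e₁, c₁⟩ := key p hp hpj
  obtain ⟨k₂, hk₂, e₂, c₂⟩ := key q hq192 hqj
  rcases kind p hp (Nat.eq_of_beq_eq_true hp6) k₁ hk₁ c₁ e₁ with h | l₁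
  · exact h
  rcases kind q hq192 (Nat.eq_of_beq_eq_true hq6) k₂ hk₂ c₂ e₂ with h | l₂
  · exact h
  exfalso
  have hprod : D.el k₁ * D.el k₂ = D.el wi := by
    rw [e₁, e₂, ← hg, show g * D.el p * g⁻¹ * (g * D.el q * g⁻¹) = g * (D.el p * D.el q) * g⁻¹ by
      group, D.el_mul hp hq192, Nat.eq_of_beq_eq_true hpq, D.el_zi]
  rw [D.el_mul hk₁ hk₂] at hprod
  have hk12 := D.el_inj (mul_lt hk₁ hk₂) lt_facts.2.2.2.2.2 hprod
  have hk0 : k₁ ≠ 0 := fun e => by rw [e] at l₁; exact absurd l₁ (by decide +kernel)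
  have ho := D.invol_of_lab hk₁ (by rw [l₁]; decide)
  have hk2 : mul k₁ k₁ = 0 := D.el_inj (mul_lt hk₁ hk₁) (by norm_num)
    (by rw [← D.el_mul hk₁ hk₁, D.el_zero]; exact invol_mul_self ho)
  have h := all192_get pair_chk_w hk₁
  simp only [Bool.or_eq_true, Bool.and_eq_true, c₁, hk2, l₁] at h
  simp [hk0] at h
  have h' := all192_get h.2 hk₂
  simp [c₂, l₂, hk12] at h'

theorem isConj_t_of_six (hG : ¬ IsMulCommutative G) {i : ℕ} (hi : i < 192) (hl : lab i = 6) :
    IsConj t (D.el i) := (D.isConj_X hG).trans (D.isConj_six hi hl)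

/-- The subgroup of the elements with numbers in a list closed under multiplication. -/
def listSubgroup (l : List ℕ) (h : ∀ i ∈ l, i < 192) (hm : ∀ i ∈ l, ∀ j ∈ l, mul i j ∈ l)
    (h0 : 0 ∈ l) (hinv : ∀ i ∈ l, inv i ∈ l) : Subgroup G where
  carrier := {g | ∃ i ∈ l, D.el i = g}
  one_mem' := ⟨0, h0, D.el_zero⟩
  mul_mem' := by
    rintro _ _ ⟨i, hi, rfl⟩ ⟨j, hj, rfl⟩
    exact ⟨_, hm i hi j hj, (D.el_mul (h i hi) (h j hj)).symm⟩
  inv_mem' := by
    rintro _ ⟨i, hi, rfl⟩
    exact ⟨_, hinv i hi, (D.el_inv (h i hi)).symm⟩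

omit [IsSimpleGroup G] in
theorem card_listSubgroup (l : List ℕ) (h : ∀ i ∈ l, i < 192)
    (hm : ∀ i ∈ l, ∀ j ∈ l, mul i j ∈ l) (h0 : 0 ∈ l) (hinv : ∀ i ∈ l, inv i ∈ l) (hn : l.Nodup) :
    Nat.card ↥(D.listSubgroup l h hm h0 hinv) = l.length := by
  classical
  rw [← List.toFinset_card_of_nodup hn, ← Nat.card_eq_finsetCard]
  refine (Nat.card_eq_of_bijective (fun i => ⟨D.el i.1, i.1, List.mem_toFinset.1 i.2, rfl⟩) ⟨?_, ?_⟩).symm
  · intro i j e
    exact Subtype.ext (D.el_inj (h _ (List.mem_toFinset.1 i.2)) (h _ (List.mem_toFinset.1 j.2))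
      (congrArg Subtype.val e :))
  · rintro ⟨_, i, hi, rfl⟩
    exact ⟨⟨i, List.mem_toFinset.2 hi⟩, rfl⟩

omit [IsSimpleGroup G] in
/-- The Sylow subgroup in the table. -/
theorem exists_sylow : ∃ P : Sylow 2 G, (P : Subgroup G) = D.listSubgroup sylList
    (fun _ => syl_mem_lt) sylList_closed.1 sylList_closed.2.1 sylList_closed.2.2 ∧
    Nat.card ↥(P : Subgroup G) = 64 := by
  haveI : Fact (Nat.Prime 2) := ⟨Nat.prime_two⟩
  obtain ⟨hlen, hnd, -, -, hzS, -⟩ := syl_len
  set S := D.listSubgroup sylList (fun _ => syl_mem_lt) sylList_closed.1 sylList_closed.2.1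
    sylList_closed.2.2 with hS
  have hS64 : Nat.card ↥S = 64 := by rw [hS, D.card_listSubgroup _ _ _ _ _ hnd, hlen]
  obtain ⟨P, hP⟩ := (IsPGroup.of_card (p := 2) (n := 6) (by rw [hS64]; norm_num) :
    IsPGroup 2 ↥S).exists_le_sylow
  have hPS : (P : Subgroup G) = S := by
    refine le_antisymm (le_of_center P.2 hP (z := t) ⟨zi, hzS, D.el_zi⟩
      (invol_ne_one D.orderOf_t) (fun c hc hct => ?_) fun c hct hs => ?_) hP
    · obtain ⟨k, hk, rfl⟩ := D.mem.1 hct
      by_contra hkS
      -- a larger 2-subgroup of the centraliser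
      have hle : Nat.card ↥((P : Subgroup G) ⊓ centralizer ({t} : Set G)) ∣ 192 :=
        D.card_centralizer ▸ card_dvd_of_le inf_le_right
      obtain ⟨n, hn⟩ := (P.2.to_le inf_le_left :
        IsPGroup 2 ↥((P : Subgroup G) ⊓ centralizer ({t} : Set G))).exists_card_eq
      have hn6 : n ≤ 6 := by
        rw [hn] at hle
        by_contra hn6
        have := Nat.le_of_dvd (by norm_num) ((pow_dvd_pow 2 (show 7 ≤ n by omega)).trans hle)
        exact absurd ((pow_dvd_pow 2 (show 7 ≤ n by omega)).trans hle) (by norm_num)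
      have hlt : S < (P : Subgroup G) ⊓ centralizer ({t} : Set G) := by
        refine lt_of_le_of_ne (le_inf hP fun s hs => ?_) fun e => hkS ?_
        · obtain ⟨i, hi, rfl⟩ := hs
          exact mem_centralizer_singleton_iff.2 (D.el_comm_t (syl_mem_lt hi))
        · rw [e]; exact ⟨hc, mem_centralizer_singleton_iff.2 hct⟩
      have h1 := card_dvd_of_le hlt.le
      have h2 : Nat.card ↥S < Nat.card ↥((P : Subgroup G) ⊓ centralizer ({t} : Set G)) :=
        lt_of_not_ge fun hge => hlt.ne (eq_of_le_of_card_ge hlt.le hge)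
      rw [hS64, hn] at h2
      have := pow_le_pow_right₀ (show (1:ℕ) ≤ 2 by norm_num) hn6
      omega
    · obtain ⟨k, hk, rfl⟩ := D.mem.1 hct
      have h := all192_get fusSyl_center hk
      simp only [Bool.or_eq_true] at h
      rcases h with (h | h) | h
      · exfalso
        have hall : (sylList.all fun s => comm k s) = true := List.all_eq_true.2 fun s hs' =>
          (D.el_commute hk (syl_mem_lt hs')).1 (hs _ ⟨s, hs', rfl⟩)
        rw [hall] at h
        exact absurd h (by decide)
      · left; rw [Nat.eq_of_beq_eq_true h, D.el_zero]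
      · right; rw [Nat.eq_of_beq_eq_true h, D.el_zi]
  exact ⟨P, hPS, by rw [hPS, hS64]⟩

omit [IsSimpleGroup G] in
/-- Every involution is conjugate to an element of the table. -/
theorem exists_conj_el {v : G} (hv : orderOf v = 2) : ∃ i < 192, IsConj (D.el i) v ∧
    (lab i = 1 ∨ lab i = 6 ∨ lab i = 12 ∨ lab i = 24) := by
  obtain ⟨P, hP, -⟩ := D.exists_sylow
  obtain ⟨g, hg⟩ := exists_conj_invol_mem_sylow P hv
  have hg' : g * v * g⁻¹ ∈ (P : Subgroup G) := hg
  rw [hP] at hg'
  obtain ⟨i, hi, hiv⟩ := hg'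
  have hi' := syl_mem_lt hi
  obtain ⟨j, hj, hji, hl, -⟩ := D.exists_wit
    (hiv ▸ (orderOf_conj_eq g v).trans hv) (D.el_comm_t hi')
  rw [D.el_inj hj hi' hji] at hl
  exact ⟨i, hi', (isConj_iff.2 ⟨g, hiv.symm⟩ : IsConj v (D.el i)).symm, hl⟩

/-- **The class of size 24 joins one of the two classes.** -/
theorem isConj_w_cases (hG : ¬ IsMulCommutative G) :
    IsConj t (D.el wi) ∨ IsConj (D.el ai) (D.el wi) := by
  haveI : Fact (Nat.Prime 2) := ⟨Nat.prime_two⟩
  obtain ⟨-, -, hlen', hnd', -, hwS⟩ := syl_len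
  set S := D.listSubgroup sylList (fun i => syl_mem_lt) sylList_closed.1 sylList_closed.2.1
    sylList_closed.2.2 with hS
  set T := D.listSubgroup subList (fun i hi => (sub_mem hi).1) subList_closed.1 subList_closed.2.1
    subList_closed.2.2 with hT
  obtain ⟨P, hPS, hS64⟩ := D.exists_sylow
  rw [hPS] at hS64
  have hTS : T ≤ (P : Subgroup G) := by
    rw [hPS]
    rintro _ ⟨i, hi, rfl⟩
    exact ⟨i, (sub_mem hi).2.1, rfl⟩
  have hTi : T.relIndex (P : Subgroup G) = 2 := by
    have h := card_mul_index (T.subgroupOf (P : Subgroup G))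
    rw [Nat.card_congr (subgroupOfEquivOfLe hTS).toEquiv, hT, D.card_listSubgroup _ _ _ _ _ hnd',
      hlen', hPS, hS64] at h
    rw [relIndex, hPS]
    rw [← hT] at h
    omega
  have hw2 := D.invol_of_lab lt_facts.2.2.2.2.2 (by rw [lab_zi.2.2.2]; decide)
  rcases CfsgLib.Transfer.thompson_transfer_involution P hTS hTi (u := D.el wi)
      (by rw [pow_two]; exact invol_mul_self hw2) (hPS ▸ ⟨wi, hwS, rfl⟩) with ⟨M, hMn, hM, -⟩ | ⟨g, hg⟩
  · exfalso
    rcases hMn.eq_bot_or_eq_top with e | e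
    · rw [e, index_bot] at hM
      exact hG (isMulCommutative_iff.2 fun x y => by
        haveI : IsCyclic G := isCyclic_of_prime_card (p := 2) hM
        exact IsCyclic.commGroup.mul_comm x y)
    · rw [e, index_top] at hM; omega
  · obtain ⟨i, hi, hit⟩ := hg
    obtain ⟨hi192, -, hne⟩ := sub_mem hi
    have hwi : IsConj (D.el wi) (D.el i) := isConj_iff.2 ⟨g, hit.symm⟩
    obtain ⟨j, hj, hji, hl, -⟩ := D.exists_wit ((orderOf_eq_of_isConj hwi).trans hw2) (D.el_comm_t hi192)
    rw [D.el_inj hj hi192 hji] at hl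
    rcases hl with h | h | h | h
    · rw [D.eq_t_of_lab_one hi192 h] at hwi
      exact Or.inl hwi.symm
    · exact Or.inl ((D.isConj_t_of_six hG hi192 h).trans hwi.symm)
    · exact Or.inr ((D.isConj_twelve hi192 h).trans hwi.symm)
    · exact absurd h hne

end Data

end CfsgLib.InvChar.M12C
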