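import Mathlib.Data.Nat.Notation

/-! # Data for the generators of `M12` -/

set_option autoImplicit false

namespace CfsgLib.InvChar.M12C

/-- The centraliser of `X` in the table, with words in `z, X, a, h0, h1`. -/
def wList : List (ℕ × List ℕ) := [(0, []), (1, [0]), (4, [1]), (2, [2]), (85, [3]), (93, [4]), (9, [0, 1]), (7, [0, 2]), (114, [0, 3]), (119, [0, 4]), (13, [1, 2]), (153, [1, 3]), (80, [1, 4]), (132, [2, 3]), (138, [2, 4]), (168, [3, 2]), (163, [3, 4]), (146, [4, 2]), (167, [4, 3]), (31, [0, 1, 2]), (177, [0, 1, 3]), (110, [0, 1, 4]), (166, [0, 2, 3]), (159, [0, 3, 2]), (178, [0, 3, 4]), (179, [0, 4, 3]), (129, [1, 2, 4]), (161, [1, 4, 2]), (181, [2, 3, 4]), (182, [2, 4, 3]), (189, [3, 2, 4]), (191, [0, 2, 3, 4])]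

/-- Relators of the centraliser of `X`. -/
def wRels : List (List ℕ) := [[0, 0], [1, 1], [2, 2], [3, 3], [4, 4], [3, 2, 4, 2, 4, 3, 0], [0, 2, 3, 4, 2, 3, 4, 0], [0, 2, 3, 4, 3, 2, 4, 1]]

/-- The first further generator of the centraliser of `X`. -/
def h0i : ℕ := 85
/-- The second further generator of the centraliser of `X`. -/
def h1i : ℕ := 93

/-- Their possible images under the new generator. -/
def imgPairs : List (ℕ × ℕ) := [(85, 182), (85, 191), (177, 189), (177, 181)]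

/-- An automorphism of the table fixing `z, a, b, X`. -/
def thetaList : List ℕ := [0, 1, 2, 3, 4, 98, 64, 7, 8, 9, 51, 54, 12, 13, 38, 42, 16, 99, 28, 19, 107, 27, 32, 103, 97, 61, 33, 21, 18, 95, 30, 31, 22, 26, 52, 44, 74, 43, 14, 68, 47, 102, 15, 37, 35, 120, 46, 40, 56, 49, 55, 10, 34, 82, 11, 50, 48, 94, 77, 63, 69, 25, 87, 59, 6, 100, 79, 72, 39, 60, 149, 86, 67, 155, 36, 91, 111, 58, 152, 66, 110, 108, 53, 112, 143, 153, 71, 62, 118, 116, 139, 75, 115, 119, 57, 29, 135, 24, 5, 17, 65, 104, 41, 23, 101, 140, 171, 20, 81, 142, 80, 76, 83, 151, 177, 92, 89, 173, 88, 93, 45, 154, 123, 122, 125, 124, 141, 136, 157, 161, 162, 164, 159, 145, 148, 96, 127, 147, 146, 90, 105, 126, 109, 84, 186, 133, 138, 137, 134, 70, 170, 113, 78, 85, 121, 73, 160, 128, 184, 132, 156, 129, 130, 179, 131, 187, 168, 178, 166, 185, 150, 106, 180, 117, 183, 190, 188, 114, 167, 163, 172, 189, 191, 174, 158, 169, 144, 165, 176, 181, 175, 182]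

/-- An element with `k a k⁻¹ = b` and `k b k⁻¹ = a b`. -/
def ki : ℕ := 73

/-- The word of `k`. -/
def kWord : List ℕ := [3, 5, 4]

/-- The word of `b z`. -/
def bzWord : List ℕ := [0, 2]

/-- The words of the generators of the centraliser of `X`. -/
def hWords : List (List ℕ) := [[4, 5, 4], [5, 3, 5]]

/-- The relators of the centraliser of the involution. -/
def cRels : List (List ℕ) := [[0, 0], [1, 1], [2, 2], [3, 3], [4, 4], [5, 5], [4, 3, 1, 4, 2], [4, 5, 4, 5, 4, 5], [0, 1, 3, 2, 3, 2, 1], [0, 1, 4, 5, 2, 5, 4], [0, 1, 5, 1, 3, 5, 2]]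

/-- The relators of the centraliser of `a`. -/
def aRels : List (List ℕ) := [[6, 6], [7, 7], [1, 6, 1, 6], [1, 7, 1, 7], [2, 6, 2, 6, 2, 6], [0, 2, 6, 0, 2, 6, 0, 2, 6], [0, 2, 7, 0, 2, 7, 0, 2, 7], [2, 7, 2, 7], [6, 7, 6, 7], [6, 2, 0, 2, 6, 3]]

/-- The words of the possible images. -/
def imgWords : List (List (List ℕ)) := [[[4, 5, 4], [1, 4, 5, 3, 4]], [[4, 5, 4], [4, 1, 5, 1, 4]], [[0, 3, 4, 5, 4], [2, 5, 1, 4, 5]], [[0, 3, 4, 5, 4], [1, 4, 3, 5, 4]]]

end CfsgLib.InvChar.M12C
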