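import Cfsg.Agent.Lib.InvChar.M12C.Table
import Cfsg.Agent.Lib.InvChar.M12C.GenData
import Cfsg.Agent.Lib.InvChar.M12C.CertCH
import Cfsg.Agent.Lib.InvChar.M12C.CertE0
import Cfsg.Agent.Lib.InvChar.M12C.CertE2
import Cfsg.Agent.Lib.InvChar.M12C.CertE3
import Cfsg.Agent.Lib.InvChar.M12C.CertMain
import Mathlib.GroupTheory.Perm.Basic
import Mathlib.Data.Fintype.Perm

/-!
# Checked facts about the table used for the generators
-/

set_option autoImplicit false
set_option maxRecDepth 100000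
set_option Elab.async false

namespace CfsgLib.InvChar.M12C

open CfsgLib.InvChar.Coset Equiv

/-- The number of a letter. -/
def lidx (x : ℕ) : ℕ := letterIdx.getD x 0

/-- The automorphism of the table. -/
def theta (i : ℕ) : ℕ := thetaList.getD i 0

/-- The value of a word in five given numbers. -/
noncomputable def ev (g : List ℕ) (w : List ℕ) : ℕ := w.foldr (fun x r => mul (g.getD x 0) r) 0

theorem idx_small : zi < 192 ∧ ai < 192 ∧ bi < 192 ∧ bzi < 192 ∧ Xi < 192 ∧ h0i < 192 ∧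
    h1i < 192 ∧ ki < 192 ∧ ai ≠ 0 ∧ zi ≠ Xi ∧ mul ai ai = 0 ∧ mul bi bzi = zi := by decide +kernel

theorem letter_chk : ((List.range 6).all fun x => Nat.blt (lidx x) 192 &&
    Nat.beq (mul (lidx x) (lidx x)) 0 &&
    all192 fun i => Nat.beq (stepT.app i x) (mul i (lidx x))) = true := by decide +kernel

theorem rel_chk : (cRels.all fun r => r.all (fun x => Nat.blt x 6) &&
    Nat.beq (stepT.follow r 0) 0) = true := by decide +kernel

theorem word_chk :
    stepT.follow bzWord 0 = bzi ∧ stepT.follow kWord 0 = ki ∧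
    stepT.follow [1] 0 = ai ∧ stepT.follow [2] 0 = bi ∧ stepT.follow [3] 0 = Xi ∧
    hWords.map (fun w => stepT.follow w 0) = [h0i, h1i] ∧
    imgWords.map (fun l => (stepT.follow (l.getD 0 []) 0, stepT.follow (l.getD 1 []) 0)) = imgPairs ∧
    (kWord ++ bzWord).all (fun x => decide (x < 6)) = true ∧
    hWords.all (fun w => w.all fun x => decide (x < 6)) = true ∧
    imgWords.all (fun l => l.all fun w => w.all fun x => decide (x < 6)) = true := by decide +kernel

theorem theta_chk : (all192 fun i => Nat.blt (theta i) 192 &&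
    all192 fun j => Nat.beq (mul (theta i) (theta j)) (theta (mul i j)) &&
      (Nat.beq i j || !Nat.beq (theta i) (theta j))) = true := by decide +kernel

theorem theta_fix : theta 0 = 0 ∧ theta zi = zi ∧ theta ai = ai ∧ theta bi = bi ∧
    theta bzi = bzi ∧ theta Xi = Xi := by decide +kernel

theorem wlist_chk : (wList.all fun p => p.2.all (fun g => Nat.blt g 5) &&
    Nat.beq (ev [zi, Xi, ai, h0i, h1i] p.2) p.1 && Nat.blt p.1 192) &&
    (wRels.all fun w => w.all (fun g => Nat.blt g 5) &&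
      Nat.beq (ev [zi, Xi, ai, h0i, h1i] w) 0) &&
    (all192 fun i => !(comm i zi && comm i Xi) || wList.any fun p => Nat.beq p.1 i) &&
    comm h0i zi && comm h0i Xi && comm h1i zi && comm h1i Xi = true := by decide +kernel

/-- The test satisfied by the images of `h0` and `h1`. -/
noncomputable def pairTest (p q : ℕ) : Bool :=
  (wRels.all fun w => Nat.beq (ev [Xi, zi, ai, p, q] w) 0) &&
  wList.all fun r =>
    (!Nat.beq r.1 p || Nat.beq (ev [Xi, zi, ai, p, q] r.2) h0i) &&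
    (!Nat.beq r.1 q || Nat.beq (ev [Xi, zi, ai, p, q] r.2) h1i)

theorem pair_chk : (wList.all fun r => wList.all fun r' =>
    !pairTest r.1 r'.1 || imgPairs.any fun pq => Nat.beq pq.1 r.1 && Nat.beq pq.2 r'.1) = true := by
  decide +kernel

theorem twist_chk : ([(theta h0i, theta (imgPairs.getD 3 (0, 0)).1),
    (theta h1i, theta (imgPairs.getD 3 (0, 0)).2)].all fun ht => wList.any fun r =>
    Nat.beq r.1 ht.1 && Nat.beq
      (ev [Xi, zi, ai, (imgPairs.getD 1 (0, 0)).1, (imgPairs.getD 1 (0, 0)).2] r.2) ht.2) = true := by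
  decide +kernel

theorem k_chk : conj ki ai = bi ∧ conj ki bi = mul ai bi := by decide +kernel

theorem perm_facts : (swap (0 : Fin 5) 1 * swap 2 3 = swap 2 3 * swap 0 1) ∧
    (swap (1 : Fin 5) 2 * (swap 0 1 * swap 2 3) * swap 1 2 = swap 0 2 * swap 1 3) ∧
    (swap (1 : Fin 5) 2 * (swap 0 2 * swap 1 3) * swap 1 2 = swap 0 1 * swap 2 3) ∧
    (swap (0 : Fin 5) 1 * (swap 2 3 * swap 3 4) = swap 2 3 * swap 3 4 * swap 0 1) := by
  decide +kernel

theorem perm_center : ∀ p : Perm (Fin 5), p * swap 0 1 = swap 0 1 * p → p * swap 1 2 = swap 1 2 * p →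
    p * swap 2 3 = swap 2 3 * p → p * swap 3 4 = swap 3 4 * p → p = 1 := by decide +kernel

theorem perm_three : ∀ p : Perm (Fin 5), p * p * p = 1 → p ≠ 1 → p * swap 0 1 = swap 0 1 * p →
    p = swap 2 3 * swap 3 4 ∨ p = swap 3 4 * swap 2 3 := by decide +kernel

theorem perm_rels :
    (swap (1 : Fin 5) 2 * swap 1 2 = 1) ∧ (swap (3 : Fin 5) 4 * swap 3 4 = 1) ∧
    ((swap (0 : Fin 5) 1 * swap 1 2) ^ 3 = 1) ∧ ((swap (2 : Fin 5) 3 * swap 1 2) ^ 3 = 1) ∧
    ((swap (2 : Fin 5) 3 * swap 3 4) ^ 3 = 1) ∧ ((swap (0 : Fin 5) 1 * swap 3 4) ^ 2 = 1) ∧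
    ((swap (1 : Fin 5) 2 * swap 3 4) ^ 2 = 1) ∧
    (swap (1 : Fin 5) 2 * swap 0 1 * swap 2 3 * swap 1 2 * (swap 0 2 * swap 1 3) = 1) ∧
    ((swap (2 : Fin 5) 3 * swap 3 4) * (swap 3 4 * swap 2 3) = 1) ∧
    ((swap (2 : Fin 5) 3 * swap 3 4) ≠ 1) := by
  decide +kernel

end CfsgLib.InvChar.M12C
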