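import Cfsg.Agent.Lib.InvChar.M12C.GenChecks

/-!
# The relators of `M12` from the centralisers of two involutions

`Psi D ψ` describes the centraliser of `a`. Six letters of the table and the two elements
`ψ (2 3)`, `ψ (4 5)` satisfy, after an automorphism of the table, the relators of the certificate
`CertMain`.
-/

set_option autoImplicit false
set_option maxRecDepth 100000
set_option Elab.async false

namespace CfsgLib.InvChar.M12C

open CfsgLib.InvChar.Coset Equiv

universe u

/-- What is used about the centraliser of `a`. -/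
structure Psi {G : Type u} [Group G] {t : G} (D : Data t) (ψ : Perm (Fin 5) →* G) : Prop where
  inj : Function.Injective ψ
  commute : ∀ p, ψ p * D.el ai = D.el ai * ψ p
  cover : ∀ g, g * D.el ai = D.el ai * g → ∃ p, g = ψ p ∨ g = D.el ai * ψ p
  map_b : ψ (swap 0 1) = D.el bi
  map_bz : ψ (swap 2 3) = D.el bzi
  map_X : ψ (swap 0 2 * swap 1 3) = D.el Xi

namespace Data

variable {G : Type u} [Group G] {t : G} (D : Data t)

/-- The letters: six numbers and two further elements. -/
noncomputable def lett (ψ : Perm (Fin 5) →* G) (x : ℕ) : G :=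
  if x < 6 then D.el (lidx x) else if x = 6 then ψ (swap 1 2) else if x = 7 then ψ (swap 3 4) else 1

theorem lett_small (ψ : Perm (Fin 5) →* G) {x : ℕ} (hx : x < 6) : D.lett ψ x = D.el (lidx x) := if_pos hx

theorem lett_six (ψ : Perm (Fin 5) →* G) : D.lett ψ 6 = ψ (swap 1 2) := rfl

theorem lett_seven (ψ : Perm (Fin 5) →* G) : D.lett ψ 7 = ψ (swap 3 4) := rfl

theorem el_follow (ψ : Perm (Fin 5) →* G) : ∀ (L : List ℕ), (∀ x ∈ L, x < 6) → ∀ {i : ℕ}, i < 192 →
    stepT.follow L i < 192 ∧ D.el i * wprod (D.lett ψ) L = D.el (stepT.follow L i) := by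
  intro L
  induction L with
  | nil => intro _ i hi; exact ⟨hi, by simp [wprod, Table.follow]⟩
  | cons x L ih =>
    intro hL i hi
    have hx := hL x List.mem_cons_self
    have h := List.all_eq_true.1 letter_chk x (List.mem_range.2 hx)
    simp only [Bool.and_eq_true] at h
    have hl : lidx x < 192 := by simpa [Nat.blt] using h.1.1
    have e1 : stepT.app i x = mul i (lidx x) := Nat.eq_of_beq_eq_true (all192_get h.2 hi)
    have e : stepT.follow (x :: L) i = stepT.follow L (mul i (lidx x)) := by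
      rw [← e1]; exact force_eq _ _
    obtain ⟨h3, h4⟩ := ih (fun y hy => hL y (List.mem_cons_of_mem x hy)) (mul_lt hi hl)
    rw [e]
    refine ⟨h3, ?_⟩
    rw [← h4, ← D.el_mul hi hl, mul_assoc]
    simp [wprod, D.lett_small ψ hx]

theorem wprod_el (ψ : Perm (Fin 5) →* G) {L : List ℕ} (hL : ∀ x ∈ L, x < 6) {i : ℕ}
    (h : stepT.follow L 0 = i) : wprod (D.lett ψ) L = D.el i := by
  rw [← h, ← (D.el_follow ψ L hL (i := 0) (by norm_num)).2, D.el_zero, one_mul]

theorem lett_mul_self (ψ : Perm (Fin 5) →* G) (x : ℕ) : D.lett ψ x * D.lett ψ x = 1 := by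
  rcases Nat.lt_or_ge x 6 with hx | hx
  · have h := List.all_eq_true.1 letter_chk x (List.mem_range.2 hx)
    simp only [Bool.and_eq_true] at h
    have hl : lidx x < 192 := by simpa [Nat.blt] using h.1.1
    rw [D.lett_small ψ hx, D.el_mul hl hl, Nat.eq_of_beq_eq_true h.1.2, D.el_zero]
  · simp only [lett, show ¬ x < 6 by omega, if_false]
    split
    · rw [← map_mul, perm_rels.1, map_one]
    · split
      · rw [← map_mul, perm_rels.2.1, map_one]
      · simp

/-- Evaluation of a word in five numbers. -/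
theorem el_ev (g : List ℕ) (hg : ∀ x, g.getD x 0 < 192) : ∀ w : List ℕ,
    ev g w < 192 ∧ D.el (ev g w) = wprod (fun x => D.el (g.getD x 0)) w := by
  intro w
  induction w with
  | nil => exact ⟨by simp [ev], by simp [ev, wprod, D.el_zero]⟩
  | cons x w ih =>
    refine ⟨mul_lt (hg x) ih.1, ?_⟩
    show D.el (mul (g.getD x 0) (ev g w)) = _
    rw [← D.el_mul (hg x) ih.1, ih.2]
    simp [wprod]

/-- The twisted numbering. -/
noncomputable def twist : Data t where
  el i := D.el (theta i)
  el_mul := fun {i j} hi hj => by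
    have h := all192_get theta_chk hi
    simp only [Bool.and_eq_true] at h
    have h2 := all192_get h.2 hj
    simp only [Bool.and_eq_true] at h2
    have hj' := all192_get theta_chk hj
    simp only [Bool.and_eq_true] at hj'
    rw [D.el_mul (by simpa [Nat.blt] using h.1) (by simpa [Nat.blt] using hj'.1),
      Nat.eq_of_beq_eq_true h2.1]
  el_inj := fun {i j} hi hj he => by
    have h := all192_get theta_chk hi
    simp only [Bool.and_eq_true] at h
    have h2 := all192_get h.2 hj
    simp only [Bool.and_eq_true, Bool.or_eq_true] at h2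
    have hj' := all192_get theta_chk hj
    simp only [Bool.and_eq_true] at hj'
    have := D.el_inj (by simpa [Nat.blt] using h.1) (by simpa [Nat.blt] using hj'.1) he
    rcases h2.2 with h2 | h2
    · exact Nat.eq_of_beq_eq_true h2
    · simp [this] at h2
  mem := fun {g} => by
    constructor
    · intro hg
      obtain ⟨i, hi, rfl⟩ := D.mem.1 hg
      have hth : ∀ j < 192, theta j < 192 := fun j hj => by
        have h := all192_get theta_chk hj
        simp only [Bool.and_eq_true] at h
        simpa [Nat.blt] using h.1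
      let f : Fin 192 → Fin 192 := fun j => ⟨theta j, hth j j.2⟩
      have hf : Function.Injective f := fun a b hab => Fin.ext (by
        have h := all192_get theta_chk a.2
        simp only [Bool.and_eq_true] at h
        have h2 := all192_get h.2 b.2
        simp only [Bool.and_eq_true, Bool.or_eq_true] at h2
        rcases h2.2 with h2 | h2
        · exact Nat.eq_of_beq_eq_true h2
        · have := congrArg Fin.val hab
          simp [f] at this
          simp [this] at h2)
      obtain ⟨j, hj⟩ := (Finite.injective_iff_surjective.1 hf) ⟨i, hi⟩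
      refine ⟨j, j.2, ?_⟩
      rw [show theta j = i from congrArg Fin.val hj]
    · rintro ⟨i, hi, rfl⟩
      have h := all192_get theta_chk hi
      simp only [Bool.and_eq_true] at h
      exact D.el_comm_t (by simpa [Nat.blt] using h.1)
  el_zero := by rw [theta_fix.1, D.el_zero]
  el_zi := by rw [theta_fix.2.1, D.el_zi]

end Data

variable {G : Type u} [Group G] {t : G} {D : Data t} {ψ : Perm (Fin 5) →* G}

namespace Psi

variable (P : Psi D ψ)
include P

theorem twist : Psi D.twist ψ := by
  obtain ⟨-, -, hA, hB, hBZ, hX⟩ := theta_fix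
  have e : ∀ i, D.twist.el i = D.el (theta i) := fun _ => rfl
  refine ⟨P.inj, ?_, ?_, ?_, ?_, ?_⟩ <;> simp only [e, hA, hB, hBZ, hX]
  exacts [P.commute, P.cover, P.map_b, P.map_bz, P.map_X]

theorem map_z : ψ (swap 0 1 * swap 2 3) = t := by
  rw [map_mul, P.map_b, P.map_bz, D.el_mul idx_small.2.2.1 idx_small.2.2.2.1,
    idx_small.2.2.2.2.2.2.2.2.2.2.2, D.el_zi]

theorem conj_t : ψ (swap 1 2) * t * ψ (swap 1 2) = D.el Xi := by
  calc ψ (swap 1 2) * t * ψ (swap 1 2) = ψ (swap 1 2) * ψ (swap 0 1 * swap 2 3) * ψ (swap 1 2) := by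
        rw [P.map_z]
    _ = D.el Xi := by rw [← map_mul, ← map_mul, perm_facts.2.1, P.map_X]

theorem conj_X : ψ (swap 1 2) * D.el Xi * ψ (swap 1 2) = t := by
  rw [← P.map_X, ← map_mul, ← map_mul, perm_facts.2.2.1, P.map_z]

theorem sq_u : ψ (swap 1 2) * ψ (swap 1 2) = 1 := by rw [← map_mul, perm_rels.1, map_one]

theorem not_comm_u : ψ (swap 1 2) * t ≠ t * ψ (swap 1 2) := by
  intro h
  have h2 := P.conj_t
  rw [h, mul_assoc, P.sq_u, mul_one] at h2
  exact idx_small.2.2.2.2.2.2.2.2.2.1 (D.el_inj idx_small.1 idx_small.2.2.2.2.1 (D.el_zi.trans h2))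

/-- Conjugation by `ψ (2 3)` of an element of the centraliser of `X` in the table. -/
theorem exists_conj {i : ℕ} (hi : i < 192) (hz : comm i zi = true) (hX : comm i Xi = true) :
    ∃ r ∈ wList, ψ (swap 1 2) * D.el i * ψ (swap 1 2) = D.el r.1 := by
  set v := ψ (swap 1 2) with hv
  have h1 : D.el i * t = t * D.el i := D.el_comm_t hi
  have h2 : D.el i * D.el Xi = D.el Xi * D.el i := (D.el_commute hi idx_small.2.2.2.2.1).2 hX
  have key : ∀ a b : G, D.el i * a = a * D.el i → v * a * v = b →
      v * D.el i * v * b = b * (v * D.el i * v) := by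
    intro a b hab hb
    rw [← hb]
    calc v * D.el i * v * (v * a * v) = v * (D.el i * (v * v) * a) * v := by simp only [mul_assoc]
      _ = v * (D.el i * a) * v := by rw [P.sq_u, mul_one]
      _ = v * (a * D.el i) * v := by rw [hab]
      _ = v * (a * (v * v) * D.el i) * v := by rw [P.sq_u, mul_one]
      _ = v * a * v * (v * D.el i * v) := by simp only [mul_assoc]
  obtain ⟨j, hj, he⟩ := D.mem.1 (key (D.el Xi) t h2 P.conj_X)
  have hjX : comm j Xi = true := by
    rw [← D.el_commute hj idx_small.2.2.2.2.1, he]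
    exact key t (D.el Xi) h1 P.conj_t
  have hjz : comm j zi = true := by
    rw [← D.el_commute hj idx_small.1, D.el_zi]; exact D.el_comm_t hj
  have hw := wlist_chk
  simp only [Bool.and_eq_true] at hw
  have := all192_get hw.1.1.1.1.2 hj
  simp only [Bool.or_eq_true, List.any_eq_true] at this
  rcases this with h | ⟨r, hr, hrj⟩
  · simp [hjX, hjz] at h
  · exact ⟨r, hr, by rw [Nat.eq_of_beq_eq_true hrj, he]⟩

/-- Conjugation by `ψ (2 3)` evaluated on a word. -/
theorem conj_ev {p q : ℕ} (hp : p < 192) (hq : q < 192)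
    (h0 : ψ (swap 1 2) * D.el h0i * ψ (swap 1 2) = D.el p)
    (h1 : ψ (swap 1 2) * D.el h1i * ψ (swap 1 2) = D.el q)
    (w : List ℕ) (hw : ∀ g ∈ w, g < 5) :
    ψ (swap 1 2) * D.el (ev [zi, Xi, ai, h0i, h1i] w) * ψ (swap 1 2) =
      D.el (ev [Xi, zi, ai, p, q] w) := by
  obtain ⟨z_, a_, -, -, X_, s0, s1, -⟩ := idx_small
  have hg : ∀ (A : List ℕ), (∀ y ∈ A, y < 192) → ∀ x, A.getD x 0 < 192 := by
    intro A hA x
    rcases Nat.lt_or_ge x A.length with h | h
    · rw [List.getD_eq_getElem _ _ h]; exact hA _ (List.getElem_mem h)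
    · rw [List.getD_eq_default _ _ h]; norm_num
  have g0 := hg [zi, Xi, ai, h0i, h1i] (by simp [z_, a_, X_, s0, s1])
  have g1 := hg [Xi, zi, ai, p, q] (by simp [z_, a_, X_, hp, hq])
  rw [(D.el_ev _ g0 w).2, (D.el_ev _ g1 w).2]
  have ha : ψ (swap 1 2) * D.el ai * ψ (swap 1 2) = D.el ai := by
    rw [P.commute, mul_assoc, P.sq_u, mul_one]
  induction w with
  | nil => simp [wprod, P.sq_u]
  | cons x w ih =>
    have hx : x < 5 := hw x List.mem_cons_self
    have ih := ih (fun g hg => hw g (List.mem_cons_of_mem x hg))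
    simp only [wprod, List.map_cons, List.prod_cons] at ih ⊢
    rw [← ih]
    have hl : ψ (swap 1 2) * D.el ([zi, Xi, ai, h0i, h1i].getD x 0) * ψ (swap 1 2) =
        D.el ([Xi, zi, ai, p, q].getD x 0) := by
      interval_cases x <;> simp [D.el_zi, P.conj_t, P.conj_X, ha, h0, h1]
    rw [← hl]
    calc _ = ψ (swap 1 2) * D.el ([zi, Xi, ai, h0i, h1i].getD x 0) * (ψ (swap 1 2) * ψ (swap 1 2)) *
          ((List.map (fun x => D.el ([zi, Xi, ai, h0i, h1i].getD x 0)) w).prod * ψ (swap 1 2)) := by
          rw [P.sq_u]; simp only [mul_assoc, one_mul]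
      _ = _ := by simp only [mul_assoc]

/-- The action of `ψ (2 3)` on `h0`, `h1` is one of four. -/
theorem exists_case : ∃ i < 4,
    ψ (swap 1 2) * D.el h0i * ψ (swap 1 2) = D.el (imgPairs.getD i (0, 0)).1 ∧
    ψ (swap 1 2) * D.el h1i * ψ (swap 1 2) = D.el (imgPairs.getD i (0, 0)).2 := by
  have hw := wlist_chk
  simp only [Bool.and_eq_true, List.all_eq_true] at hw
  obtain ⟨⟨⟨⟨⟨⟨hL, hR⟩, -⟩, a0⟩, b0⟩, a1⟩, b1⟩ := hw
  obtain ⟨r, hr, hr0⟩ := P.exists_conj idx_small.2.2.2.2.2.1 a0 b0
  obtain ⟨r', hr', hr1⟩ := P.exists_conj idx_small.2.2.2.2.2.2.1 a1 b1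
  have hlt : ∀ r ∈ wList, r.1 < 192 ∧ (∀ g ∈ r.2, g < 5) ∧ ev [zi, Xi, ai, h0i, h1i] r.2 = r.1 :=
    fun r hr => by
      obtain ⟨⟨h1, h2⟩, h3⟩ := hL r hr
      exact ⟨by simpa [Nat.blt] using h3, fun g hg => by simpa [Nat.blt] using h1 g hg,
        Nat.eq_of_beq_eq_true h2⟩
  have hp := (hlt r hr).1
  have hq := (hlt r' hr').1
  have hback : ∀ i, i < 192 → ∀ j, j < 192 → ψ (swap 1 2) * D.el i * ψ (swap 1 2) = D.el j →
      ψ (swap 1 2) * D.el j * ψ (swap 1 2) = D.el i := by
    intro i _ j _ h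
    rw [← h]
    simp only [← mul_assoc, P.sq_u, one_mul]
    rw [mul_assoc, P.sq_u, mul_one]
  have hg : ∀ w : List ℕ, ev [Xi, zi, ai, r.1, r'.1] w < 192 := fun w => by
    refine (D.el_ev _ (fun x => ?_) w).1
    obtain ⟨z_, a_, -, -, X_, -⟩ := idx_small
    rcases Nat.lt_or_ge x 5 with h | h
    · interval_cases x <;> simp [z_, a_, X_, hp, hq]
    · rw [List.getD_eq_default _ _ (by simpa using h)]; norm_num
  have ht : pairTest r.1 r'.1 = true := by
    simp only [pairTest, Bool.and_eq_true, List.all_eq_true, Bool.or_eq_true]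
    constructor
    · intro w hwm
      obtain ⟨h5, h0⟩ := hR w hwm
      have hc := P.conj_ev hp hq hr0 hr1 w (fun g hg => by simpa [Nat.blt] using h5 g hg)
      rw [Nat.eq_of_beq_eq_true h0, D.el_zero, mul_one, P.sq_u, ← D.el_zero] at hc
      rw [← D.el_inj (by norm_num) (hg w) hc]; rfl
    · intro s hs
      obtain ⟨hs1, hs5, hse⟩ := hlt s hs
      have hc := P.conj_ev hp hq hr0 hr1 s.2 hs5
      rw [hse] at hc
      constructor
      · by_cases h : s.1 = r.1
        · right
          rw [h, hback _ idx_small.2.2.2.2.2.1 _ hp hr0] at hc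
          rw [← D.el_inj idx_small.2.2.2.2.2.1 (hg _) hc]
          exact Nat.beq_refl _
        · left
          cases hb : Nat.beq s.1 r.1
          · rfl
          · exact absurd (Nat.eq_of_beq_eq_true hb) h
      · by_cases h : s.1 = r'.1
        · right
          rw [h, hback _ idx_small.2.2.2.2.2.2.1 _ hq hr1] at hc
          rw [← D.el_inj idx_small.2.2.2.2.2.2.1 (hg _) hc]
          exact Nat.beq_refl _
        · left
          cases hb : Nat.beq s.1 r'.1
          · rfl
          · exact absurd (Nat.eq_of_beq_eq_true hb) h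
  have hc := List.all_eq_true.1 (List.all_eq_true.1 pair_chk r hr) r' hr'
  rw [ht] at hc
  simp only [Bool.not_true, Bool.false_or, List.any_eq_true, Bool.and_eq_true] at hc
  obtain ⟨pq, hmem, e1, e2⟩ := hc
  obtain ⟨i, hi, rfl⟩ := List.mem_iff_getElem.1 hmem
  have hl : imgPairs.length = 4 := rfl
  refine ⟨i, hl ▸ hi, ?_, ?_⟩
  · rw [hr0, List.getD_eq_getElem _ _ hi, Nat.eq_of_beq_eq_true e1]
  · rw [hr1, List.getD_eq_getElem _ _ hi, Nat.eq_of_beq_eq_true e2]

end Psi

end CfsgLib.InvChar.M12C
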