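import Cfsg.Agent.Lib.InvChar.M12C.CentAOrder
import Cfsg.Agent.Lib.Solvable.Gaschutz

/-!
# The local structure of a group with the centraliser of a 2-central involution of `M12`

`a` is not conjugate to `t` and its centraliser is `⟨a⟩ × S₅`, with `b`, `b * t` transpositions
and `X` a double transposition.
-/

set_option autoImplicit false
set_option maxRecDepth 100000
set_option Elab.async false

namespace CfsgLib.InvChar.M12C

open CfsgLib.Invol Subgroup Equiv
open scoped IsMulCommutative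

universe u

/-- A quotient `S₅` with a complemented kernel of order two lifts. -/
theorem exists_section {X : Type*} [Group X] [Finite X] {a z : X} {ψ : DihedralGroup 4 →* X}
    (h : CentTwo a z ψ) [(zpowers a).Normal] (hC : Nat.card (centralizer ({z} : Set X)) = 16)
    (e : X ⧸ zpowers a ≃* Perm (Fin 5)) :
    ∃ s : Perm (Fin 5) →* X, ∀ p, e (QuotientGroup.mk (s p)) = p := by
  classical
  haveI : IsMulCommutative ↥(zpowers a) := inferInstance
  have hX : Nat.card X = 240 := by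
    rw [(zpowers a).card_eq_card_quotient_mul_card_subgroup, Nat.card_congr e.toEquiv,
      Nat.card_zpowers, h.ha, Nat.card_perm, Nat.card_fin]
    rfl
  set U := centralizer ({z} : Set X) with hU
  have hKU : zpowers a ≤ U := zpowers_le.2 (mem_centralizer_singleton_iff.2 (h.cen z).symm)
  have hidx : U.index = 15 := by
    have := U.card_mul_index
    rw [hC, hX] at this
    omega
  have hsup : zpowers a ⊔ ψ.range = U := by
    refine le_antisymm (sup_le hKU ?_) fun g hg => ?_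
    · rintro _ ⟨d, rfl⟩
      exact mem_centralizer_singleton_iff.2 (h.psi_z d)
    · rcases h.cent g (mem_centralizer_singleton_iff.1 hg) with hd | hd
      · exact mem_sup_right hd
      · rw [show g = g * a * a by rw [mul_assoc, invol_mul_self h.ha, mul_one]]
        exact mul_mem (mem_sup_right hd) (mem_sup_left (mem_zpowers a))
  obtain ⟨H, hH⟩ := CfsgLib.Solvable.gaschutz_exists (K := zpowers a) hKU
    (by rw [Nat.card_zpowers, h.ha, hidx]; decide) h.inf_eq_bot hsup
  have hb : Function.Bijective (((QuotientGroup.mk' (zpowers a))).comp H.subtype) := by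
    refine ⟨fun p q hpq => ?_, fun y => ?_⟩
    · have h1 : (p : X)⁻¹ * q ∈ zpowers a ⊓ H :=
        mem_inf.2 ⟨QuotientGroup.eq.1 hpq, mul_mem (inv_mem p.2) q.2⟩
      rw [hH.disjoint.eq_bot, mem_bot, inv_mul_eq_one] at h1
      exact Subtype.ext h1
    · obtain ⟨g, rfl⟩ := QuotientGroup.mk'_surjective _ y
      obtain ⟨⟨⟨k, hk⟩, c⟩, hkc⟩ := hH.2 g
      refine ⟨c, ?_⟩
      rw [← hkc]
      show QuotientGroup.mk' (zpowers a) (c : X) = QuotientGroup.mk' (zpowers a) (k * c)
      rw [map_mul, show QuotientGroup.mk' (zpowers a) k = 1 from (QuotientGroup.eq_one_iff k).2 hk,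
        one_mul]
  set f := MulEquiv.ofBijective _ hb with hf
  refine ⟨H.subtype.comp (f.symm.toMonoidHom.comp e.symm.toMonoidHom), fun p => ?_⟩
  have : f (f.symm (e.symm p)) = e.symm p := f.apply_symm_apply _
  show e (QuotientGroup.mk ((f.symm (e.symm p) : ↥H) : X)) = p
  rw [show (QuotientGroup.mk ((f.symm (e.symm p) : ↥H) : X) : X ⧸ zpowers a) =
    f (f.symm (e.symm p)) from rfl, this, e.apply_symm_apply]

theorem perm_data :
    (swap (0 : Fin 5) 1 * swap 0 1 = 1 ∧ swap (0 : Fin 5) 1 * swap 2 3 = swap 2 3 * swap 0 1) ∧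
    (∃ c : Perm (Fin 5), c * c = swap 0 1 * swap 2 3) ∧
    (∃ c : Perm (Fin 5), c * (swap 0 1 * swap 2 3) * c⁻¹ = swap 0 2 * swap 1 3) := by
  decide +kernel

/-- Twisting a section by the sign. -/
theorem exists_section_adjusted {X : Type*} [Group X] {a : X} (ha : a * a = 1)
    (hcen : ∀ g, g * a = a * g) [(zpowers a).Normal] {Y : Type*} [Group Y] (e : X ⧸ zpowers a ≃* Y)
    (σ : Y →* ℤˣ) (s : Y →* X) (hs : ∀ p, e (QuotientGroup.mk (s p)) = p) {y₀ : Y} {b : X}
    (hσ : σ y₀ = -1) (hb : e (QuotientGroup.mk b) = y₀) :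
    ∃ s' : Y →* X, (∀ p, e (QuotientGroup.mk (s' p)) = p) ∧ s' y₀ = b := by
  have h0 : QuotientGroup.mk' (zpowers a) (s y₀) = QuotientGroup.mk' (zpowers a) b :=
    e.injective ((hs y₀).trans hb.symm)
  rcases eq_one_or_of_mem_zpowers ha (QuotientGroup.eq.1 h0) with h | h
  · rw [inv_mul_eq_one] at h
    exact ⟨s, hs, h⟩
  have hsq : ∀ g h : X, g * a * (h * a) = g * h := fun g h => by
    rw [mul_assoc g a, ← mul_assoc a h a, ← hcen h, mul_assoc h a a, ha, mul_one]
  refine ⟨MonoidHom.mk' (fun p => if σ p = 1 then s p else s p * a) fun p q => ?_, fun p => ?_, ?_⟩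
  · rcases Int.units_eq_one_or (σ p) with hp | hp <;> rcases Int.units_eq_one_or (σ q) with hq | hq <;>
      simp only [map_mul, hp, hq]
    · simp
    · simp [mul_assoc]
    · simp [mul_assoc, hcen (s q)]
    · simp [hsq]
  · show e (QuotientGroup.mk (if σ p = 1 then s p else s p * a)) = p
    split_ifs
    · exact hs p
    · rw [QuotientGroup.mk_mul, (QuotientGroup.eq_one_iff a).2 (mem_zpowers a), mul_one, hs]
  · show (if σ y₀ = 1 then s y₀ else s y₀ * a) = b
    rw [if_neg (by rw [hσ]; decide), ← h, mul_inv_cancel_left]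

namespace Data

variable {G : Type u} [Group G] {t : G} (D : Data t)
include D

variable [Finite G] [IsSimpleGroup G] (hG : ¬ IsMulCommutative G)
include hG

/-- **The centraliser of `a`.** -/
theorem exists_psi : ∃ ψ : Perm (Fin 5) →* G, Function.Injective ψ ∧
    (∀ p, ψ p * D.el ai = D.el ai * ψ p) ∧
    (∀ g, g * D.el ai = D.el ai * g → ∃ p, g = ψ p ∨ g = D.el ai * ψ p) ∧
    ψ (swap 0 1) = D.el bi ∧ ψ (swap 2 3) = D.el bzi ∧
    ψ (swap 0 2 * swap 1 3) = D.el Xi := by
  classical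
  haveI := D.centTwo.normal
  obtain ⟨e₀⟩ := D.exists_quot_five hG
  set π := QuotientGroup.mk' (zpowers D.aX) with hπ
  obtain ⟨hz4, hb4, hX4⟩ := D.quot_moved hG involFacts_five e₀
  obtain ⟨hX4, -⟩ := hX4 (.sr 1) (Or.inl rfl)
  -- relabel
  have hinv : ∀ d : DihedralGroup 4, d * d = 1 →
      e₀ (π (D.psiA d)) * e₀ (π (D.psiA d)) = 1 := fun d hd => by
    rw [← map_mul, ← map_mul, ← map_mul, hd, map_one, map_one, map_one]
  have hne : ∀ d d' : DihedralGroup 4, d ≠ d' → e₀ (π (D.psiA d)) ≠ e₀ (π (D.psiA d')) :=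
    fun d d' h e => h (D.centTwo.quot_injective (e₀.injective e))
  have hne1 : ∀ d : DihedralGroup 4, d ≠ 1 → e₀ (π (D.psiA d)) ≠ 1 := fun d h e =>
    hne d 1 h (by rw [e, map_one, map_one, map_one])
  have hbz : moved (e₀ (π (D.psiA (.sr 2)))) ≠ 4 := by
    intro h4
    obtain ⟨g, hg⟩ := involFacts_five.conj (e₀ (π (D.psiA (.r 2)))) (hinv _ (by decide))
      (e₀ (π (D.psiA (.sr 2)))) (hinv _ (by decide)) (hz4.trans h4.symm)
    obtain ⟨q, rfl⟩ := e₀.surjective g
    obtain ⟨g, rfl⟩ := QuotientGroup.mk'_surjective _ q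
    rw [← map_inv, ← map_mul, ← map_mul, e₀.injective.eq_iff] at hg
    have e' : π (D.psiA (.sr 2)) = π (g * D.psiA (.r 2) * g⁻¹) := by
      rw [map_mul, map_mul, map_inv]
      exact hg.symm
    obtain ⟨-, -, -, -, hbz, -⟩ := dIdx_vals
    obtain ⟨-, -, -, l4, l5, -⟩ := lab_prods
    rcases D.centTwo.mk_eq e' with h | h
    · exact D.psi_not_conj g (dIdx_lt (.sr 2)) (by rw [hbz]; exact l4) rfl h
    · exact D.psi_not_conj g (mul_lt (dIdx_lt (.sr 2)) lt_facts.2.1) (by rw [hbz]; exact l5)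
        (D.psi_mul_a _) h
  have hb1 : e₀ (π (D.psiA (.sr 0))) ≠ 1 := hne1 _ (by decide)
  obtain ⟨g₀, hg1, hg2, hg3⟩ := relabel_five (e₀ (π (D.psiA (.sr 0))))
    ⟨hinv _ (by decide), hb1, hb4⟩ (e₀ (π (D.psiA (.sr 2))))
    ⟨hinv _ (by decide), hne1 _ (by decide), hbz,
      by rw [← map_mul, ← map_mul, ← map_mul, ← map_mul, ← map_mul, ← map_mul,
        show (DihedralGroup.sr 0 * DihedralGroup.sr 2 : DihedralGroup 4) = .sr 2 * .sr 0 by decide],
      hne _ _ (by decide)⟩
    (e₀ (π (D.psiA (.sr 1))))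
    ⟨hinv _ (by decide), by
      rw [← map_mul, ← map_mul, ← map_mul, ← map_mul, ← map_mul, ← map_mul,
        show (DihedralGroup.sr 1 * DihedralGroup.sr 0 * DihedralGroup.sr 1 : DihedralGroup 4) = .sr 2 by
          decide], hX4⟩
  set e := e₀.trans (MulAut.conj g₀⁻¹) with he
  have hev : ∀ d p, g₀ * p * g₀⁻¹ = e₀ (π (D.psiA d)) → e (π (D.psiA d)) = p := fun d p hp => by
    show g₀⁻¹ * e₀ (π (D.psiA d)) * g₀⁻¹⁻¹ = p
    rw [← hp]
    group
  have heb : e (π (D.psiA (.sr 0))) = swap 0 1 := hev _ _ hg1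
  have hebz : e (π (D.psiA (.sr 2))) = swap 2 3 := hev _ _ hg2
  have heX : e (π (D.psiA (.sr 1))) = swap 0 2 * swap 1 3 := hev _ _ hg3
  have hez : e (π (D.psiA (.r 2))) = swap 0 1 * swap 2 3 := by
    rw [show (DihedralGroup.r 2 : DihedralGroup 4) = .sr 0 * .sr 2 by decide, map_mul, map_mul, map_mul,
      heb, hebz]
  -- the section
  obtain ⟨s₀, hs₀⟩ := exists_section D.centTwo D.card_cent_z e
  obtain ⟨s, hs, hsb⟩ := exists_section_adjusted (invol_mul_self D.centTwo.ha) D.centTwo.cen e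
    (Perm.sign) s₀ hs₀ (Perm.sign_swap (show (0 : Fin 5) ≠ 1 by decide)) heb
  obtain ⟨⟨h01, hcm⟩, ⟨c, hc⟩, c', hc'⟩ := perm_data
  have hlift : ∀ p d, e (π (D.psiA d)) = p → s p = D.psiA d ∨ s p = D.psiA d * D.aX := by
    intro p d hp
    exact D.centTwo.mk_eq (e.injective (hp.trans (hs p).symm))
  have hsz : s (swap 0 1 * swap 2 3) = D.psiA (.r 2) := by
    refine (hlift _ _ hez).resolve_right fun hbad => ?_
    have hcomm : s c * s (swap 0 1 * swap 2 3) = s (swap 0 1 * swap 2 3) * s c := by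
      rw [← hc, map_mul, mul_assoc]
    rw [hbad] at hcomm
    have hcz : s c * D.psiA (.r 2) = D.psiA (.r 2) * s c := by
      have e1 := hcomm
      rw [← mul_assoc, mul_assoc (D.psiA (.r 2)), ← D.centTwo.cen (s c), ← mul_assoc] at e1
      exact mul_right_cancel e1
    have hv : ((s c : ↥D.CA) : G) * t = t * (s c : ↥D.CA) := by
      have := congrArg Subtype.val hcz
      rw [Subgroup.coe_mul, Subgroup.coe_mul, D.psi_z_val] at this
      exact this
    obtain ⟨i, hi, hie⟩ := D.mem.1 hv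
    have h := all192_get sq_chk_a hi
    rw [(D.el_commute hi lt_facts.2.1).1 (by rw [hie]; exact mem_centralizer_singleton_iff.1 (s c).2)] at h
    simp only [Bool.not_true, Bool.false_or, Bool.or_eq_true] at h
    have hsq : D.el (mul i i) = D.el (mul zi ai) := by
      rw [← D.el_mul hi hi, hie, ← D.el_mul lt_facts.1 lt_facts.2.1, D.el_zi,
        ← Subgroup.coe_mul, ← map_mul, hc, hbad, Subgroup.coe_mul, D.psi_z_val]
      rfl
    have hii := D.el_inj (mul_lt hi hi) (mul_lt lt_facts.1 lt_facts.2.1) hsq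
    rw [hii] at h
    rcases h with h | h <;> exact absurd (Nat.eq_of_beq_eq_true h) (by decide +kernel)
  have hsbz : s (swap 2 3) = D.psiA (.sr 2) := by
    have h1 : s (swap 2 3) = s (swap 0 1) * s (swap 0 1 * swap 2 3) := by
      rw [← map_mul, ← mul_assoc, h01, one_mul]
    rw [h1, hsb, hsz, ← map_mul]
    rfl
  have hsX : s (swap 0 2 * swap 1 3) = D.psiA (.sr 1) := by
    refine (hlift _ _ heX).resolve_right fun hbad => ?_
    have hconj : s c' * D.psiA (.r 2) * (s c')⁻¹ = D.psiA (.sr 1) * D.aX := by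
      rw [← hsz, ← map_inv, ← map_mul, ← map_mul, hc', hbad]
    obtain ⟨-, -, -, hX, -, -⟩ := dIdx_vals
    exact D.psi_not_conj (s c') (mul_lt (dIdx_lt (.sr 1)) lt_facts.2.1)
      (by rw [hX]; exact lab_prods.2.2.2.2.2.2.1) (D.psi_mul_a _) hconj
  refine ⟨D.CA.subtype.comp s, ?_, fun p => mem_centralizer_singleton_iff.1 (s p).2, ?_, ?_, ?_, ?_⟩
  · refine Subtype.val_injective.comp fun p q hpq => ?_
    rw [← hs p, hpq, hs]
  · intro g hg
    refine ⟨e (π ⟨g, mem_centralizer_singleton_iff.2 hg⟩), ?_⟩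
    have h1 : π (s (e (π ⟨g, mem_centralizer_singleton_iff.2 hg⟩))) =
        π ⟨g, mem_centralizer_singleton_iff.2 hg⟩ := e.injective (hs _)
    rcases D.centTwo.mk_eq h1 with h | h
    · exact Or.inl (congrArg Subtype.val h)
    · exact Or.inr (congrArg Subtype.val (h.trans (D.centTwo.cen _)))
  · show ((s (swap 0 1) : ↥D.CA) : G) = D.el bi
    rw [hsb, psiA_val, dIdx_vals.2.2.1]
  · show ((s (swap 2 3) : ↥D.CA) : G) = D.el bzi
    rw [hsbz, psiA_val, dIdx_vals.2.2.2.2.1]
  · show ((s (swap 0 2 * swap 1 3) : ↥D.CA) : G) = D.el Xi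
    rw [hsX, psiA_val, dIdx_vals.2.2.2.1]

end Data

end CfsgLib.InvChar.M12C
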