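import Cfsg.Agent.Lib.InvChar.M12C.Table
import Cfsg.Agent.Lib.InvChar.M12C.ClassData
import Cfsg.Agent.Lib.Golay.Mathieu
import Cfsg.Agent.Lib.Golay.Gen
import Cfsg.Prelude.Def_SporadicB
import Mathlib.GroupTheory.GroupAction.ConjAct
import Mathlib.GroupTheory.Sylow

/-!
# The table is the centraliser of a 2-central involution of `M12`

A group with an involution centraliser isomorphic to that of a 2-central involution of `M12` has
`Data`.
-/

set_option autoImplicit false
set_option maxRecDepth 100000
set_option Elab.async false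

namespace CfsgLib.InvChar.M12C

open CfsgLib.InvChar.Coset CfsgLib.Golay Cfsg

universe u

/-- Code of an element. -/
def cd (i : ℕ) : ℕ := codes.getD i idCode

/-- Code of a generator. -/
def gc (x : ℕ) : ℕ := genCodes.getD x idCode

/-- Two encoded products agree: `a * b = c * d`. -/
def sameProd (a b c d : ℕ) : Bool :=
  (List.range 24).all fun k => Nat.beq (img a (img b k)) (img c (img d k))

theorem sameProd_sound {a b c d : ℕ} (ha : valid a = true) (hb : valid b = true)
    (hc : valid c = true) (hd : valid d = true) (h : sameProd a b c d = true) :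
    permOf a * permOf b = permOf c * permOf d := by
  refine Equiv.ext fun p => ?_
  have e := Nat.eq_of_beq_eq_true (List.all_eq_true.1 h _ (List.mem_range.2 (idx_lt p)))
  rw [Equiv.Perm.mul_apply, Equiv.Perm.mul_apply, permOf_apply hb, permOf_apply hd,
    permOf_pt ha (valid_lt hb (idx_lt p)), permOf_pt hc (valid_lt hd (idx_lt p)), e]

/-- Rebuild a code from its images. -/
def rebuild (c : ℕ) : ℕ :=
  (List.range 24).foldr (fun k s => Nat.add (Nat.shiftLeft (img c k) (Nat.mul 5 k)) s) 0

theorem code_inj {a b : ℕ} (ha : valid a = true) (hb : valid b = true)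
    (ra : rebuild a = a) (rb : rebuild b = b) (h : permOf a = permOf b) : a = b := by
  have key : ∀ k < 24, img a k = img b k := fun k hk => by
    have := congrArg (fun σ : Equiv.Perm GolayPt => idx (σ (pt k))) h
    simpa [permOf_pt ha hk, permOf_pt hb hk, idx_pt (valid_lt ha hk), idx_pt (valid_lt hb hk)]
      using this
  rw [← ra, ← rb]
  simp only [rebuild]
  refine List.foldr_ext _ _ _ fun k hk s => ?_
  rw [key k (List.mem_range.1 hk)]

theorem gen_chk : (List.range 9).all (fun x => inFix X12 (gc x)) = true := by decide +kernel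

theorem code_chk : codes.all (fun c => inFix X12 c && Nat.beq (rebuild c) c) = true := by
  decide +kernel

theorem id_chk : (inFix X12 idCode && Nat.beq (cd 0) idCode && Nat.beq (rebuild idCode) idCode)
    = true := by decide +kernel

theorem step_chk : all192 (fun i => (List.range 6).all fun x =>
    Nat.blt (stepT.app i x) 192 && isProd (cd i) (gc x) (cd (stepT.app i x))) = true := by
  decide +kernel

theorem wd_chk : wds.zipIdx.all (fun p => p.1.all (fun x => Nat.blt x 6) &&
    Nat.beq (stepT.follow p.1 0) p.2 &&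
    all192 fun i => Nat.beq (stepT.follow p.1 i) (mul i p.2)) = true := by decide +kernel

theorem wds_length : wds.length = 192 ∧ codes.length = 192 := by decide +kernel

theorem cd_inj_chk : all192 (fun i => all192 fun j => Nat.beq i j || !Nat.beq (cd i) (cd j))
    = true := by decide +kernel

theorem inFix_cd (i : ℕ) : inFix X12 (cd i) = true ∧ rebuild (cd i) = cd i := by
  have h0 := id_chk
  simp only [Bool.and_eq_true] at h0
  rw [cd, List.getD_eq_getElem?_getD]
  cases he : codes[i]? with
  | none => exact ⟨h0.1.1, Nat.eq_of_beq_eq_true h0.2⟩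
  | some c =>
    have := List.all_eq_true.1 code_chk c (List.mem_of_getElem? he)
    rw [Bool.and_eq_true] at this
    exact ⟨this.1, Nat.eq_of_beq_eq_true this.2⟩

theorem inFix_gc (x : ℕ) : inFix X12 (gc x) = true := by
  rcases Nat.lt_or_ge x 9 with h | h
  · exact List.all_eq_true.1 gen_chk x (List.mem_range.2 h)
  · have h0 := id_chk
    simp only [Bool.and_eq_true] at h0
    rw [gc, List.getD_eq_default _ _ (by simp [genCodes]; omega)]
    exact h0.1.1

theorem valid_cd (i : ℕ) : valid (cd i) = true := inFix_valid (inFix_cd i).1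

theorem valid_gc (x : ℕ) : valid (gc x) = true := inFix_valid (inFix_gc x)

/-- The element of `M12` with a number. -/
noncomputable def Pm (i : ℕ) : ↥Spor.M12 :=
  ⟨permOf (cd i), by rw [sporM12_eq]; exact inFix_mem (inFix_cd i).1⟩

/-- The eight generators of `M12`. -/
noncomputable def gM (x : ℕ) : ↥Spor.M12 :=
  ⟨permOf (gc x), by rw [sporM12_eq]; exact inFix_mem (inFix_gc x)⟩

theorem Pm_zero : Pm 0 = 1 := by
  have h0 := id_chk
  simp only [Bool.and_eq_true] at h0
  exact Subtype.ext (show permOf (cd 0) = 1 by rw [Nat.eq_of_beq_eq_true h0.1.2, permOf_idCode])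

theorem Pm_step {i x : ℕ} (hi : i < 192) (hx : x < 6) :
    stepT.app i x < 192 ∧ Pm i * gM x = Pm (stepT.app i x) := by
  have h := List.all_eq_true.1 (all192_get step_chk hi) x (List.mem_range.2 hx)
  rw [Bool.and_eq_true] at h
  exact ⟨by simpa [Nat.blt] using h.1,
    Subtype.ext (isProd_sound (valid_cd i) (valid_gc x) h.2).2.symm⟩

theorem Pm_follow : ∀ (L : List ℕ), (∀ x ∈ L, x < 6) → ∀ {i : ℕ}, i < 192 →
    stepT.follow L i < 192 ∧ Pm i * wprod gM L = Pm (stepT.follow L i) := by
  intro L
  induction L with
  | nil => intro _ i hi; exact ⟨hi, by simp [wprod, Table.follow]⟩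
  | cons x L ih =>
    intro hL i hi
    obtain ⟨h1, h2⟩ := Pm_step hi (hL x List.mem_cons_self)
    obtain ⟨h3, h4⟩ := ih (fun y hy => hL y (List.mem_cons_of_mem x hy)) h1
    have e : stepT.follow (x :: L) i = stepT.follow L (stepT.app i x) := force_eq _ _
    rw [e]
    refine ⟨h3, ?_⟩
    rw [← h4, ← h2, mul_assoc]
    simp [wprod]

theorem wd_facts {j : ℕ} (hj : j < 192) : (∀ x ∈ wds.getD j [], x < 6) ∧
    stepT.follow (wds.getD j []) 0 = j ∧
    ∀ i < 192, stepT.follow (wds.getD j []) i = mul i j := by
  have hl : j < wds.length := by rw [wds_length.1]; exact hj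
  have hmem : (wds[j], j) ∈ wds.zipIdx :=
    List.mem_iff_getElem.2 ⟨j, by simpa using hl, by simp⟩
  have h := List.all_eq_true.1 wd_chk _ hmem
  simp only [Bool.and_eq_true, List.all_eq_true] at h
  rw [List.getD_eq_getElem _ _ hl]
  exact ⟨fun x hx => by simpa [Nat.blt] using h.1.1 x hx, Nat.eq_of_beq_eq_true h.1.2,
    fun i hi => Nat.eq_of_beq_eq_true (all192_get h.2 hi)⟩

theorem Pm_wd {j : ℕ} (hj : j < 192) : Pm j = wprod gM (wds.getD j []) := by
  obtain ⟨h1, h2, -⟩ := wd_facts hj
  have h := (Pm_follow _ h1 (i := 0) (by norm_num)).2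
  rw [Pm_zero, one_mul, h2] at h
  exact h.symm

theorem Pm_mul {i j : ℕ} (hi : i < 192) (hj : j < 192) : Pm i * Pm j = Pm (mul i j) := by
  obtain ⟨h1, -, h3⟩ := wd_facts hj
  rw [Pm_wd hj, (Pm_follow _ h1 hi).2, h3 i hi]

theorem Pm_inj {i j : ℕ} (hi : i < 192) (hj : j < 192) (h : Pm i = Pm j) : i = j := by
  have e := code_inj (valid_cd i) (valid_cd j) (inFix_cd i).2 (inFix_cd j).2 (congrArg Subtype.val h)
  have hc := all192_get (all192_get cd_inj_chk hi) hj
  rw [Bool.or_eq_true, e, Nat.beq_refl] at hc
  simpa using Nat.eq_of_beq_eq_true (hc.resolve_right (by simp))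

/-- The chosen 2-central involution of `M12`. -/
noncomputable def zM : ↥Spor.M12 := Pm zi

theorem zi_lt : zi < 192 := by decide +kernel

/-- Check the conjugates: each is a generator conjugate of an earlier one. -/
def chkClass : List (ℕ × ℕ × ℕ) → List ℕ → Option (List ℕ)
  | [], F => some F
  | (p, g, c) :: L, F =>
    bif valid c && Nat.beq (rebuild c) c && Nat.blt p F.length &&
      sameProd (gc g) (F.getD (Nat.sub (Nat.sub F.length 1) p) idCode) c (gc g)
    then chkClass L (c :: F) else none

/-- No repetitions. -/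
def nodupB : List ℕ → Bool
  | [] => true
  | c :: L => L.all (fun d => !Nat.beq c d) && nodupB L

theorem nodupB_sound : ∀ {L : List ℕ}, nodupB L = true → L.Nodup
  | [], _ => List.nodup_nil
  | c :: L, h => by
    simp only [nodupB, Bool.and_eq_true, List.all_eq_true] at h
    refine List.nodup_cons.2 ⟨fun hc => ?_, nodupB_sound h.2⟩
    have := h.1 c hc
    simp [Nat.beq_refl] at this

theorem chkClass_sound : ∀ {L : List (ℕ × ℕ × ℕ)} {F F' : List ℕ},
    (∀ c ∈ F, valid c = true ∧ rebuild c = c ∧ ∃ g : ↥Spor.M12, permOf c = (g * zM * g⁻¹ : ↥Spor.M12)) →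
    chkClass L F = some F' →
    ∀ c ∈ F', valid c = true ∧ rebuild c = c ∧ ∃ g : ↥Spor.M12, permOf c = (g * zM * g⁻¹ : ↥Spor.M12)
  | [], F, F', h, e => by rw [chkClass, Option.some.injEq] at e; subst e; exact h
  | (p, g, c) :: L, F, F', h, e => by
    rw [chkClass] at e
    cases hp : valid c && Nat.beq (rebuild c) c && Nat.blt p F.length &&
        sameProd (gc g) (F.getD (Nat.sub (Nat.sub F.length 1) p) idCode) c (gc g) with
    | false => rw [hp] at e; simp at e
    | true =>
      rw [hp] at e
      simp only [Bool.and_eq_true] at hp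
      obtain ⟨⟨⟨hv, hr⟩, hlt⟩, hs⟩ := hp
      have hlt' : p < F.length := by simpa [Nat.blt] using hlt
      have hk : Nat.sub (Nat.sub F.length 1) p < F.length := by
        show F.length - 1 - p < F.length
        omega
      obtain ⟨hv', -, w, hw⟩ := h _ (List.getElem_mem hk)
      rw [List.getD_eq_getElem _ _ hk] at hs
      have key := sameProd_sound (valid_gc g) hv' hv (valid_gc g) hs
      refine chkClass_sound (F := c :: F) ?_ e
      intro d hd
      rcases List.mem_cons.1 hd with hd | hd
      · rw [hd]
        refine ⟨hv, Nat.eq_of_beq_eq_true hr, gM g * w, ?_⟩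
        have : permOf c = (gM g : Equiv.Perm GolayPt) *
            permOf (F[Nat.sub (Nat.sub F.length 1) p]'hk) * (gM g : Equiv.Perm GolayPt)⁻¹ := by
          rw [show ((gM g : ↥Spor.M12) : Equiv.Perm GolayPt) = permOf (gc g) from rfl, key,
            mul_inv_cancel_right]
        rw [this, hw]
        simp [mul_assoc]
      · exact h d hd

/-- The check of the conjugacy class. -/
def classOK : Bool :=
  match chkClass classSteps [cd zi] with
  | none => false
  | some F => Nat.beq F.length 495 && nodupB F

theorem class_chk : classOK = true := by decide +kernel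

theorem card_cent_le : Nat.card (Subgroup.centralizer ({zM} : Set ↥Spor.M12)) ≤ 192 := by
  classical
  haveI : Finite ↥Spor.M12 := Nat.finite_of_card_ne_zero (by rw [card_sporM12]; norm_num)
  have h := class_chk
  unfold classOK at h
  cases e : chkClass classSteps [cd zi] with
  | none => rw [e] at h; simp at h
  | some F =>
    rw [e] at h
    simp only [Bool.and_eq_true] at h
    have hF := chkClass_sound (fun c hc => by
      rw [List.mem_singleton] at hc; subst hc
      exact ⟨valid_cd zi, (inFix_cd zi).2, 1, by simp [zM, Pm]⟩) e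
    set O : Set ↥Spor.M12 := MulAction.orbit (ConjAct ↥Spor.M12) zM with hO
    have hlen : F.toFinset.card = 495 := by
      rw [List.toFinset_card_of_nodup (nodupB_sound h.2), Nat.eq_of_beq_eq_true h.1]
    let f : {c // c ∈ F.toFinset} → O := fun c =>
      ⟨(hF c.1 (List.mem_toFinset.1 c.2)).2.2.choose * zM *
        (hF c.1 (List.mem_toFinset.1 c.2)).2.2.choose⁻¹,
        ⟨ConjAct.toConjAct (hF c.1 (List.mem_toFinset.1 c.2)).2.2.choose, by
          simp [ConjAct.smul_def]⟩⟩
    have hf : Function.Injective f := by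
      intro c d hcd
      apply Subtype.ext
      have hc := hF c.1 (List.mem_toFinset.1 c.2)
      have hd := hF d.1 (List.mem_toFinset.1 d.2)
      refine code_inj hc.1 hd.1 hc.2.1 hd.2.1 ?_
      rw [hc.2.2.choose_spec, hd.2.2.choose_spec]
      exact congrArg Subtype.val (congrArg Subtype.val hcd)
    have h495 : 495 ≤ O.ncard := by
      have := Nat.card_le_card_of_injective f hf
      rw [Nat.card_eq_fintype_card, Fintype.card_coe, hlen] at this
      rwa [← Nat.card_coe_set_eq]
    have hidx := MulAction.index_stabilizer (ConjAct ↥Spor.M12) zM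
    have hmul := (MulAction.stabilizer (ConjAct ↥Spor.M12) zM).card_mul_index
    rw [hidx, ← hO] at hmul
    have hcard : Nat.card (ConjAct ↥Spor.M12) = 95040 := card_sporM12
    rw [hcard] at hmul
    have hst : Nat.card (MulAction.stabilizer (ConjAct ↥Spor.M12) zM) =
        Nat.card (Subgroup.centralizer ({zM} : Set ↥Spor.M12)) := by
      rw [ConjAct.stabilizer_eq_centralizer]; rfl
    rw [hst] at hmul
    nlinarith

end CfsgLib.InvChar.M12C
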