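import Cfsg.Agent.Lib.InvChar.M12C.Gens
import Cfsg.Agent.Lib.InvChar.M12C.Model
import Mathlib.GroupTheory.Transfer
import Mathlib.GroupTheory.Perm.Sign

/-!
# From `C(a)/⟨a⟩ ≅ S₅` to a normalised complement

A transfer shows that the extension splits, and a permutation of the five letters adjusts the
isomorphism so that `(1 2)`, `(3 4)` and `(1 3)(2 4)` go to `b`, `b z` and `X`.
-/

set_option autoImplicit false
set_option maxRecDepth 100000
set_option Elab.async false

namespace CfsgLib.InvChar.M12C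

open Equiv

universe u

/-- The numbers of a complement to `⟨a⟩` in the common centraliser of `t` and `a`. -/
def dList : List ℕ := [0, 1, 3, 4, 8, 9, 16, 19]

/-- The sign character with that kernel. -/
def dSign (i : ℕ) : ℤˣ := if i ∈ dList then 1 else -1

theorem dSign_mul : (all192 fun i => !comm i ai || all192 fun j => !comm j ai ||
    decide (dSign (mul i j) = dSign i * dSign j)) = true := by decide +kernel

theorem T_card : ((List.range 192).filter fun i => comm i ai).length = 16 ∧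
    ∀ i ∈ [ai, zi, bi, bzi, Xi, mul ai bi, mul ai Xi, 16], i < 192 ∧ comm i ai = true := by
  decide +kernel

theorem local_facts : dSign ai = -1 ∧ dSign zi = 1 ∧ mul 16 16 = zi ∧
    (([bi, mul ai bi, mul ai Xi].all fun i => Nat.beq (lab i) 12) = true) ∧
    (([bi, Xi].all fun i => Nat.beq (mul i i) 0 && !Nat.beq i 0 && !Nat.beq i ai && !Nat.beq i zi &&
      !Nat.beq i (mul ai zi)) = true) ∧
    (([bi, bzi].all fun i => !Nat.beq Xi i && !Nat.beq Xi (mul ai i)) = true) := by decide +kernel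

theorem s5_conj : ∀ p : Perm (Fin 5), p * p = 1 → p ≠ 1 → Perm.sign p = 1 →
    ∃ q, q * p * q⁻¹ = swap 0 1 * swap 2 3 := by decide +kernel

theorem s5_comm : ∀ p : Perm (Fin 5), p * p = 1 → p ≠ 1 → p ≠ swap 0 1 * swap 2 3 →
    p * (swap 0 1 * swap 2 3) = swap 0 1 * swap 2 3 * p →
    (Perm.sign p = 1 → p = swap 0 2 * swap 1 3 ∨ p = swap 0 3 * swap 1 2) ∧
    (Perm.sign p ≠ 1 → p = swap 0 1 ∨ p = swap 2 3) := by decide +kernel

theorem s5_moves :
    ((swap (0 : Fin 5) 2 * swap 1 3) * swap 2 3 * (swap 0 2 * swap 1 3)⁻¹ = swap 0 1) ∧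
    ((swap (0 : Fin 5) 2 * swap 1 3) * (swap 0 1 * swap 2 3) * (swap 0 2 * swap 1 3)⁻¹ =
      swap 0 1 * swap 2 3) ∧
    (swap (0 : Fin 5) 1 * (swap 0 3 * swap 1 2) * (swap 0 1)⁻¹ = swap 0 2 * swap 1 3) ∧
    (swap (0 : Fin 5) 1 * (swap 0 1 * swap 2 3) * (swap 0 1)⁻¹ = swap 0 1 * swap 2 3) ∧
    (swap (0 : Fin 5) 1 * swap 0 1 * (swap 0 1)⁻¹ = swap 0 1) ∧
    (swap (0 : Fin 5) 1 * (swap 0 1 * swap 2 3) = swap 2 3) := by decide +kernel

variable {G : Type u} [Group G] {t : G}

/-- An element with class size twelve is conjugate to `a`. -/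
theorem Data.not_isConj_lab12 (D : Data t) (hna : ¬ IsConj t (D.el ai)) {i : ℕ} (hi : i < 192)
    (h12 : lab i = 12) : ¬ IsConj t (D.el i) := by
  intro h
  refine hna (h.trans ?_)
  have hl := all192_get lab_chk hi
  simp only [Bool.and_eq_true, Bool.or_eq_true] at hl
  rcases hl with ⟨-, hw⟩ | ⟨h0, -⟩
  · rw [h12, show rep 12 = ai from rfl] at hw
    have hwi := (inv_facts hi).2.2.2.2.2
    have := D.el_conj hwi idx_small.2.1
    rw [Nat.eq_of_beq_eq_true hw] at this
    exact (isConj_iff.2 ⟨_, this⟩).symm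
  · rw [h12] at h0; simp at h0

/-- The centraliser of `a`. -/
abbrev Data.centA (D : Data t) : Subgroup G := Subgroup.centralizer ({D.el ai} : Set G)

/-- A quotient isomorphism `C(a)/⟨a⟩ ≅ S₅` gives the normalised complement. -/
theorem exists_psi_of_quot [Finite G] (D : Data t) (hna : ¬ IsConj t (D.el ai))
    (π : ↥D.centA →* Perm (Fin 5))
    (hsur : Function.Surjective π)
    (hker : π.ker = Subgroup.zpowers
      ⟨D.el ai, Subgroup.mem_centralizer_singleton_iff.2 rfl⟩) :
    ∃ ψ : Perm (Fin 5) →* G, Psi D ψ := by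
  classical
  set aA : ↥D.centA := ⟨D.el ai, Subgroup.mem_centralizer_singleton_iff.2 rfl⟩ with haA
  obtain ⟨ds_a, ds_z, hsq, h12, hne, hXne⟩ := local_facts
  simp only [List.all_cons, List.all_nil, Bool.and_true, Bool.and_eq_true, Bool.not_eq_true'] at h12 hne hXne
  obtain ⟨hcount, hmem⟩ := T_card
  simp only [List.mem_cons, List.not_mem_nil, or_false, forall_eq_or_imp, forall_eq] at hmem
  obtain ⟨⟨a_, ca⟩, ⟨z_, cz⟩, ⟨b_, cb⟩, ⟨bz_, cbz⟩, ⟨X_, cX⟩, ⟨ab_, cab⟩, ⟨aX_, caX⟩, ⟨r_, cr⟩⟩ := hmem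
  -- elements of `C(a)` from the table
  have mk : ∀ i, i < 192 → comm i ai = true → D.el i ∈ D.centA := fun i hi hc =>
    Subgroup.mem_centralizer_singleton_iff.2 ((D.el_commute hi a_).2 hc)
  set z : ↥D.centA := ⟨D.el zi, mk _ z_ cz⟩ with hz
  set b : ↥D.centA := ⟨D.el bi, mk _ b_ cb⟩ with hb
  set X : ↥D.centA := ⟨D.el Xi, mk _ X_ cX⟩ with hX
  set r : ↥D.centA := ⟨D.el 16, mk _ r_ cr⟩ with hr
  have hcomm : ∀ g : ↥D.centA, aA * g = g * aA := fun g =>
    Subtype.ext (Subgroup.mem_centralizer_singleton_iff.1 g.2).symm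
  have hπa : π aA = 1 := by
    rw [← MonoidHom.mem_ker, hker]; exact Subgroup.mem_zpowers _
  have ha2 : aA * aA = 1 := Subtype.ext (by
    show D.el ai * D.el ai = 1
    rw [D.el_mul a_ a_, idx_small.2.2.2.2.2.2.2.2.2.2.1, D.el_zero])
  have kmem : ∀ g : ↥D.centA, π g = 1 → g = 1 ∨ g = aA := by
    intro g hg
    rw [← MonoidHom.mem_ker, hker, Subgroup.mem_zpowers_iff] at hg
    obtain ⟨k, rfl⟩ := hg
    rcases Int.even_or_odd' k with ⟨l, rfl | rfl⟩
    · left; rw [zpow_mul, zpow_two, ha2, one_zpow]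
    · right; rw [zpow_add, zpow_mul, zpow_two, ha2, one_zpow, one_mul, zpow_one]
  have πeq : ∀ g h : ↥D.centA, π g = π h → g = h ∨ g = aA * h := by
    intro g h e
    rcases kmem (g * h⁻¹) (by rw [map_mul, map_inv, e, mul_inv_cancel]) with h1 | h1
    · left; exact mul_inv_eq_one.1 h1
    · right; exact mul_inv_eq_iff_eq_mul.1 h1
  have πel : ∀ {i j : ℕ} (hi : i < 192) (ci : comm i ai = true) (hj : j < 192)
      (cj : comm j ai = true), π ⟨D.el i, mk i hi ci⟩ = π ⟨D.el j, mk j hj cj⟩ →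
      i = j ∨ i = mul ai j := by
    intro i j hi ci hj cj e
    rcases πeq _ _ e with h | h
    · exact Or.inl (D.el_inj hi hj (congrArg Subtype.val h))
    · refine Or.inr (D.el_inj hi (mul_lt a_ hj) ?_)
      rw [← D.el_mul a_ hj]; exact congrArg Subtype.val h
  have hz1 : (⟨D.el 0, mk 0 (by norm_num) (by decide +kernel)⟩ : ↥D.centA) = 1 := Subtype.ext D.el_zero
  -- `z` is a square, so its image is even
  have hrr : r * r = z := Subtype.ext (by
    show D.el 16 * D.el 16 = D.el zi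
    rw [D.el_mul r_ r_, hsq])
  have sq_one : ∀ {i : ℕ} (hi : i < 192) (ci : comm i ai = true), mul i i = 0 →
      π ⟨D.el i, mk i hi ci⟩ * π ⟨D.el i, mk i hi ci⟩ = 1 := by
    intro i hi ci h
    rw [← map_mul, ← map_one π]
    exact congrArg π (Subtype.ext (by show D.el i * D.el i = 1; rw [D.el_mul hi hi, h, D.el_zero]))
  have hzsign : Perm.sign (π z) = 1 := by rw [← hrr, map_mul, map_mul, Int.units_mul_self]
  have hz_ne : π z ≠ 1 := by
    intro h
    rcases πel z_ cz (show (0 : ℕ) < 192 by norm_num) (show comm 0 ai = true by decide +kernel) (by rw [hz1, map_one]; exact h) with e | e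
    · exact absurd e (by decide +kernel)
    · exact absurd e (by decide +kernel)
  obtain ⟨q, hq⟩ := s5_conj (π z) (sq_one z_ cz (by decide +kernel)) hz_ne hzsign
  -- no element of class size twelve is conjugate to `z` in `C(a)`
  have noconj : ∀ {i : ℕ} (hi : i < 192), comm i ai = true → lab i = 12 → ∀ g : ↥D.centA,
      ((g * z * g⁻¹ : ↥D.centA) : G) ≠ D.el i := by
    intro i hi ci h12 g h
    refine D.not_isConj_lab12 hna hi h12 (isConj_iff.2 ⟨(g : G), ?_⟩)
    rw [← h]
    show (g : G) * t * (g : G)⁻¹ = (g : G) * D.el zi * (g : G)⁻¹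
    exact congrArg (fun y => (g : G) * y * (g : G)⁻¹) D.el_zi.symm
  have dsab : ∀ {i : ℕ}, Nat.beq i 0 = false → i ≠ 0 := by
    intro i h e; rw [e] at h; simp at h
  have bne : ∀ {i j : ℕ}, Nat.beq i j = false → i ≠ j := by
    intro i j h e; rw [e, Nat.beq_refl] at h; simp at h
  obtain ⟨⟨⟨⟨⟨b2, b0⟩, ba⟩, bz'⟩, baz⟩, ⟨⟨⟨⟨X2, X0⟩, Xa⟩, Xz⟩, Xaz⟩⟩ := hne
  have inv_case : ∀ {i : ℕ} (hi : i < 192) (ci : comm i ai = true), mul i i = 0 → i ≠ 0 → i ≠ ai →
      i ≠ zi → i ≠ mul ai zi → comm i zi = true →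
      let p := q * π ⟨D.el i, mk i hi ci⟩ * q⁻¹
      p * p = 1 ∧ p ≠ 1 ∧ p ≠ swap 0 1 * swap 2 3 ∧
        p * (swap 0 1 * swap 2 3) = swap 0 1 * swap 2 3 * p := by
    intro i hi ci h2 h0 hai hzi haz hc p
    refine ⟨?_, ?_, ?_, ?_⟩
    · calc p * p = q * (π ⟨D.el i, mk i hi ci⟩ * π ⟨D.el i, mk i hi ci⟩) * q⁻¹ := by
            simp only [p]; group
        _ = 1 := by rw [sq_one hi ci h2]; group
    · intro h
      have h' : π ⟨D.el i, mk i hi ci⟩ = 1 := by
        calc _ = q⁻¹ * p * q := by simp only [p]; group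
          _ = 1 := by rw [h]; group
      rcases πel hi ci (show (0 : ℕ) < 192 by norm_num) (show comm 0 ai = true by decide +kernel) (by rw [hz1, map_one]; exact h') with e | e
      · exact h0 e
      · exact hai (e.trans (by decide +kernel))
    · intro h
      rw [← hq] at h
      have h' : π ⟨D.el i, mk i hi ci⟩ = π z := mul_left_cancel (mul_right_cancel h)
      rcases πel hi ci z_ cz h' with e | e
      · exact hzi e
      · exact haz e
    · rw [← hq]
      have e : π ⟨D.el i, mk i hi ci⟩ * π z = π z * π ⟨D.el i, mk i hi ci⟩ := by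
        rw [← map_mul, ← map_mul]
        exact congrArg π (Subtype.ext ((D.el_commute hi z_).2 hc))
      calc _ = q * (π ⟨D.el i, mk i hi ci⟩ * π z) * q⁻¹ := by simp only [p]; group
        _ = q * (π z * π ⟨D.el i, mk i hi ci⟩) * q⁻¹ := by rw [e]
        _ = _ := by simp only [p]; group
  have cbz' : comm bi zi = true ∧ comm Xi zi = true := by decide +kernel
  -- the image of `b` is a transposition
  obtain ⟨q1, q2, q3, q4⟩ := inv_case b_ cb (Nat.eq_of_beq_eq_true b2) (bne b0) (bne ba) (bne bz')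
    (bne baz) cbz'.1
  obtain ⟨be, bo⟩ := s5_comm _ q1 q2 q3 q4
  have hbodd : Perm.sign (q * π b * q⁻¹) ≠ 1 := by
    intro h
    have hconj : ∃ g : ↥D.centA, π (g * z * g⁻¹) = π b := by
      obtain ⟨v, hv⟩ := s5_conj _ q1 q2 h
      obtain ⟨g, hg⟩ := hsur (q⁻¹ * v⁻¹ * q)
      refine ⟨g, ?_⟩
      rw [map_mul, map_mul, map_inv, hg]
      calc q⁻¹ * v⁻¹ * q * π z * (q⁻¹ * v⁻¹ * q)⁻¹ = q⁻¹ * v⁻¹ * (q * π z * q⁻¹) * v * q := by group
        _ = q⁻¹ * v⁻¹ * (v * (q * π b * q⁻¹) * v⁻¹) * v * q := by rw [hq, hv]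
        _ = π b := by group
    obtain ⟨g, hg⟩ := hconj
    rcases πeq _ _ hg with e | e
    · exact noconj b_ cb (Nat.eq_of_beq_eq_true h12.1) g (congrArg Subtype.val e)
    · refine noconj ab_ cab (Nat.eq_of_beq_eq_true h12.2.1) g ?_
      rw [← D.el_mul a_ b_]; exact congrArg Subtype.val e
  obtain ⟨q', hq'z, hq'b⟩ : ∃ q' : Perm (Fin 5), q' * π z * q'⁻¹ = swap 0 1 * swap 2 3 ∧
      q' * π b * q'⁻¹ = swap 0 1 := by
    rcases bo hbodd with h | h
    · exact ⟨q, hq, h⟩
    · refine ⟨(swap 0 2 * swap 1 3) * q, ?_, ?_⟩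
      · calc _ = (swap 0 2 * swap 1 3) * (q * π z * q⁻¹) * (swap 0 2 * swap 1 3 : Perm (Fin 5))⁻¹ := by
              group
          _ = _ := by rw [hq]; exact s5_moves.2.1
      · calc _ = (swap 0 2 * swap 1 3) * (q * π b * q⁻¹) * (swap 0 2 * swap 1 3 : Perm (Fin 5))⁻¹ := by
              group
          _ = _ := by rw [h]; exact s5_moves.1
  -- the image of `X` is even
  have hXq : ∃ p : Perm (Fin 5), (p = swap 0 2 * swap 1 3 ∨ p = swap 0 3 * swap 1 2) ∧
      q' * π X * q'⁻¹ = p := by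
    obtain ⟨x1, x2, x3, x4⟩ := inv_case X_ cX (Nat.eq_of_beq_eq_true X2) (bne X0) (bne Xa) (bne Xz)
      (bne Xaz) cbz'.2
    have y1 : (q' * π X * q'⁻¹) * (q' * π X * q'⁻¹) = 1 := by
      calc _ = q' * (π X * π X) * q'⁻¹ := by group
        _ = 1 := by rw [sq_one X_ cX (Nat.eq_of_beq_eq_true X2)]; group
    have y2 : q' * π X * q'⁻¹ ≠ 1 := by
      intro h; apply x2
      show q * π X * q⁻¹ = 1
      have : π X = 1 := by
        calc _ = q'⁻¹ * (q' * π X * q'⁻¹) * q' := by group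
          _ = 1 := by rw [h]; group
      rw [this]; group
    have y3 : q' * π X * q'⁻¹ ≠ swap 0 1 * swap 2 3 := by
      intro h; apply x3
      show q * π X * q⁻¹ = _
      rw [← hq'z] at h
      rw [mul_left_cancel (mul_right_cancel h), hq]
    have y4 : q' * π X * q'⁻¹ * (swap 0 1 * swap 2 3) = swap 0 1 * swap 2 3 * (q' * π X * q'⁻¹) := by
      rw [← hq'z]
      have e : π X * π z = π z * π X := by
        rw [← map_mul, ← map_mul]
        exact congrArg π (Subtype.ext ((D.el_commute X_ z_).2 cbz'.2))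
      calc _ = q' * (π X * π z) * q'⁻¹ := by group
        _ = q' * (π z * π X) * q'⁻¹ := by rw [e]
        _ = _ := by group
    obtain ⟨ev, od⟩ := s5_comm _ y1 y2 y3 y4
    refine ⟨_, ?_, rfl⟩
    by_cases hs : Perm.sign (q' * π X * q'⁻¹) = 1
    · exact ev hs
    exfalso
    have hbz : q' * π ⟨D.el bzi, mk _ bz_ cbz⟩ * q'⁻¹ = swap 2 3 := by
      have e : (⟨D.el bzi, mk _ bz_ cbz⟩ : ↥D.centA) = b * z := Subtype.ext (by
        show D.el bzi = D.el bi * D.el zi
        rw [D.el_mul b_ z_]; exact congrArg D.el (by decide +kernel))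
      rw [e, map_mul]
      calc _ = (q' * π b * q'⁻¹) * (q' * π z * q'⁻¹) := by group
        _ = _ := by rw [hq'b, hq'z]; exact s5_moves.2.2.2.2.2
    obtain ⟨⟨n1, n2⟩, n3, n4⟩ := hXne
    rcases od hs with h | h
    · rw [← hq'b] at h
      rcases πel X_ cX b_ cb (mul_left_cancel (mul_right_cancel h)) with e | e
      exacts [bne n1 e, bne n2 e]
    · rw [← hbz] at h
      rcases πel X_ cX bz_ cbz (mul_left_cancel (mul_right_cancel h)) with e | e
      exacts [bne n3 e, bne n4 e]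
  obtain ⟨p, hp, hpX⟩ := hXq
  obtain ⟨c, hcz, hcb, hcX⟩ : ∃ c : Perm (Fin 5), c * π z * c⁻¹ = swap 0 1 * swap 2 3 ∧
      c * π b * c⁻¹ = swap 0 1 ∧ c * π X * c⁻¹ = swap 0 2 * swap 1 3 := by
    rcases hp with rfl | rfl
    · exact ⟨q', hq'z, hq'b, hpX⟩
    · refine ⟨swap 0 1 * q', ?_, ?_, ?_⟩
      · calc _ = swap 0 1 * (q' * π z * q'⁻¹) * (swap 0 1 : Perm (Fin 5))⁻¹ := by group
          _ = _ := by rw [hq'z]; exact s5_moves.2.2.2.1
      · calc _ = swap 0 1 * (q' * π b * q'⁻¹) * (swap 0 1 : Perm (Fin 5))⁻¹ := by group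
          _ = _ := by rw [hq'b]; exact s5_moves.2.2.2.2.1
      · calc _ = swap 0 1 * (q' * π X * q'⁻¹) * (swap 0 1 : Perm (Fin 5))⁻¹ := by group
          _ = _ := by rw [hpX]; exact s5_moves.2.2.1
  let ρ : ↥D.centA →* Perm (Fin 5) := (MulAut.conj c).toMonoidHom.comp π
  have hρ : ∀ g, ρ g = c * π g * c⁻¹ := fun g => rfl
  have hρsur : Function.Surjective ρ := fun p => by
    obtain ⟨g, hg⟩ := hsur (c⁻¹ * p * c)
    exact ⟨g, by rw [hρ, hg]; group⟩
  have hρker : ∀ g, ρ g = 1 → g = 1 ∨ g = aA := fun g hg => kmem g (by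
    rw [hρ] at hg
    calc π g = c⁻¹ * (c * π g * c⁻¹) * c := by group
      _ = 1 := by rw [hg]; group)
  -- the transfer
  let TS : Subgroup ↥D.centA := (Subgroup.centralizer ({t} : Set G)).subgroupOf D.centA
  have hTS : ∀ g : ↥TS, ∃ i < 192, comm i ai = true ∧ D.el i = ((g : ↥D.centA) : G) := by
    intro g
    have h2 : ((g : ↥D.centA) : G) ∈ Subgroup.centralizer ({t} : Set G) := g.2
    obtain ⟨i, hi, he⟩ := D.mem.1 (Subgroup.mem_centralizer_singleton_iff.1 h2)
    refine ⟨i, hi, ?_, he⟩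
    rw [← D.el_commute hi a_, he]
    exact Subgroup.mem_centralizer_singleton_iff.1 (g : ↥D.centA).2
  choose idx hidx hidc hide using hTS
  have hds : ∀ i j, i < 192 → comm i ai = true → j < 192 → comm j ai = true →
      dSign (mul i j) = dSign i * dSign j := by
    intro i j hi ci hj cj
    have h := all192_get dSign_mul hi
    simp only [ci, Bool.not_true, Bool.false_or] at h
    have h := all192_get h hj
    simpa [cj] using h
  let φ : ↥TS →* ℤˣ := MonoidHom.mk' (fun g => dSign (idx g)) fun g h => by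
    have : idx (g * h) = mul (idx g) (idx h) := D.el_inj (hidx _) (mul_lt (hidx g) (hidx h))
      (by rw [← D.el_mul (hidx g) (hidx h), hide, hide, hide]; rfl)
    show dSign (idx (g * h)) = _
    rw [this, hds _ _ (hidx g) (hidc g) (hidx h) (hidc h)]
  have hcardA : Nat.card ↥D.centA = 240 := by
    have h := π.ker.card_mul_index
    rw [Subgroup.index_ker, MonoidHom.range_eq_top.2 hsur, Subgroup.card_top, hker] at h
    have h2 : orderOf aA = 2 := orderOf_eq_prime (by rw [pow_two, ha2]) fun h => by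
      have h1 : D.el ai = 1 := congrArg Subtype.val h
      exact idx_small.2.2.2.2.2.2.2.2.1 (D.el_inj a_ (by norm_num) (by rw [h1, D.el_zero]))
    rw [Nat.card_zpowers, h2] at h
    rw [← h, Nat.card_perm, Nat.card_fin]
    rfl
  have hcardT : Nat.card ↥TS = 16 := by
    have e : {i // i ∈ ((List.range 192).filter fun i => comm i ai).toFinset} ≃ ↥TS :=
      Equiv.ofBijective
        (fun i => ⟨⟨D.el i.1, mk i.1 (by
            have := List.mem_toFinset.1 i.2; simp only [List.mem_filter, List.mem_range] at this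
            exact this.1) (by
            have := List.mem_toFinset.1 i.2; simp only [List.mem_filter, List.mem_range] at this
            exact this.2)⟩, Subgroup.mem_centralizer_singleton_iff.2 (D.el_comm_t (by
            have := List.mem_toFinset.1 i.2; simp only [List.mem_filter, List.mem_range] at this
            exact this.1))⟩)
        ⟨fun i j h => by
          have hi := List.mem_toFinset.1 i.2
          have hj := List.mem_toFinset.1 j.2
          simp only [List.mem_filter, List.mem_range] at hi hj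
          exact Subtype.ext (D.el_inj hi.1 hj.1 (congrArg (fun g : ↥TS => ((g : ↥D.centA) : G)) h)),
        fun g => ⟨⟨idx g, List.mem_toFinset.2 (List.mem_filter.2 ⟨List.mem_range.2 (hidx g), hidc g⟩)⟩,
          Subtype.ext (Subtype.ext (hide g))⟩⟩
    rw [← Nat.card_congr e, Nat.card_eq_fintype_card, Fintype.card_coe,
      List.toFinset_card_of_nodup (List.nodup_range.filter _), hcount]
  have hindex : TS.index = 15 := by
    have h := TS.card_mul_index
    rw [hcardT, hcardA] at h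
    omega
  let χ : ↥D.centA →* ℤˣ := MonoidHom.transfer φ
  have hχa : χ aA = -1 := by
    have key : ∀ (k : ℕ) (g₀ : ↥D.centA), g₀⁻¹ * aA ^ k * g₀ ∈ TS → g₀⁻¹ * aA ^ k * g₀ = aA ^ k := by
      intro k g₀ _
      rw [mul_assoc, (Commute.pow_left (hcomm g₀) k).eq, inv_mul_cancel_left]
    show MonoidHom.transfer φ aA = -1
    rw [MonoidHom.transfer_eq_pow φ aA key]
    show dSign (idx _) = -1
    have : ((aA ^ TS.index : ↥D.centA) : G) = D.el ai := by
      rw [hindex, show (15 : ℕ) = 2 * 7 + 1 from rfl, pow_succ, pow_mul, pow_two, ha2, one_pow,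
        one_mul]
    rw [← ds_a]
    exact congrArg dSign (D.el_inj (hidx _) a_ ((hide _).trans this))
  -- the complement
  let χ' : ↥D.centA →* ℤˣ := if χ b = 1 then χ else χ * (Perm.sign.comp ρ)
  have hχ'a : χ' aA = -1 := by
    have hρa : ρ aA = 1 := by rw [hρ, hπa]; group
    simp only [χ']; split
    · exact hχa
    · rw [MonoidHom.mul_apply, hχa, MonoidHom.comp_apply, hρa, map_one, mul_one]
  have hχ'b : χ' b = 1 := by
    simp only [χ']; split
    · next h => exact h
    · next h =>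
      rw [MonoidHom.mul_apply, MonoidHom.comp_apply, hρ, hcb, Perm.sign_swap (by decide),
        (Int.units_eq_one_or (χ b)).resolve_left h]
      rfl
  have hχ'z : χ' z = 1 := by rw [← hrr, map_mul, Int.units_mul_self]
  let U := χ'.ker
  let ρU : ↥U →* Perm (Fin 5) := ρ.comp U.subtype
  have hUinj : Function.Injective ρU := by
    rw [injective_iff_map_eq_one]
    intro g hg
    rcases hρker g.1 hg with h | h
    · exact Subtype.ext h
    · exfalso
      have := g.2
      rw [MonoidHom.mem_ker, h, hχ'a] at this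
      exact absurd this (by decide)
  have hUsur : Function.Surjective ρU := by
    intro p
    obtain ⟨g, hg⟩ := hρsur p
    rcases Int.units_eq_one_or (χ' g) with h | h
    · exact ⟨⟨g, h⟩, hg⟩
    · refine ⟨⟨aA * g, ?_⟩, ?_⟩
      · rw [MonoidHom.mem_ker, map_mul, hχ'a, h]; rfl
      · show ρ (aA * g) = p
        rw [map_mul, hρ aA, hπa, hg]; group
  let ι := MulEquiv.ofBijective ρU ⟨hUinj, hUsur⟩
  let ψ : Perm (Fin 5) →* G := ((D.centA).subtype.comp U.subtype).comp ι.symm.toMonoidHom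
  have hψ : ∀ (g : ↥D.centA) (hg : g ∈ U) (p : Perm (Fin 5)), ρ g = p → ψ p = (g : G) := by
    intro g hg p h
    have e : ι.symm p = ⟨g, hg⟩ := by rw [MulEquiv.symm_apply_eq]; exact h.symm
    show ((ι.symm p : ↥U) : ↥D.centA) = (g : G)
    rw [e]
  refine ⟨ψ, ⟨?_, ?_, ?_, ?_, ?_, ?_⟩⟩
  · exact fun p q h => ι.symm.injective (Subtype.ext (Subtype.ext h))
  · exact fun p => Subgroup.mem_centralizer_singleton_iff.1 ((ι.symm p : ↥U) : ↥D.centA).2
  · intro g hg
    set g' : ↥D.centA := ⟨g, Subgroup.mem_centralizer_singleton_iff.2 hg⟩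
    rcases Int.units_eq_one_or (χ' g') with h | h
    · exact ⟨ρ g', Or.inl (hψ g' h _ rfl).symm⟩
    · refine ⟨ρ g', Or.inr ?_⟩
      have hU : aA * g' ∈ U := by rw [MonoidHom.mem_ker, map_mul, hχ'a, h]; rfl
      have e : ψ (ρ g') = ((aA * g' : ↥D.centA) : G) := hψ _ hU _ (by
        rw [map_mul, hρ aA, hπa]; group)
      rw [e]
      show g = D.el ai * (D.el ai * g)
      rw [← mul_assoc, show D.el ai * D.el ai = 1 from congrArg Subtype.val ha2, one_mul]
  · exact hψ b hχ'b _ hcb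
  · have hU : b * z ∈ U := by rw [MonoidHom.mem_ker, map_mul, hχ'b, hχ'z, one_mul]
    refine (hψ _ hU _ ?_).trans ?_
    · rw [hρ, map_mul]
      calc _ = (c * π b * c⁻¹) * (c * π z * c⁻¹) := by group
        _ = _ := by rw [hcb, hcz]; exact s5_moves.2.2.2.2.2
    · show D.el bi * D.el zi = D.el bzi
      rw [D.el_mul b_ z_]; exact congrArg D.el (by decide +kernel)
  · refine hψ X ?_ _ hcX
    by_contra hXU
    have hχX : χ' X = -1 := (Int.units_eq_one_or _).resolve_left hXU
    have hU : aA * X ∈ U := by rw [MonoidHom.mem_ker, map_mul, hχ'a, hχX]; rfl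
    obtain ⟨v, hv⟩ := s5_conj (swap 0 2 * swap 1 3) (by decide) (by decide) (by decide)
    obtain ⟨g, hg⟩ := hUsur v⁻¹
    have e : g.1 * z * g.1⁻¹ = aA * X := by
      have hzU : g.1 * z * g.1⁻¹ ∈ U := by
        rw [MonoidHom.mem_ker, map_mul, map_mul, map_inv, hχ'z, mul_one, mul_inv_cancel]
      refine congrArg Subtype.val (hUinj (a₁ := ⟨_, hzU⟩) (a₂ := ⟨_, hU⟩) ?_)
      show ρ (g.1 * z * g.1⁻¹) = ρ (aA * X)
      have hg' : ρ g.1 = v⁻¹ := hg
      rw [map_mul, map_mul, map_inv, hg', hρ z, hcz, map_mul, hρ aA, hπa, hρ X, hcX, ← hv]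
      group
    refine noconj aX_ caX (Nat.eq_of_beq_eq_true h12.2.2) g.1 ?_
    rw [e, ← D.el_mul a_ X_]
    rfl

end CfsgLib.InvChar.M12C
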