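import Cfsg.Agent.Lib.InvChar.M12C.Model

/-!
# From the hypothesis to the table

An involution centraliser isomorphic to that of a 2-central involution of `M12` is numbered by the
table.
-/

set_option autoImplicit false
set_option maxRecDepth 100000
set_option Elab.async false

namespace CfsgLib.InvChar.M12C

open CfsgLib.Golay Cfsg
open scoped Pointwise

universe u

theorem syl_chk : (sylList.all fun i => Nat.blt i 192 && sylList.contains (inv i) &&
    sylList.all fun j => sylList.contains (mul i j)) = true := by decide +kernel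

theorem syl_facts : sylList.length = 64 ∧ sylList.Nodup ∧ 0 ∈ sylList ∧ zi ∈ sylList := by
  decide +kernel

theorem syl_center : (sylList.all fun i => Nat.beq i 0 || Nat.beq i zi || !Nat.beq (mul i i) 0 ||
    sylList.any fun j => !comm i j) = true := by decide +kernel

theorem syl_lt {i : ℕ} (hi : i ∈ sylList) : i < 192 := by
  have h := List.all_eq_true.1 syl_chk i hi
  simp only [Bool.and_eq_true] at h
  simpa [Nat.blt] using h.1.1

/-- A Sylow 2-subgroup of `M12`, as a subgroup. -/
noncomputable def sylP : Subgroup ↥Spor.M12 where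
  carrier := {g | ∃ i ∈ sylList, Pm i = g}
  one_mem' := ⟨0, syl_facts.2.2.1, Pm_zero⟩
  mul_mem' := by
    rintro _ _ ⟨i, hi, rfl⟩ ⟨j, hj, rfl⟩
    have h := List.all_eq_true.1 syl_chk i hi
    simp only [Bool.and_eq_true] at h
    exact ⟨_, List.contains_iff_mem.1 (List.all_eq_true.1 h.2 j hj),
      (Pm_mul (syl_lt hi) (syl_lt hj)).symm⟩
  inv_mem' := by
    rintro _ ⟨i, hi, rfl⟩
    have h := List.all_eq_true.1 syl_chk i hi
    simp only [Bool.and_eq_true] at h
    refine ⟨_, List.contains_iff_mem.1 h.1.2, (inv_eq_of_mul_eq_one_right ?_).symm⟩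
    rw [Pm_mul (syl_lt hi) (inv_lt (syl_lt hi)), (inv_facts (syl_lt hi)).2.1, Pm_zero]

theorem card_sylP : Nat.card sylP = 64 := by
  classical
  have e : {i // i ∈ sylList.toFinset} ≃ sylP := Equiv.ofBijective
    (fun i => ⟨Pm i.1, i.1, List.mem_toFinset.1 i.2, rfl⟩)
    ⟨fun i j h => Subtype.ext (Pm_inj (syl_lt (List.mem_toFinset.1 i.2))
      (syl_lt (List.mem_toFinset.1 j.2)) (congrArg Subtype.val h)),
    fun g => by
      obtain ⟨i, hi, hg⟩ := g.2
      exact ⟨⟨i, List.mem_toFinset.2 hi⟩, Subtype.ext hg⟩⟩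
  rw [← Nat.card_congr e, Nat.card_eq_fintype_card, Fintype.card_coe,
    List.toFinset_card_of_nodup syl_facts.2.1, syl_facts.1]

/-- `sylP` has Sylow order. -/
theorem card_sylP_pow : Nat.card sylP = 2 ^ (Nat.card ↥Spor.M12).factorization 2 := by
  rw [card_sylP, card_sporM12]
  have : (95040 : ℕ).factorization 2 = 6 := by
    rw [Nat.factorization_def _ Nat.prime_two]
    have h1 : (95040 : ℕ) = 2 ^ 6 * 1485 := by norm_num
    rw [h1, padicValNat.mul (by norm_num) (by norm_num), padicValNat.prime_pow,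
      padicValNat.eq_zero_of_not_dvd (by norm_num)]
  rw [this]; norm_num

instance finite_M12 : Finite ↥Spor.M12 :=
  Nat.finite_of_card_ne_zero (by rw [card_sporM12]; norm_num)

/-- Every 2-central involution of `M12` is conjugate to `zM`. -/
theorem conj_zM (u : ↥Spor.M12) (hu : Cfsg.IsTwoCentralInvolution u) :
    ∃ g : ↥Spor.M12, g * u * g⁻¹ = zM := by
  classical
  haveI : Fact (Nat.Prime 2) := ⟨Nat.prime_two⟩
  obtain ⟨hu2, P, huP, hcomm⟩ := hu
  let P0 : Sylow 2 ↥Spor.M12 := Sylow.ofCard sylP card_sylP_pow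
  obtain ⟨g, hg⟩ := MulAction.exists_smul_eq ↥Spor.M12 P P0
  refine ⟨g, ?_⟩
  have hsub : ∀ x, x ∈ sylP → ∃ p ∈ P, g * p * g⁻¹ = x := by
    intro x hx
    have hx' : x ∈ ((g • P : Sylow 2 ↥Spor.M12) : Subgroup ↥Spor.M12) := by rw [hg]; exact hx
    rw [Sylow.coe_subgroup_smul, Subgroup.mem_pointwise_smul_iff_inv_smul_mem] at hx'
    refine ⟨_, hx', ?_⟩
    simp [MulAut.smul_def, mul_assoc]
  have hin : g * u * g⁻¹ ∈ sylP := by
    have : MulAut.conj g • u ∈ MulAut.conj g • (P : Subgroup ↥Spor.M12) :=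
      Subgroup.smul_mem_pointwise_smul u _ _ huP
    rw [← Sylow.coe_subgroup_smul] at this
    change MulAut.conj g • u ∈ ((g • P : Sylow 2 ↥Spor.M12) : Subgroup ↥Spor.M12) at this
    rw [hg] at this
    exact this
  obtain ⟨i, hi, he⟩ := hin
  have hlt := syl_lt hi
  have h := List.all_eq_true.1 syl_center i hi
  simp only [Bool.or_eq_true, List.any_eq_true] at h
  have ho : orderOf (Pm i) = 2 := by
    rw [he, ← hu2]; exact MulEquiv.orderOf_eq (MulAut.conj g) u
  rcases h with ((h | h) | h) | ⟨j, hj, h⟩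
  · rw [Nat.eq_of_beq_eq_true h, Pm_zero, orderOf_one] at ho; omega
  · rw [← he, zM, Nat.eq_of_beq_eq_true h]
  · exfalso
    have : mul i i = 0 := Pm_inj (mul_lt hlt hlt) (by norm_num)
      (by rw [← Pm_mul hlt hlt, Pm_zero, ← pow_two, ← ho, pow_orderOf_eq_one])
    simp [this] at h
  · exfalso
    obtain ⟨p, hp, hpj⟩ := hsub (Pm j) ⟨j, hj, rfl⟩
    have hc : Pm i * Pm j = Pm j * Pm i := by
      rw [he, ← hpj]
      simp only [mul_assoc, inv_mul_cancel_left]
      rw [← mul_assoc u, ← hcomm p hp, mul_assoc]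
    rw [Pm_mul hlt (syl_lt hj), Pm_mul (syl_lt hj) hlt] at hc
    have := Pm_inj (mul_lt hlt (syl_lt hj)) (mul_lt (syl_lt hj) hlt) hc
    simp [comm, this] at h

theorem mem_cent_zM {i : ℕ} (hi : i < 192) :
    Pm i ∈ Subgroup.centralizer ({zM} : Set ↥Spor.M12) := by
  rw [Subgroup.mem_centralizer_singleton_iff, zM, Pm_mul hi zi_lt, Pm_mul zi_lt hi]
  have h : all192 (fun j => comm j zi) = true := by decide +kernel
  rw [Nat.eq_of_beq_eq_true (all192_get h hi)]

theorem cent_zM_eq {g : ↥Spor.M12} (hg : g ∈ Subgroup.centralizer ({zM} : Set ↥Spor.M12)) :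
    ∃ i < 192, Pm i = g := by
  let f : Fin 192 → Subgroup.centralizer ({zM} : Set ↥Spor.M12) :=
    fun i => ⟨Pm i, mem_cent_zM i.2⟩
  have hf : Function.Injective f := fun i j h => Fin.ext (Pm_inj i.2 j.2 (congrArg Subtype.val h))
  have hb := hf.bijective_of_nat_card_le (by rw [Nat.card_fin]; exact card_cent_le)
  obtain ⟨i, hi⟩ := hb.2 ⟨g, hg⟩
  exact ⟨i, i.2, congrArg Subtype.val hi⟩

/-- The hypothesis gives the table. -/
theorem exists_data {G : Type u} [Group G] (w : ↥Spor.M12) (hw : Cfsg.IsTwoCentralInvolution w)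
    (t : G) (ht : orderOf t = 2)
    (e : ↥(Subgroup.centralizer ({t} : Set G)) ≃* ↥(Subgroup.centralizer ({w} : Set ↥Spor.M12))) :
    Nonempty (Data t) := by
  classical
  obtain ⟨g, hg⟩ := conj_zM w hw
  set Ct := Subgroup.centralizer ({t} : Set G)
  set Cz := Subgroup.centralizer ({zM} : Set ↥Spor.M12)
  -- the composite map
  let φ : Ct → ↥Spor.M12 := fun x => g * (e x : ↥Spor.M12) * g⁻¹
  have φ_mul : ∀ x y, φ (x * y) = φ x * φ y := fun x y => by simp [φ, mul_assoc]
  have φ_inj : Function.Injective φ := fun x y h =>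
    e.injective (Subtype.ext (mul_left_cancel (mul_right_cancel h)))
  have φ_mem : ∀ x, φ x ∈ Cz := fun x => by
    rw [Subgroup.mem_centralizer_singleton_iff, ← hg]
    have h := Subgroup.mem_centralizer_singleton_iff.1 (e x).2
    simp only [φ, mul_assoc, inv_mul_cancel_left]
    rw [← mul_assoc ((e x : ↥Spor.M12)), h, mul_assoc]
  have φ_surj : ∀ i < 192, ∃ x, φ x = Pm i := by
    intro i hi
    have hi' := Subgroup.mem_centralizer_singleton_iff.1 (mem_cent_zM hi)
    have hm : g⁻¹ * Pm i * g ∈ Subgroup.centralizer ({w} : Set ↥Spor.M12) := by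
      rw [Subgroup.mem_centralizer_singleton_iff]
      have hw' : w = g⁻¹ * zM * g := by rw [← hg]; group
      rw [hw']
      simp only [mul_assoc, mul_inv_cancel_left]
      rw [← mul_assoc (Pm i), hi', mul_assoc]
    refine ⟨e.symm ⟨_, hm⟩, ?_⟩
    simp [φ, mul_assoc]
  choose! pre hpre using φ_surj
  let el : ℕ → G := fun i => (pre i : G)
  have hel : ∀ x : Ct, ∀ i < 192, φ x = Pm i → (x : G) = el i := fun x i hi h => by
    have : x = pre i := φ_inj (by rw [h, hpre i hi])
    rw [this]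
  refine ⟨⟨el, ?_, ?_, ?_, ?_, ?_⟩⟩
  · intro i j hi hj
    exact hel (pre i * pre j) _ (mul_lt hi hj) (by rw [φ_mul, hpre i hi, hpre j hj, Pm_mul hi hj])
  · intro i j hi hj h
    exact Pm_inj hi hj (by rw [← hpre i hi, ← hpre j hj, Subtype.ext h])
  · intro x
    constructor
    · intro hx
      obtain ⟨i, hi, he⟩ := cent_zM_eq (φ_mem ⟨x, Subgroup.mem_centralizer_singleton_iff.2 hx⟩)
      exact ⟨i, hi, (hel ⟨x, Subgroup.mem_centralizer_singleton_iff.2 hx⟩ i hi he.symm).symm⟩
    · rintro ⟨i, -, rfl⟩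
      exact Subgroup.mem_centralizer_singleton_iff.1 (pre i).2
  · exact (hel 1 0 (by norm_num) (by rw [Pm_zero]; simp [φ])).symm
  · -- the image of `t` is the only central involution of the centraliser
    have htm : t ∈ Ct := Subgroup.mem_centralizer_singleton_iff.2 rfl
    obtain ⟨i, hi, he⟩ := cent_zM_eq (φ_mem ⟨t, htm⟩)
    have hcen : ∀ j < 192, mul i j = mul j i := fun j hj => by
      refine Pm_inj (mul_lt hi hj) (mul_lt hj hi) ?_
      rw [← Pm_mul hi hj, ← Pm_mul hj hi, he, ← hpre j hj, ← φ_mul, ← φ_mul]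
      refine congrArg φ (Subtype.ext ?_)
      exact (Subgroup.mem_centralizer_singleton_iff.1 (pre j).2).symm
    have h := all192_get center_chk hi
    simp only [Bool.or_eq_true] at h
    rcases h with (h | h) | h
    · exfalso
      have ha : all192 (fun j => comm i j) = true := List.all_eq_true.2 fun j hj => by
        rw [comm, hcen j (List.mem_range.1 hj)]; exact Nat.beq_refl _
      simp [ha] at h
    · exfalso
      rw [Nat.eq_of_beq_eq_true h, Pm_zero] at he
      have : (⟨t, htm⟩ : Ct) = 1 := φ_inj (by rw [← he]; simp [φ])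
      rw [show t = 1 from congrArg Subtype.val this, orderOf_one] at ht
      omega
    · rw [← Nat.eq_of_beq_eq_true h]
      exact (hel ⟨t, htm⟩ i hi he.symm).symm

end CfsgLib.InvChar.M12C
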