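import Cfsg.Agent.Lib.InvChar.M12C.Relators
import Cfsg.Agent.Lib.InvChar.M12C.Transport
import Cfsg.Agent.Lib.InvChar.M12C.RecogData
import Cfsg.Agent.Lib.InvChar.CosetWordGroup
import Cfsg.Agent.Lib.Invol.Strong
import Mathlib.GroupTheory.Perm.Sign

/-!
# Recognition of `M12`

A group satisfying the relators of `CertMain` generated as described is `M12`: the presented group
has order at most `495 * 192`, maps onto `M12`, and its image in `G` would be strongly embedded if
proper.
-/

set_option autoImplicit false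
set_option maxRecDepth 100000
set_option Elab.async false

namespace CfsgLib.InvChar.M12C

open CfsgLib.InvChar.Coset CfsgLib.Golay Cfsg Equiv
open scoped Pointwise

universe u

theorem slp_chk : slpOK (idCode :: genCodes) genOps (chainGens chainM12Levels) = true := by
  decide +kernel

/-- The composite of some codes at a point. -/
def followCodes (L : List ℕ) (k : ℕ) : ℕ := L.foldr (fun x r => img (gc x) r) k

theorem perm_followCodes : ∀ (L : List ℕ) {k : ℕ}, k < 24 →
    followCodes L k < 24 ∧ ((wprod gM L : ↥Spor.M12) : Perm GolayPt) (pt k) = pt (followCodes L k) := by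
  intro L
  induction L with
  | nil => intro k hk; exact ⟨hk, by simp [wprod, followCodes]⟩
  | cons x L ih =>
    intro k hk
    obtain ⟨h1, h2⟩ := ih hk
    refine ⟨valid_lt (valid_gc x) h1, ?_⟩
    have e : (wprod gM (x :: L) : ↥Spor.M12) = gM x * wprod gM L := by simp [wprod]
    rw [e, Subgroup.coe_mul, Perm.mul_apply, h2]
    exact permOf_pt (valid_gc x) h1

theorem wprod_gM_eq {L M : List ℕ}
    (h : ((List.range 24).all fun k => Nat.beq (followCodes L k) (followCodes M k)) = true) :
    wprod gM L = wprod gM M := by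
  refine Subtype.ext (Equiv.ext fun p => ?_)
  rw [← pt_idx p, (perm_followCodes L (idx_lt p)).2, (perm_followCodes M (idx_lt p)).2,
    Nat.eq_of_beq_eq_true (List.all_eq_true.1 h _ (List.mem_range.2 (idx_lt p)))]

theorem model_rels_chk : (CertMain.rels.all fun r =>
    (List.range 24).all fun k => Nat.beq (followCodes r k) k) = true := by decide +kernel

theorem wConj_chk : ((wConjWord.all fun x => Nat.blt x 8) && (List.range 24).all fun k =>
    Nat.beq (followCodes (wConjWord ++ wds.getD zi [] ++ wConjWord.reverse) k)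
      (followCodes (wds.getD wi []) k)) = true := by decide +kernel

theorem closure_gM : Subgroup.closure (gM '' Set.Iio 8) = ⊤ := by
  have key : fixMasks X12 ≤ (Subgroup.closure (gM '' Set.Iio 8)).map Spor.M12.subtype := by
    refine fixMasks_le_of_gens chain12 (slpOK_sound ?_ slp_chk)
    intro c hc
    rcases List.mem_cons.1 hc with rfl | hc
    · rw [permOf_idCode]; exact Subgroup.one_mem _
    · obtain ⟨x, hx, rfl⟩ := List.mem_iff_getElem.1 hc
      exact ⟨gM x, Subgroup.subset_closure ⟨x, by simpa [genCodes] using hx, rfl⟩, by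
        show permOf (gc x) = _
        rw [gc, List.getD_eq_getElem _ _ hx]⟩
  rw [← sporM12_eq] at key
  refine top_le_iff.1 fun x _ => ?_
  obtain ⟨y, hy, hyx⟩ := key x.2
  rwa [← Subtype.ext hyx]

theorem main_lt : ∀ r ∈ CertMain.rels, ∀ x ∈ r, x < 8 := by decide +kernel

theorem main_sq : ∀ x < 8, [x, x] ∈ CertMain.rels := by decide +kernel

/-- The presentation of `M12`. -/
def wordPres : WordPres := ⟨8, CertMain.rels, by norm_num, main_lt, main_sq⟩

theorem embed_facts : (∀ r ∈ CertCH.rels, (∀ x ∈ r, x < 6) ∧ r ∈ CertMain.rels) ∧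
    CertCH.subs = [] ∧
    (∀ r ∈ CertMain.subs, r.map (fun x => (List.range 8).getD x 0) ∈
      (List.range 6).map (fun x => [x]) ∧ ∀ x ∈ r, x < (List.range 8).length) := by decide +kernel

theorem subGen_range {K : Type*} [Monoid K] (s : ℕ → K) (n : ℕ) (r : List ℕ) (h : ∀ x ∈ r, x < n) :
    wprod (subGen s (List.range n)) r = wprod s r := by
  simp only [wprod]
  refine congrArg List.prod (List.map_congr_left fun x hx => ?_)
  simp [subGen, h x hx]

theorem card_pres_le : Finite wordPres.Grp ∧ Nat.card wordPres.Grp ≤ 495 * (192 * 1) := by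
  obtain ⟨e1, e2, e3⟩ := embed_facts
  obtain ⟨f0, n0⟩ := card_lettersClosure_nil wordPres.gen
  obtain ⟨f1, n1⟩ := CertCH.covered.chain_step wordPres.gen wordPres.gen_mul_self (List.range 6) []
    rfl (fun r hr => by
      rw [subGen_range _ _ _ (e1 r hr).1]; exact wordPres.gen_rel r (e1 r hr).2)
    (fun x hx => by simp at hx) (fun r hr => by rw [show CertCH.cert.subs = [] from e2] at hr; simp at hr)
    f0 n0
  exact wordPres.card_le_of_lettersClosure (emb := List.range 8) rfl
    (CertMain.covered.chain_step wordPres.gen wordPres.gen_mul_self (List.range 8) (List.range 6)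
      rfl (fun r hr => by
        rw [subGen_range _ _ _ (main_lt r hr)]; exact wordPres.gen_rel r hr)
      (fun x hx => List.mem_range.2 (lt_trans (List.mem_range.1 hx) (by norm_num))) e3 f1 n1)

variable {G : Type u} [Group G] {t : G} {D : Data t} {ψ : Perm (Fin 5) →* G}

/-- The homomorphism from `M12` given by the relators. -/
theorem exists_hom (s : ℕ → G) (hR : ∀ r ∈ CertMain.rels, wprod s r = 1) (h0 : s 0 ≠ 1) :
    ∃ α : ↥Spor.M12 →* G, Function.Injective α ∧ ∀ x < 8, α (gM x) = s x := by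
  obtain ⟨φ, hφ⟩ := wordPres.exists_hom gM fun r hr =>
    (wprod_gM_eq (M := []) (by
      have := List.all_eq_true.1 model_rels_chk r hr
      exact this)).trans rfl
  have hsur : φ.range = ⊤ := by
    refine top_le_iff.1 ?_
    rw [← closure_gM, Subgroup.closure_le]
    rintro _ ⟨x, hx, rfl⟩
    exact ⟨wordPres.gen x, hφ x hx⟩
  have hb : Function.Bijective φ := by
    refine ⟨(card_eq_and_injective φ (N := 95040) (by norm_num) card_pres_le ?_).2,
      MonoidHom.range_eq_top.1 hsur⟩
    rw [hsur, Subgroup.card_top, card_sporM12]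
  let ι := MulEquiv.ofBijective φ hb
  obtain ⟨β, hβ⟩ := wordPres.exists_hom s hR
  refine ⟨β.comp ι.symm.toMonoidHom, ?_, fun x hx => ?_⟩
  · haveI : IsSimpleGroup ↥Spor.M12 := isSimple_sporM12
    rcases (β.comp ι.symm.toMonoidHom).normal_ker.eq_bot_or_eq_top with h | h
    · exact (MonoidHom.ker_eq_bot_iff _).1 h
    · exfalso
      refine h0 ?_
      have hm : ι (wordPres.gen 0) ∈ (β.comp ι.symm.toMonoidHom).ker := by
        rw [h]; exact Subgroup.mem_top _
      rw [MonoidHom.mem_ker] at hm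
      simpa [hβ 0 (by decide : 0 < wordPres.g)] using hm
  · have : ι.symm (gM x) = wordPres.gen x := by rw [← hφ x hx]; exact ι.symm_apply_apply _
    simp only [MonoidHom.coe_comp, MulEquiv.coe_toMonoidHom, Function.comp_apply, this]
    exact hβ x hx

theorem idx_chk : lidx 0 = zi ∧ Xi < 192 ∧ wi < 192 ∧ zi ≠ 0 ∧ mul zi zi = 0 := by decide +kernel

/-- With the relators, `G` is `M12`. -/
theorem isoM12_of_rels [Finite G] (P : Psi D ψ) (hR : ∀ r ∈ CertMain.rels, wprod (D.lett ψ) r = 1)
    (hna : ¬ IsConj t (D.el ai)) : Spor.IsoM12 G := by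
  classical
  obtain ⟨hl0, hXi, hwi, hz0, hzz⟩ := idx_chk
  have s0 : D.lett ψ 0 = t := by
    rw [D.lett_small ψ (by norm_num), hl0]; exact D.el_zi
  have ht : orderOf t = 2 := by
    have := D.orderOf_el zi_lt hz0 hzz
    exact (congrArg orderOf D.el_zi.symm).trans this
  obtain ⟨α, hα, hαx⟩ := exists_hom (D.lett ψ) hR (by
    rw [s0]; intro h; rw [h, orderOf_one] at ht; omega)
  have hw : ∀ L : List ℕ, (∀ x ∈ L, x < 8) → α (wprod gM L) = wprod (D.lett ψ) L :=
    fun L hL => Coset.map_wprod α gM (D.lett ψ) L fun x hx => hαx x (hL x hx)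
  have hel : ∀ i < 192, α (Pm i) = D.el i := fun i hi => by
    obtain ⟨h1, h2, -⟩ := wd_facts hi
    rw [Pm_wd hi, hw _ (fun x hx => by have := h1 x hx; omega), D.wprod_el ψ h1 h2]
  set K := α.range with hK
  have hKel : ∀ i < 192, D.el i ∈ K := fun i hi => ⟨Pm i, hel i hi⟩
  have hKψ : ∀ p, ψ p ∈ K := by
    have hsw : ∀ i : Fin 4, ψ (swap i.castSucc i.succ) ∈ K := by
      intro i
      fin_cases i
      · show ψ (swap 0 1) ∈ K
        rw [P.map_b]; exact hKel _ idx_small.2.2.1
      · exact ⟨gM 6, by rw [hαx 6 (by norm_num)]; rfl⟩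
      · show ψ (swap 2 3) ∈ K
        rw [P.map_bz]; exact hKel _ idx_small.2.2.2.1
      · exact ⟨gM 7, by rw [hαx 7 (by norm_num)]; rfl⟩
    intro p
    have hp : p ∈ Submonoid.closure (Set.range fun i : Fin 4 => swap i.castSucc i.succ) := by
      rw [Equiv.Perm.mclosure_swap_castSucc_succ]; trivial
    exact (Submonoid.closure_le.2 (Set.range_subset_iff.2 hsw) :
      _ ≤ (K.comap ψ).toSubmonoid) hp
  have ha : D.el ai ∈ K := hKel _ idx_small.2.1
  -- the two centralisers lie in `K`
  have hct : ∀ g, g * t = t * g → g ∈ K := fun g hg => by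
    obtain ⟨i, hi, rfl⟩ := D.mem.1 hg
    exact hKel i hi
  have hca : ∀ g, g * D.el ai = D.el ai * g → g ∈ K := fun g hg => by
    obtain ⟨p, rfl | rfl⟩ := P.cover g hg
    · exact hKψ p
    · exact K.mul_mem ha (hKψ p)
  have hcent : ∀ c, c = t ∨ c = D.el ai → ∀ g, g * c = c * g → g ∈ K := by
    rintro c (rfl | rfl)
    exacts [hct, hca]
  -- every involution of `K` is conjugate in `K` to `t` or `a`
  have hinv : ∀ u ∈ K, orderOf u = 2 →
      ∃ k ∈ K, k * u * k⁻¹ = t ∨ k * u * k⁻¹ = D.el ai := by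
    rintro _ ⟨v, rfl⟩ hv
    rw [orderOf_injective α hα] at hv
    haveI : Fact (Nat.Prime 2) := ⟨Nat.prime_two⟩
    have hz : IsPGroup 2 (Subgroup.zpowers v) :=
      IsPGroup.of_card (n := 1) (by rw [Nat.card_zpowers, hv, pow_one])
    obtain ⟨Q, hQ⟩ := hz.exists_le_sylow
    let P0 : Sylow 2 ↥Spor.M12 := Sylow.ofCard sylP card_sylP_pow
    obtain ⟨g, hg⟩ := MulAction.exists_smul_eq ↥Spor.M12 Q P0
    have hin : g * v * g⁻¹ ∈ sylP := by
      have : MulAut.conj g • v ∈ MulAut.conj g • (Q : Subgroup ↥Spor.M12) :=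
        Subgroup.smul_mem_pointwise_smul v _ _ (hQ (Subgroup.mem_zpowers v))
      rw [← Sylow.coe_subgroup_smul] at this
      change MulAut.conj g • v ∈ ((g • Q : Sylow 2 ↥Spor.M12) : Subgroup ↥Spor.M12) at this
      rw [hg] at this
      exact this
    obtain ⟨i, hi, he⟩ := hin
    have hlt := syl_lt hi
    have ho : orderOf (D.el i) = 2 := by
      rw [← hel i hlt, orderOf_injective α hα, he, ← hv]
      exact MulEquiv.orderOf_eq (MulAut.conj g) v
    obtain ⟨j, hj, hji, hlab, hwit⟩ := D.exists_wit ho (D.el_comm_t hlt)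
    have hwlt := (inv_facts hj).2.2.2.2.2
    have hconj : α g * α v * (α g)⁻¹ = D.el i := by
      rw [← hel i hlt, he, map_mul, map_mul, map_inv]
    have hrep : D.el (rep (lab j)) =
        ((D.el (wit j))⁻¹ * α g) * α v * ((D.el (wit j))⁻¹ * α g)⁻¹ := by
      calc D.el (rep (lab j)) = (D.el (wit j))⁻¹ * D.el i * D.el (wit j) := by
            rw [← hwit]; group
        _ = _ := by rw [← hconj]; group
    have hk : (D.el (wit j))⁻¹ * α g ∈ K :=
      K.mul_mem (K.inv_mem (hKel _ hwlt)) ⟨g, rfl⟩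
    rcases hlab with h | h | h | h <;> rw [h] at hrep
    · refine ⟨_, hk, Or.inl ?_⟩
      rw [← hrep, show rep 1 = zi from rfl]; exact D.el_zi
    · refine ⟨ψ (swap 1 2) * _, K.mul_mem (hKψ _) hk, Or.inl ?_⟩
      rw [mul_inv_rev]
      simp only [← mul_assoc]
      rw [mul_assoc (ψ _), mul_assoc (ψ _), mul_assoc (ψ _), mul_assoc (ψ _)]
      rw [show rep 6 = Xi from rfl] at hrep
      rw [inv_eq_of_mul_eq_one_right P.sq_u]
      calc _ = ψ (swap 1 2) * D.el Xi * ψ (swap 1 2) := by rw [hrep]; group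
        _ = t := P.conj_X
    · refine ⟨_, hk, Or.inr ?_⟩
      rw [← hrep, show rep 12 = ai from rfl]
    · have hc := wConj_chk
      simp only [Bool.and_eq_true, List.all_eq_true] at hc
      have hc8 : ∀ x ∈ wConjWord, x < 8 := fun x hx => by simpa [Nat.blt] using hc.1 x hx
      have e : α (wprod gM wConjWord) * t * (α (wprod gM wConjWord))⁻¹ = D.el wi := by
        have h1 := wprod_gM_eq (L := wConjWord ++ wds.getD zi [] ++ wConjWord.reverse)
          (M := wds.getD wi []) (List.all_eq_true.2 hc.2)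
        rw [wprod_append', wprod_append', ← Pm_wd zi_lt, ← Pm_wd hwi] at h1
        rw [← hel wi hwi, ← h1, map_mul, map_mul, hel zi zi_lt, hw wConjWord.reverse
          (fun x hx => hc8 x (List.mem_reverse.1 hx)), wprod_rev, ← hw _ hc8]
        rw [show D.el zi = t from D.el_zi]
      refine ⟨(α (wprod gM wConjWord))⁻¹ * ((D.el (wit j))⁻¹ * α g),
        K.mul_mem (K.inv_mem ⟨_, rfl⟩) hk, Or.inl ?_⟩
      rw [show rep 24 = wi from rfl] at hrep
      calc _ = (α (wprod gM wConjWord))⁻¹ * D.el wi * α (wprod gM wConjWord) := by rw [hrep]; group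
        _ = t := by rw [← e]; group
  by_cases htop : K = ⊤
  · exact ⟨(MulEquiv.ofBijective α ⟨hα, MonoidHom.range_eq_top.1 htop⟩).symm⟩
  exfalso
  have htK : t ∈ K := hct t rfl
  have hse : Cfsg.IsStronglyEmbedded K := by
    refine ⟨htop, ?_, fun g hg => ?_⟩
    · have h2 : orderOf (⟨t, htK⟩ : K) = 2 := by rw [Subgroup.orderOf_mk, ht]
      exact even_iff_two_dvd.2 (h2 ▸ orderOf_dvd_natCard _)
    · rw [← Nat.not_even_iff_odd, even_iff_two_dvd]
      intro hev
      haveI : Fact (Nat.Prime 2) := ⟨Nat.prime_two⟩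
      obtain ⟨⟨u, hu⟩, hu2⟩ := exists_prime_orderOf_dvd_card' 2 hev
      rw [Subgroup.orderOf_mk] at hu2
      have huK : u ∈ K := hu.1
      have huc : u ∈ K.map (MulAut.conj g).toMonoidHom := hu.2
      rw [Subgroup.mem_map] at huc
      obtain ⟨v, hvK, hvu⟩ := huc
      change g * v * g⁻¹ = u at hvu
      have hv2 : orderOf v = 2 := by
        rw [← hu2, ← hvu]; exact (MulEquiv.orderOf_eq (MulAut.conj g) v).symm
      obtain ⟨k, hk, hku⟩ := hinv u huK hu2
      obtain ⟨l, hl, hlv⟩ := hinv v hvK hv2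
      have hgg : (k * g * l⁻¹) * (l * v * l⁻¹) * (k * g * l⁻¹)⁻¹ = k * u * k⁻¹ := by
        rw [← hvu]; group
      have hsame : l * v * l⁻¹ = k * u * k⁻¹ := by
        rcases hku with h1 | h1 <;> rcases hlv with h2 | h2
        · rw [h1, h2]
        · exact absurd (isConj_iff.2 ⟨k * g * l⁻¹,
            (congrArg (fun y => (k * g * l⁻¹) * y * (k * g * l⁻¹)⁻¹) h2).symm.trans (hgg.trans h1)⟩ : IsConj (D.el ai) t)
            fun h => hna h.symm
        · exact absurd (isConj_iff.2 ⟨k * g * l⁻¹,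
            (congrArg (fun y => (k * g * l⁻¹) * y * (k * g * l⁻¹)⁻¹) h2).symm.trans (hgg.trans h1)⟩) hna
        · rw [h1, h2]
      rw [hsame] at hgg
      have hmem : k * g * l⁻¹ ∈ K :=
        hcent _ hku _ (mul_inv_eq_iff_eq_mul.1 hgg)
      exact hg (by simpa [mul_assoc] using K.mul_mem (K.mul_mem (K.inv_mem hk) hmem) hl)
  exact hna (CfsgLib.Invol.se_isConj hse ht (D.orderOf_el idx_small.2.1
    idx_small.2.2.2.2.2.2.2.2.1 idx_small.2.2.2.2.2.2.2.2.2.2.1))

/-- Recognition from the structure of the centraliser of `a`. -/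
theorem isoM12_of_psi [Finite G] (P : Psi D ψ) (hna : ¬ IsConj t (D.el ai)) : Spor.IsoM12 G := by
  obtain ⟨D', P', ha, hR⟩ := P.exists_rels
  exact isoM12_of_rels P' hR (by rwa [ha])

end CfsgLib.InvChar.M12C
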