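import Cfsg.Agent.Lib.InvChar.M12C.Gens

/-!
# The relators hold

After possibly twisting by the automorphism of the table, the eight letters satisfy the relators
of `CertMain`.
-/

set_option autoImplicit false
set_option maxRecDepth 100000
set_option Elab.async false

namespace CfsgLib.InvChar.M12C

open CfsgLib.InvChar.Coset Equiv

universe u

/-- The relators saying how `ψ (2 3)` acts on the centraliser of `X`, in a given case. -/
def caseRels (i : ℕ) : List (List ℕ) :=
  (List.range 2).map fun j =>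
    [6] ++ hWords.getD j [] ++ [6] ++ ((imgWords.getD i []).getD j []).reverse

/-- The word of `r = ψ (3 4 5)`. -/
def rWord : List ℕ := bzWord ++ [7]

/-- The relators saying how `k` acts on `r`, with the sign. -/
def kRels (inverts : Bool) : List (List ℕ) :=
  [kWord ++ rWord ++ kWord.reverse ++ (bif inverts then rWord else rWord.reverse)]

/-- The trivial relators added by the certificates. -/
def trivRels : List (List ℕ) := [] :: (List.range 8).map fun x => [x, x]

theorem rels_eq :
    CertMain.rels = cRels ++ aRels ++ caseRels 3 ++ kRels false ++ trivRels ∧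
    CertE3.rels = cRels ++ aRels ++ caseRels 3 ++ kRels true ++ trivRels ∧
    CertE0.rels = cRels ++ aRels ++ caseRels 0 ++ trivRels ∧
    CertE2.rels = cRels ++ aRels ++ caseRels 2 ++ trivRels := by decide +kernel

theorem subs_eq : CertMain.subs = (List.range 6).map (fun x => [x]) ∧
    CertE0.subs = CertMain.subs ∧ CertE2.subs = CertMain.subs ∧ CertE3.subs = CertMain.subs := by
  decide +kernel

/-- The permutation of a letter in the centraliser of `a`. -/
def pval (x : ℕ) : Perm (Fin 5) :=
  if x = 0 then swap 0 1 * swap 2 3 else if x = 2 then swap 0 1 else if x = 3 then swap 0 2 * swap 1 3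
  else if x = 6 then swap 1 2 else if x = 7 then swap 3 4 else 1

theorem aRels_chk : (aRels.all fun r => (r.all fun x => decide (x ∈ [0, 1, 2, 3, 6, 7])) &&
    decide (r.count 1 % 2 = 0) && decide ((r.map pval).prod = 1)) = true := by decide +kernel

variable {G : Type u} [Group G] {t : G} {D : Data t} {ψ : Perm (Fin 5) →* G}

theorem wprod_append' (s : ℕ → G) (L M : List ℕ) :
    wprod s (L ++ M) = wprod s L * wprod s M := by simp [wprod]

theorem wprod_rev (D : Data t) (ψ : Perm (Fin 5) →* G) (L : List ℕ) :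
    wprod (D.lett ψ) L.reverse = (wprod (D.lett ψ) L)⁻¹ := by
  induction L with
  | nil => simp [wprod]
  | cons x L ih =>
    rw [List.reverse_cons, wprod_append', ih]
    simp only [wprod, List.map_cons, List.map_nil, List.prod_cons, List.prod_nil, mul_one,
      mul_inv_rev, inv_eq_of_mul_eq_one_right (D.lett_mul_self ψ x)]

/-- The subgroup generated by the six letters. -/
theorem sub_le_centralizer (D : Data t) (ψ : Perm (Fin 5) →* G) :
    ∀ r ∈ CertMain.subs, wprod (D.lett ψ) r ∈ Subgroup.centralizer ({t} : Set G) := by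
  intro r hr
  rw [subs_eq.1, List.mem_map] at hr
  obtain ⟨x, hx, rfl⟩ := hr
  rw [List.mem_range] at hx
  have h := List.all_eq_true.1 letter_chk x (List.mem_range.2 hx)
  simp only [Bool.and_eq_true] at h
  simp only [wprod, List.map_cons, List.map_nil, List.prod_cons, List.prod_nil, mul_one,
    D.lett_small ψ hx]
  exact Subgroup.mem_centralizer_singleton_iff.2 (D.el_comm_t (by simpa [Nat.blt] using h.1.1))

namespace Psi

variable (P : Psi D ψ)
include P

theorem wprod_pval : ∀ (L : List ℕ), (∀ x ∈ L, x ∈ [0, 1, 2, 3, 6, 7]) →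
    wprod (D.lett ψ) L = D.el ai ^ (L.count 1 % 2) * ψ (L.map pval).prod := by
  obtain ⟨-, -, w3, w4, w5, -⟩ := word_chk
  have e1 : D.lett ψ 1 = D.el ai := by simpa [wprod] using D.wprod_el ψ (L := [1]) (by simp) w3
  have hs : D.el ai ^ 2 = 1 := by
    rw [pow_two, D.el_mul idx_small.2.1 idx_small.2.1, idx_small.2.2.2.2.2.2.2.2.2.2.1, D.el_zero]
  have ep : ∀ x ∈ [0, 1, 2, 3, 6, 7], x ≠ 1 → D.lett ψ x = ψ (pval x) := by
    intro x hx h1
    fin_cases hx <;> first | exact absurd rfl h1 | skip
    · show D.lett ψ 0 = ψ (swap 0 1 * swap 2 3)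
      rw [P.map_z, D.lett_small ψ (by norm_num), show lidx 0 = zi by decide +kernel]
      exact D.el_zi
    · show D.lett ψ 2 = ψ (swap 0 1)
      rw [P.map_b]; simpa [wprod] using D.wprod_el ψ (L := [2]) (by simp) w4
    · show D.lett ψ 3 = ψ (swap 0 2 * swap 1 3)
      rw [P.map_X]; simpa [wprod] using D.wprod_el ψ (L := [3]) (by simp) w5
    · rfl
    · rfl
  intro L
  induction L with
  | nil => simp [wprod]
  | cons x L ih =>
    intro hL
    have ih := ih fun y hy => hL y (List.mem_cons_of_mem x hy)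
    simp only [wprod, List.map_cons, List.prod_cons] at ih ⊢
    rw [ih]
    by_cases h1 : x = 1
    · subst h1
      rw [e1, List.count_cons_self, ← mul_assoc, ← pow_succ', show pval 1 = 1 from rfl, one_mul,
        pow_eq_pow_mod _ hs]
      congr 2
      omega
    · rw [ep x (hL x List.mem_cons_self) h1, List.count_cons_of_ne h1, map_mul, ← mul_assoc,
        (Commute.pow_right (P.commute (pval x)) _ : Commute _ _).eq, mul_assoc]

theorem wprod_rels_common : ∀ r ∈ cRels ++ aRels ++ trivRels, wprod (D.lett ψ) r = 1 := by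
  intro r hr
  rw [List.mem_append, List.mem_append] at hr
  rcases hr with (hr | hr) | hr
  · have h := List.all_eq_true.1 rel_chk r hr
    simp only [Bool.and_eq_true, List.all_eq_true] at h
    rw [D.wprod_el ψ (fun x hx => by simpa [Nat.blt] using h.1 x hx)
      (Nat.eq_of_beq_eq_true h.2), D.el_zero]
  · have h := List.all_eq_true.1 aRels_chk r hr
    simp only [Bool.and_eq_true, List.all_eq_true, decide_eq_true_eq] at h
    rw [P.wprod_pval r h.1.1, h.1.2, h.2, map_one, pow_zero, one_mul]
  · simp only [trivRels, List.mem_cons, List.mem_map, List.mem_range] at hr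
    rcases hr with rfl | ⟨x, -, rfl⟩
    · rfl
    · simp [wprod, D.lett_mul_self]

/-- The relators of a case. -/
theorem wprod_caseRels {i : ℕ} (hi : i < 4)
    (h0 : ψ (swap 1 2) * D.el h0i * ψ (swap 1 2) = D.el (imgPairs.getD i (0, 0)).1)
    (h1 : ψ (swap 1 2) * D.el h1i * ψ (swap 1 2) = D.el (imgPairs.getD i (0, 0)).2) :
    ∀ r ∈ caseRels i, wprod (D.lett ψ) r = 1 := by
  obtain ⟨-, -, -, -, -, w6, w7, -, w8, w9⟩ := word_chk
  intro r hr
  simp only [caseRels, List.mem_map, List.mem_range] at hr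
  obtain ⟨j, hj, rfl⟩ := hr
  have hlen : hWords.length = 2 ∧ imgWords.length = 4 ∧ imgPairs.length = 4 ∧
      ∀ i < 4, (imgWords.getD i []).length = 2 := by decide +kernel
  have hh : ∀ x ∈ hWords.getD j [], x < 6 := by
    rw [List.getD_eq_getElem _ _ (by omega)]
    exact fun x hx => of_decide_eq_true (List.all_eq_true.1
      (List.all_eq_true.1 w8 _ (List.getElem_mem (by omega))) x hx)
  have hi2 := hlen.2.2.2 i hi
  have hv : ∀ x ∈ (imgWords.getD i []).getD j [], x < 6 := by
    rw [List.getD_eq_getElem _ _ (show j < _ by omega)]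
    intro x hx
    have hmem : imgWords.getD i [] ∈ imgWords := by
      rw [List.getD_eq_getElem _ _ (by omega)]; exact List.getElem_mem _
    exact of_decide_eq_true (List.all_eq_true.1 (List.all_eq_true.1
      (List.all_eq_true.1 w9 _ hmem) _ (List.getElem_mem (by omega))) x hx)
  have hf : stepT.follow ((imgWords.getD i []).getD 0 []) 0 = (imgPairs.getD i (0, 0)).1 ∧
      stepT.follow ((imgWords.getD i []).getD 1 []) 0 = (imgPairs.getD i (0, 0)).2 := by
    rw [← w7, List.getD_eq_getElem (imgWords.map _) _ (by simp; omega), List.getElem_map,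
      List.getD_eq_getElem imgWords _ (by omega)]
    exact ⟨rfl, rfl⟩
  have hf' : stepT.follow (hWords.getD 0 []) 0 = h0i ∧ stepT.follow (hWords.getD 1 []) 0 = h1i := by
    have e0 := congrArg (fun l => l.getD 0 0) w6
    have e1 := congrArg (fun l => l.getD 1 0) w6
    exact ⟨e0, e1⟩
  simp only [wprod_append', wprod_rev]
  rw [show wprod (D.lett ψ) [6] = ψ (swap 1 2) by simp [wprod, D.lett_six]]
  interval_cases j
  · rw [D.wprod_el ψ hh hf'.1, D.wprod_el ψ hv hf.1, h0, mul_inv_cancel]
  · rw [D.wprod_el ψ hh hf'.2, D.wprod_el ψ hv hf.2, h1, mul_inv_cancel]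

/-- The relator of `k`, with one of the two signs. -/
theorem wprod_kRels : (∀ r ∈ kRels false, wprod (D.lett ψ) r = 1) ∨
    ∀ r ∈ kRels true, wprod (D.lett ψ) r = 1 := by
  obtain ⟨w1, w2, -, -, -, -, -, hlt, -⟩ := word_chk
  rw [List.all_append, Bool.and_eq_true, List.all_eq_true, List.all_eq_true] at hlt
  obtain ⟨-, a_, b_, -, -, -, -, k_, ha0, -, haa, -⟩ := idx_small
  set r := swap (2 : Fin 5) 3 * swap 3 4 with hr
  have eb : wprod (D.lett ψ) bzWord = ψ (swap 2 3) := by
    rw [P.map_bz]; exact D.wprod_el ψ (fun x hx => of_decide_eq_true (hlt.2 x hx)) w1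
  have er : wprod (D.lett ψ) rWord = ψ r := by
    rw [rWord, wprod_append', eb, hr, map_mul]; simp [wprod, D.lett_seven]
  have ek : wprod (D.lett ψ) kWord = D.el ki :=
    D.wprod_el ψ (fun x hx => of_decide_eq_true (hlt.1 x hx)) w2
  set k := D.el ki
  have hka : k * D.el ai * k⁻¹ = D.el bi := by rw [D.el_conj k_ a_, k_chk.1]
  have hkb : k * D.el bi * k⁻¹ = D.el ai * D.el bi := by
    rw [D.el_conj k_ b_, k_chk.2, D.el_mul a_ b_]
  have hrb : ψ r * D.el bi = D.el bi * ψ r := by
    rw [← P.map_b, ← map_mul, ← map_mul, hr, perm_facts.2.2.2]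
  have cj : ∀ x y : G, ψ r * x = x * ψ r → k * x * k⁻¹ = y →
      k * ψ r * k⁻¹ * y = y * (k * ψ r * k⁻¹) := by
    intro x y hx hy
    rw [← hy]
    simp only [mul_assoc, inv_mul_cancel_left]
    rw [← mul_assoc (ψ r), hx, mul_assoc]
  have c1 := cj _ _ (P.commute r) hka
  have c2 := cj _ _ hrb hkb
  set y := k * ψ r * k⁻¹ with hy
  have c3 : y * D.el ai = D.el ai * y := by
    have : y * (D.el ai * D.el bi) = D.el ai * y * D.el bi := by rw [c2, mul_assoc, ← c1, ← mul_assoc]
    rw [← mul_assoc] at this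
    exact mul_right_cancel this
  have hr3 : r * r * r = 1 := by
    have := perm_rels.2.2.2.2.1
    rwa [pow_succ, pow_two] at this
  have hy3 : y * y * y = 1 := by
    have : ψ r * ψ r * ψ r = 1 := by rw [← map_mul, ← map_mul, hr3, map_one]
    rw [hy]
    calc _ = k * (ψ r * ψ r * ψ r) * k⁻¹ := by simp only [mul_assoc, inv_mul_cancel_left]
      _ = 1 := by rw [this, mul_one, mul_inv_cancel]
  obtain ⟨p, hp⟩ := P.cover y c3
  have hy' : y = ψ p ∧ p * p * p = 1 := by
    rcases hp with hp | hp
    · refine ⟨hp, P.inj ?_⟩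
      rw [map_mul, map_mul, ← hp, hy3, map_one]
    · exfalso
      have hc : Commute (D.el ai) (ψ p) := (P.commute p).symm
      have e3 : (D.el ai * ψ p) ^ 3 = 1 := by rw [← hp, pow_succ, pow_two, hy3]
      rw [hc.mul_pow, pow_succ, pow_two, D.el_mul a_ a_, haa, D.el_zero, one_mul, ← map_pow] at e3
      have hq : ψ ((p ^ 3)⁻¹) = D.el ai := by
        rw [map_inv, eq_comm, eq_inv_iff_mul_eq_one, e3]
      have hcen : (p ^ 3)⁻¹ = 1 := by
        refine perm_center _ ?_ ?_ ?_ ?_ <;>
        · apply P.inj; rw [map_mul, map_mul, hq, P.commute]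
      rw [hcen, map_one] at hq
      exact ha0 (D.el_inj a_ (by norm_num) (by rw [← hq, D.el_zero]))
  have hp1 : p ≠ 1 := by
    intro h
    rw [h, map_one] at hy'
    have : ψ r = 1 := by
      rw [hy, mul_inv_eq_one, mul_eq_left] at hy'; exact hy'.1
    exact perm_rels.2.2.2.2.2.2.2.2.2 (P.inj (by rw [this, map_one]))
  have hpb : p * swap 0 1 = swap 0 1 * p :=
    P.inj (by rw [map_mul, map_mul, P.map_b, ← hy'.1, c1])
  have hrev : r⁻¹ = swap (3 : Fin 5) 4 * swap 2 3 :=
    inv_eq_of_mul_eq_one_right perm_rels.2.2.2.2.2.2.2.2.1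
  rcases perm_three p hy'.2 hp1 hpb with h | h
  · left
    intro s hs
    rw [kRels, List.mem_singleton] at hs
    subst hs
    simp only [cond_false, wprod_append', wprod_rev, er, ek]
    rw [← hy, hy'.1, h, ← hr, mul_inv_cancel]
  · right
    intro s hs
    rw [kRels, List.mem_singleton] at hs
    subst hs
    simp only [cond_true, wprod_append', wprod_rev, er, ek]
    rw [← hy, hy'.1, h, ← hrev, ← map_mul, inv_mul_cancel, map_one]

end Psi

/-- An enumeration of index one is impossible: `ψ (2 3)` does not commute with `t`. -/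
theorem Psi.false_of_collapse (P : Psi D ψ) {C : Cert} {T : Table} {live fin : Tr}
    (hC : Covered C T live fin) (hn : T.n = 1) (hg : T.g = 8)
    (hsubs : C.subs = CertMain.subs) (hR : ∀ r ∈ C.rels, wprod (D.lett ψ) r = 1) : False := by
  have h6 : 6 < T.g := by omega
  have h0 : 0 < T.n := by omega
  have hS : ∀ r ∈ C.subs, wprod (D.lett ψ) r ∈ Subgroup.centralizer ({t} : Set G) := by
    rw [hsubs]; exact sub_le_centralizer D ψ
  have h := hC.smul_coset (D.lett ψ) (Subgroup.centralizer ({t} : Set G)) (D.lett_mul_self ψ)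
    hR hS h6 h0
  have happ : T.app 0 6 = 0 := by
    have := (hC.rows 0 h0 6 h6).1
    omega
  rw [happ, hC.coset_zero (D.lett ψ) _] at h
  have h' : D.lett ψ 6 ∈ Subgroup.centralizer ({t} : Set G) := by
    have h1 : ((D.lett ψ 6 * 1 : G) : G ⧸ Subgroup.centralizer ({t} : Set G)) = ((1 : G) : _) := h
    rw [mul_one, QuotientGroup.eq, mul_one, inv_mem_iff] at h1
    exact h1
  rw [D.lett_six] at h'
  exact P.not_comm_u (Subgroup.mem_centralizer_singleton_iff.1 h')

theorem Psi.rels_of_case (P : Psi D ψ)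
    (h0 : ψ (swap 1 2) * D.el h0i * ψ (swap 1 2) = D.el (imgPairs.getD 3 (0, 0)).1)
    (h1 : ψ (swap 1 2) * D.el h1i * ψ (swap 1 2) = D.el (imgPairs.getD 3 (0, 0)).2) :
    ∀ r ∈ CertMain.rels, wprod (D.lett ψ) r = 1 := by
  have hc := P.wprod_rels_common
  have h3 := P.wprod_caseRels (by norm_num) h0 h1
  rcases P.wprod_kRels with hk | hk
  · intro r hr
    rw [rels_eq.1] at hr
    simp only [List.mem_append] at hr hc
    rcases hr with (((h | h) | h) | h) | h
    exacts [hc r (.inl (.inl h)), hc r (.inl (.inr h)), h3 r h, hk r h, hc r (.inr h)]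
  · refine (P.false_of_collapse CertE3.covered rfl rfl subs_eq.2.2.2 fun r hr => ?_).elim
    change r ∈ CertE3.rels at hr
    rw [rels_eq.2.1] at hr
    simp only [List.mem_append] at hr hc
    rcases hr with (((h | h) | h) | h) | h
    exacts [hc r (.inl (.inl h)), hc r (.inl (.inr h)), h3 r h, hk r h, hc r (.inr h)]

/-- The relators hold for the data or for the twisted data. -/
theorem Psi.exists_rels (P : Psi D ψ) : ∃ D' : Data t, Psi D' ψ ∧ D'.el ai = D.el ai ∧
    ∀ r ∈ CertMain.rels, wprod (D'.lett ψ) r = 1 := by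
  obtain ⟨i, hi, h0, h1⟩ := P.exists_case
  have hc := P.wprod_rels_common
  interval_cases i
  · refine (P.false_of_collapse CertE0.covered rfl rfl subs_eq.2.1 fun r hr => ?_).elim
    change r ∈ CertE0.rels at hr
    rw [rels_eq.2.2.1] at hr
    simp only [List.mem_append] at hr hc
    rcases hr with ((h | h) | h) | h
    exacts [hc r (.inl (.inl h)), hc r (.inl (.inr h)),
      P.wprod_caseRels (by norm_num) h0 h1 r h, hc r (.inr h)]
  · refine ⟨D.twist, P.twist, congrArg D.el theta_fix.2.2.1, P.twist.rels_of_case ?_ ?_⟩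
    all_goals
      have h := twist_chk
      simp only [List.all_cons, List.all_nil, Bool.and_true, Bool.and_eq_true, List.any_eq_true] at h
      have hw := wlist_chk
      simp only [Bool.and_eq_true, List.all_eq_true] at hw
      have hlt : (imgPairs.getD 1 (0, 0)).1 < 192 ∧ (imgPairs.getD 1 (0, 0)).2 < 192 := by
        decide +kernel
    · obtain ⟨⟨r, hr, e1, e2⟩, -⟩ := h
      obtain ⟨⟨g5, he⟩, -⟩ := hw.1.1.1.1.1.1 r hr
      have := P.conj_ev hlt.1 hlt.2 h0 h1 r.2 fun g hg => by simpa [Nat.blt] using g5 g hg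
      rw [Nat.eq_of_beq_eq_true he, Nat.eq_of_beq_eq_true e1, Nat.eq_of_beq_eq_true e2] at this
      exact this
    · obtain ⟨-, r, hr, e1, e2⟩ := h
      obtain ⟨⟨g5, he⟩, -⟩ := hw.1.1.1.1.1.1 r hr
      have := P.conj_ev hlt.1 hlt.2 h0 h1 r.2 fun g hg => by simpa [Nat.blt] using g5 g hg
      rw [Nat.eq_of_beq_eq_true he, Nat.eq_of_beq_eq_true e1, Nat.eq_of_beq_eq_true e2] at this
      exact this
  · refine (P.false_of_collapse CertE2.covered rfl rfl subs_eq.2.2.1 fun r hr => ?_).elim
    change r ∈ CertE2.rels at hr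
    rw [rels_eq.2.2.2] at hr
    simp only [List.mem_append] at hr hc
    rcases hr with ((h | h) | h) | h
    exacts [hc r (.inl (.inl h)), hc r (.inl (.inr h)),
      P.wprod_caseRels (by norm_num) h0 h1 r h, hc r (.inr h)]
  · exact ⟨D, P, rfl, P.rels_of_case h0 h1⟩

end CfsgLib.InvChar.M12C
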