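import Cfsg.Agent.Lib.InvChar.M12C.TableData
import Mathlib.Tactic

/-!
# Groups with the centraliser of a 2-central involution of `M12`

`Data t` numbers the centraliser of `t` by the table. Facts about the centraliser are then checked
on the numbers.
-/

set_option autoImplicit false
set_option maxRecDepth 100000
set_option Elab.async false

namespace CfsgLib.InvChar.M12C

open CfsgLib.InvChar.Coset

universe u

/-- Product of two numbers. -/
noncomputable def mul (i j : ℕ) : ℕ := field mulTree 128 8 (i * 192 + j)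

/-- Inverse of a number. -/
noncomputable def inv (i : ℕ) : ℕ := field invTree 128 8 i

/-- Conjugate `k i k⁻¹`. -/
noncomputable def conj (k i : ℕ) : ℕ := mul (mul k i) (inv k)

/-- The class size of an involution, `0` for the other numbers. -/
noncomputable def lab (i : ℕ) : ℕ := field labTree 128 5 i

/-- The representative of a class of involutions. -/
noncomputable def rep (c : ℕ) : ℕ :=
  bif Nat.beq c 1 then zi else bif Nat.beq c 6 then Xi else bif Nat.beq c 12 then ai else wi

/-- Conjugating number taking the representative to an involution. -/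
noncomputable def wit (i : ℕ) : ℕ := field witTree 128 8 i

/-- Commutation of numbers. -/
noncomputable def comm (i j : ℕ) : Bool := Nat.beq (mul i j) (mul j i)

/-- A test on all numbers below 192. -/
noncomputable def all192 (p : ℕ → Bool) : Bool := (List.range 192).all p

theorem all192_get {p : ℕ → Bool} (h : all192 p = true) {i : ℕ} (hi : i < 192) : p i = true :=
  List.all_eq_true.1 h i (List.mem_range.2 hi)

theorem mul_lt_chk : all192 (fun i => all192 fun j => Nat.blt (mul i j) 192) = true := by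
  decide +kernel

theorem inv_chk : all192 (fun i => Nat.blt (inv i) 192 && Nat.beq (mul i (inv i)) 0 &&
    Nat.beq (mul (inv i) i) 0 && Nat.beq (mul 0 i) i && Nat.beq (mul i 0) i &&
    Nat.blt (wit i) 192) = true := by decide +kernel

theorem lab_chk : all192 (fun i =>
    ((Nat.beq (lab i) 1 || Nat.beq (lab i) 6 || Nat.beq (lab i) 12 || Nat.beq (lab i) 24) &&
      Nat.beq (mul i i) 0 && !Nat.beq i 0 && Nat.beq (conj (wit i) (rep (lab i))) i) ||
    (Nat.beq (lab i) 0 && (Nat.beq i 0 || !Nat.beq (mul i i) 0))) = true := by decide +kernel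

theorem center_chk : all192 (fun i => !(all192 fun j => comm i j) || Nat.beq i 0 || Nat.beq i zi)
    = true := by decide +kernel

theorem mul_lt {i j : ℕ} (hi : i < 192) (hj : j < 192) : mul i j < 192 := by
  simpa [Nat.blt] using all192_get (all192_get mul_lt_chk hi) hj

theorem inv_facts {i : ℕ} (hi : i < 192) :
    inv i < 192 ∧ mul i (inv i) = 0 ∧ mul (inv i) i = 0 ∧ mul 0 i = i ∧ mul i 0 = i ∧ wit i < 192 := by
  have h := all192_get inv_chk hi
  simp only [Bool.and_eq_true] at h
  obtain ⟨⟨⟨⟨⟨h1, h2⟩, h3⟩, h4⟩, h5⟩, h6⟩ := h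
  exact ⟨by simpa [Nat.blt] using h1, Nat.eq_of_beq_eq_true h2, Nat.eq_of_beq_eq_true h3,
    Nat.eq_of_beq_eq_true h4, Nat.eq_of_beq_eq_true h5, by simpa [Nat.blt] using h6⟩

theorem inv_lt {i : ℕ} (hi : i < 192) : inv i < 192 := (inv_facts hi).1

theorem conj_lt {k i : ℕ} (hk : k < 192) (hi : i < 192) : conj k i < 192 :=
  mul_lt (mul_lt hk hi) (inv_lt hk)

/-- The centraliser of `t` numbered by the table. -/
structure Data {G : Type u} [Group G] (t : G) where
  /-- the element with a number -/
  el : ℕ → G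
  el_mul : ∀ {i j : ℕ}, i < 192 → j < 192 → el i * el j = el (mul i j)
  el_inj : ∀ {i j : ℕ}, i < 192 → j < 192 → el i = el j → i = j
  mem : ∀ {g : G}, g * t = t * g ↔ ∃ i < 192, el i = g
  el_zero : el 0 = 1
  el_zi : el zi = t

namespace Data

variable {G : Type u} [Group G] {t : G} (D : Data t)
include D

theorem el_inv {i : ℕ} (hi : i < 192) : (D.el i)⁻¹ = D.el (inv i) :=
  inv_eq_of_mul_eq_one_right (by
    rw [D.el_mul hi (inv_lt hi), (inv_facts hi).2.1, D.el_zero])

theorem el_conj {k i : ℕ} (hk : k < 192) (hi : i < 192) :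
    D.el k * D.el i * (D.el k)⁻¹ = D.el (conj k i) := by
  rw [D.el_mul hk hi, D.el_inv hk, D.el_mul (mul_lt hk hi) (inv_lt hk)]
  rfl

theorem el_eq_iff {i j : ℕ} (hi : i < 192) (hj : j < 192) : D.el i = D.el j ↔ i = j :=
  ⟨D.el_inj hi hj, fun h => by rw [h]⟩

theorem el_commute {i j : ℕ} (hi : i < 192) (hj : j < 192) :
    D.el i * D.el j = D.el j * D.el i ↔ comm i j = true := by
  rw [D.el_mul hi hj, D.el_mul hj hi, D.el_eq_iff (mul_lt hi hj) (mul_lt hj hi), comm]
  exact ⟨fun h => by rw [h]; exact Nat.beq_refl _, Nat.eq_of_beq_eq_true⟩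

theorem el_comm_t {i : ℕ} (hi : i < 192) : D.el i * t = t * D.el i := D.mem.2 ⟨i, hi, rfl⟩

/-- An involution commuting with `t` has a nonzero label and is conjugate to the representative. -/
theorem exists_wit {g : G} (hg : orderOf g = 2) (hgt : g * t = t * g) :
    ∃ i < 192, D.el i = g ∧ (lab i = 1 ∨ lab i = 6 ∨ lab i = 12 ∨ lab i = 24) ∧
      D.el (wit i) * D.el (rep (lab i)) * (D.el (wit i))⁻¹ = g := by
  obtain ⟨i, hi, rfl⟩ := D.mem.1 hgt
  have hne : i ≠ 0 := fun h => by rw [h, D.el_zero, orderOf_one] at hg; omega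
  have hsq : mul i i = 0 := by
    refine D.el_inj (mul_lt hi hi) (by norm_num) ?_
    rw [← D.el_mul hi hi, D.el_zero, ← pow_two, ← hg, pow_orderOf_eq_one]
  have h := all192_get lab_chk hi
  simp only [Bool.and_eq_true, Bool.or_eq_true] at h
  rcases h with ⟨⟨⟨hl, -⟩, -⟩, hw⟩ | ⟨-, h0 | h0⟩
  · have hl' : lab i = 1 ∨ lab i = 6 ∨ lab i = 12 ∨ lab i = 24 := by
      rcases hl with ((h | h) | h) | h <;> simp [Nat.eq_of_beq_eq_true h]
    have hrep : rep (lab i) < 192 := by
      rcases hl' with h | h | h | h <;> rw [h] <;> decide +kernel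
    exact ⟨i, hi, rfl, hl', by
      rw [D.el_conj (inv_facts hi).2.2.2.2.2 hrep, Nat.eq_of_beq_eq_true hw]⟩
  · exact absurd (Nat.eq_of_beq_eq_true h0) hne
  · rw [hsq] at h0; exact absurd h0 (by decide)

theorem orderOf_el {i : ℕ} (hi : i < 192) (h0 : i ≠ 0) (h2 : mul i i = 0) :
    orderOf (D.el i) = 2 :=
  orderOf_eq_prime (by rw [pow_two, D.el_mul hi hi, h2, D.el_zero])
    (fun h => h0 (D.el_inj hi (by norm_num) (by rw [h, D.el_zero])))

theorem card_centralizer [Finite G] : Nat.card (Subgroup.centralizer ({t} : Set G)) = 192 := by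
  have e : Fin 192 ≃ Subgroup.centralizer ({t} : Set G) := Equiv.ofBijective
    (fun i => ⟨D.el i, Subgroup.mem_centralizer_singleton_iff.2 (D.el_comm_t i.2)⟩)
    ⟨fun i j h => Fin.ext (D.el_inj i.2 j.2 (congrArg Subtype.val h)), fun g => by
      obtain ⟨i, hi, hg⟩ := D.mem.1 (Subgroup.mem_centralizer_singleton_iff.1 g.2)
      exact ⟨⟨i, hi⟩, Subtype.ext hg⟩⟩
  rw [← Nat.card_congr e, Nat.card_fin]

end Data

end CfsgLib.InvChar.M12C
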